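import Cfsg.Agent.Lib.PiHom.U34.Three

/-!
# The contradiction in case three
-/

set_option autoImplicit false
set_option linter.unusedSectionVars false
set_option linter.style.haveILetI false

namespace Cfsg.Lib.PiHom.U34

open Cfsg Cfsg.Lib Cfsg.Lib.Block
open scoped ComplexConjugate Classical

universe u

variable {G : Type u} [Group G] [Fintype G] {Kc : Subgroup G}

namespace Cyc

variable {S : Sylow 2 G} {E : Subgroup G} {t o : G} (C : Cyc Kc S E t o)
include C

omit C in
/-- The value on the elements of order four. -/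
noncomputable def f4 (μ : ↥(S : Subgroup G) →* ℂˣ) (o x : G) : ℂ := 3 - msum μ o x

variable {μ : ↥(S : Subgroup G) →* ℂˣ} (hμE : ∀ z : ↥(S : Subgroup G), (z : G) ∈ E → μ z = 1)
include hμE

theorem inv_three : Inv Kc S E t 1 (f4 μ o) (fun _ => 0) :=
  ⟨fun n hn u hu _ => by simp only [f4, C.msum_norm hμE hn hu], fun _ _ _ _ => rfl⟩

theorem msum_real {x : G} (hx : x ∈ (S : Subgroup G)) : conj (msum μ o x) = msum μ o x := by
  simp only [msum, map_add, (C.mu_real hμE hx _).1]

theorem theta_three_virtual : IsGeneralizedCharacter G (theta Kc S t 1 (f4 μ o) (fun _ => 0)) := by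
  have hgen : ∀ k : ℕ, IsGeneralizedCharacter (S : Subgroup G)
      (fun s : ↥(S : Subgroup G) => mu μ o k s) := by
    intro k
    let f : ↥(S : Subgroup G) →* ℂ :=
      { toFun := fun s => mu μ o k s
        map_one' := by rw [OneMemClass.coe_one, C.mu_E hμE (one_mem _)]
        map_mul' := fun a b => by rw [Subgroup.coe_mul, C.mu_mul a.2 b.2] }
    exact (Char.isIrrCharacter_linear f.toHomUnits).isGeneralized
  refine C.toCtx.theta_virtual (C.inv_three hμE)
    (φ := (fun _ : ↥(S : Subgroup G) => ((3 : ℕ) : ℂ)) -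
      ((fun s : ↥(S : Subgroup G) => mu μ o 0 s) + (fun s : ↥(S : Subgroup G) => mu μ o 1 s) +
        (fun s : ↥(S : Subgroup G) => mu μ o 2 s)))
    ((isGen_natCast 3).sub (((hgen 0).add (hgen 1)).add (hgen 2))) ?_ ?_ ?_ (fun _ _ _ _ _ _ => rfl) ?_
  · simp only [Pi.sub_apply, Pi.add_apply, OneMemClass.coe_one, C.mu_E hμE (one_mem _)]; norm_num
  · intro s _; simp [f4, msum]
  · intro s hs _
    simp only [Pi.sub_apply, Pi.add_apply, C.mu_E hμE hs]; norm_num
  · intro A P Q hP hQ hPQ h4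
    convert Char.isGeneralizedCharacter_zero (G := A) using 1
    funext a
    have := h4 a
    rw [hP] at this
    simp only [theta, if_neg this, Pi.zero_apply]
    split_ifs <;> rfl

/-- Sums over the square roots of `t` of functions invariant under `o`. -/
theorem sum_fib {H : G → ℂ} (hH : ∀ x ∈ (S : Subgroup G), H (o * x * o⁻¹) = H x) :
    3 * ∑ x ∈ Finset.univ.filter (fun x => x ∈ Fib (S : Subgroup G) t), H x =
      ∑ s : ↥(S : Subgroup G), H s - ∑ s ∈ Finset.univ.filter (fun x => x ∈ E), H s := by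
  obtain ⟨hall, -⟩ := C.o_cyc
  set A : G → ℂ := fun z => ∑ x ∈ Finset.univ.filter (fun x => x ∈ Fib (S : Subgroup G) z), H x
  have hstep : ∀ z, A (o * z * o⁻¹) = A z := by
    intro z
    refine (Finset.sum_bij' (fun x _ => o * x * o⁻¹) (fun x _ => o⁻¹ * x * o) ?_ ?_ ?_ ?_ ?_).symm
    · intro x hx
      obtain ⟨-, hxS, hxz⟩ := Finset.mem_filter.1 hx
      refine Finset.mem_filter.2 ⟨Finset.mem_univ _, (Subgroup.mem_normalizer_iff.1 C.o_norm x).1 hxS, ?_⟩
      rw [← hxz]; group
    · intro x hx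
      obtain ⟨-, hxS, hxz⟩ := Finset.mem_filter.1 hx
      refine Finset.mem_filter.2 ⟨Finset.mem_univ _, ?_, ?_⟩
      · have := (Subgroup.mem_normalizer_iff.1 (inv_mem C.o_norm) x).1 hxS
        rwa [inv_inv] at this
      · calc o⁻¹ * x * o * (o⁻¹ * x * o) = o⁻¹ * (x * x) * o := by group
          _ = z := by rw [hxz]; group
    · intro x _; group
    · intro x _; group
    · intro x hx
      exact (hH x (Finset.mem_filter.1 hx).2.1).symm
  have hsplit : ∑ s : ↥(S : Subgroup G), H s =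
      ∑ s ∈ Finset.univ.filter (fun x => x ∈ E), H s +
        ∑ x ∈ Finset.univ.filter (fun x => x ∈ (S : Subgroup G) ∧ x ∉ E), H x := by
    rw [← Finset.sum_subtype (Finset.univ.filter fun x => x ∈ (S : Subgroup G)) (fun x => by simp) H,
      ← Finset.sum_filter_add_sum_filter_not (Finset.univ.filter fun x => x ∈ (S : Subgroup G))
        (fun x => x ∈ E), Finset.filter_filter, Finset.filter_filter]
    congr 1
    exact Finset.sum_congr (Finset.filter_congr fun x _ => ⟨fun h => h.2, fun h => ⟨C.hs.le h, h⟩⟩)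
      fun _ _ => rfl
  set z1 := o * t * o⁻¹ with hz1
  set z2 := o ^ 2 * t * (o ^ 2)⁻¹ with hz2
  have hd1 : t ≠ z1 := Ne.symm C.o_move
  have h21 : z2 = o * z1 * o⁻¹ := by rw [hz2, hz1, pow_two]; group
  have hd12 : z1 ≠ z2 := by
    rw [h21]
    exact Ne.symm (C.not_fixed (C.toCtx.E_normalized C.o_norm C.ht) fun h => C.ht1 (conj_eq_one_iff.1 h))
  have hd2 : t ≠ z2 := by
    intro h
    refine C.not_fixed C.ht C.ht1 ?_
    have h3 := C.o_cyc.2
    calc o * t * o⁻¹ = o * z2 * o⁻¹ := by rw [← h]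
      _ = o ^ 3 * t * (o ^ 3)⁻¹ := by rw [hz2, pow_succ' o 2]; group
      _ = t := h3
  have hfib : ∑ x ∈ Finset.univ.filter (fun x => x ∈ (S : Subgroup G) ∧ x ∉ E), H x =
      A t + A z1 + A z2 := by
    rw [← Finset.sum_fiberwise_of_maps_to (t := ({t, z1, z2} : Finset G)) (g := fun x => x * x)
      (fun x hx => by
        obtain ⟨-, hxS, hxE⟩ := Finset.mem_filter.1 hx
        rcases hall _ (C.hs.sq x hxS) (fun h => hxE (C.hs.invol x hxS h)) with h | h | h <;>
          simp [h, hz1, hz2]),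
      Finset.sum_insert (by simp [hd1, hd2]), Finset.sum_pair hd12, ← add_assoc]
    have he : ∀ z ∈ E, z ≠ 1 →
        ∑ x ∈ (Finset.univ.filter (fun x => x ∈ (S : Subgroup G) ∧ x ∉ E)).filter (fun x => x * x = z), H x =
          A z := by
      intro z hz hz0
      refine Finset.sum_congr (Finset.ext fun x => ?_) fun _ _ => rfl
      simp only [Finset.mem_filter, Finset.mem_univ, true_and]
      exact ⟨fun h => ⟨h.1.1, h.2⟩, fun h => ⟨⟨h.1, fun hxE => hz0 (h.2.symm.trans (C.hs.esq x hxE))⟩, h.2⟩⟩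
    rw [he t C.ht C.ht1, he z1 (C.toCtx.E_normalized C.o_norm C.ht) (fun h => C.ht1 (conj_eq_one_iff.1 h)),
      he z2 (C.toCtx.E_normalized (C.o_pow_norm 2) C.ht) (fun h => C.ht1 (conj_eq_one_iff.1 h))]
  rw [hsplit, hfib, add_sub_cancel_left, show A z2 = A t by rw [h21, hstep, hz1, hstep],
    show A z1 = A t from hstep t]
  show 3 * A t = _
  ring

variable (horth : ∀ i j : ℕ, i < 3 → j < 3 → i ≠ j →
  ∑ s : ↥(S : Subgroup G), mu μ o i s * mu μ o j s = 0)
include horth

theorem sum_f4 :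
    ∑ x ∈ Finset.univ.filter (fun x => x ∈ Fib (S : Subgroup G) t), f4 μ o x = 64 ∧
    ∑ x ∈ Finset.univ.filter (fun x => x ∈ Fib (S : Subgroup G) t), f4 μ o x * f4 μ o x = 256 := by
  have hmu1 : ∀ k, ∑ s : ↥(S : Subgroup G), mu μ o k s = 0 := by
    intro k
    let ν : ↥(S : Subgroup G) →* ℂ :=
      { toFun := fun s => mu μ o k s
        map_one' := by rw [OneMemClass.coe_one, C.mu_E hμE (one_mem _)]
        map_mul' := fun a b => by rw [Subgroup.coe_mul, C.mu_mul a.2 b.2] }
    have hν : ν.toHomUnits ≠ 1 := by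
      intro h
      have h1 : ∀ x ∈ (S : Subgroup G), mu μ o k x = 1 := fun x hx =>
        congrArg (fun f : ↥(S : Subgroup G) →* ℂˣ => (f ⟨x, hx⟩ : ℂ)) h
      have hall : ∀ x ∈ (S : Subgroup G), ∀ i, mu μ o i x = 1 := by
        intro x hx i
        have key : ∀ i, mu μ o (k + i) x = 1 := fun i => by rw [← mu_shift μ o x k i]; exact h1 _ (C.o_mem hx i)
        have h3 : ∀ q m, mu μ o (m + 3 * q) x = mu μ o m x := by
          intro q
          induction q with
          | zero => intro m; rfl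
          | succ q ih => intro m; rw [show m + 3 * (q + 1) = m + 3 * q + 3 by ring, C.mu_three hx, ih]
        rw [← h3 k i, show i + 3 * k = k + (i + 2 * k) by ring]
        exact key _
      have := horth 0 1 (by norm_num) (by norm_num) (by norm_num)
      rw [Finset.sum_congr rfl fun (s : ↥(S : Subgroup G)) _ => by
        rw [hall s s.2 0, hall s s.2 1, one_mul], Finset.sum_const, Finset.card_univ,
        ← Nat.card_eq_fintype_card, C.hs.cardS] at this
      norm_num at this
    have h := sum_conj_hom ν.toHomUnits hν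
    rw [← map_sum, map_eq_zero] at h
    exact h
  have hm1 : ∑ s : ↥(S : Subgroup G), msum μ o s = 0 := by
    simp only [msum, Finset.sum_add_distrib, hmu1]; norm_num
  have hsq : ∀ k, ∑ s : ↥(S : Subgroup G), mu μ o k s * mu μ o k s = 64 := by
    intro k
    rw [Finset.sum_congr rfl fun s _ => (C.mu_real hμE s.2 k).2, Finset.sum_const, Finset.card_univ,
      ← Nat.card_eq_fintype_card, C.hs.cardS]
    norm_num
  have hm2 : ∑ s : ↥(S : Subgroup G), msum μ o s * msum μ o s = 192 := by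
    simp only [msum, add_mul, mul_add, Finset.sum_add_distrib, hsq,
      horth 0 1 (by norm_num) (by norm_num) (by norm_num), horth 1 0 (by norm_num) (by norm_num) (by norm_num),
      horth 0 2 (by norm_num) (by norm_num) (by norm_num), horth 2 0 (by norm_num) (by norm_num) (by norm_num),
      horth 1 2 (by norm_num) (by norm_num) (by norm_num), horth 2 1 (by norm_num) (by norm_num) (by norm_num)]
    norm_num
  have hS : (Fintype.card ↥(S : Subgroup G) : ℂ) = 64 := by
    rw [← Nat.card_eq_fintype_card, C.hs.cardS]; norm_num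
  have hEc : (Finset.univ.filter (fun x => x ∈ E)).card = 4 := by
    rw [← Fintype.card_subtype, ← Nat.card_eq_fintype_card]; exact C.hs.cardE
  have hinv : ∀ x ∈ (S : Subgroup G), msum μ o (o * x * o⁻¹) = msum μ o x := fun x hx => by
    simpa using C.msum_shift (μ := μ) hx 1
  have hE0 : ∑ x ∈ Finset.univ.filter (fun x => x ∈ E), f4 μ o x = 0 := Finset.sum_eq_zero fun x hx => by
    rw [f4, C.msum_E hμE (Finset.mem_filter.1 hx).2, sub_self]
  have hE0' : ∑ x ∈ Finset.univ.filter (fun x => x ∈ E), f4 μ o x * f4 μ o x = 0 :=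
    Finset.sum_eq_zero fun x hx => by
      rw [f4, C.msum_E hμE (Finset.mem_filter.1 hx).2, sub_self, mul_zero]
  refine ⟨?_, ?_⟩
  · have h := C.sum_fib hμE (H := f4 μ o) (fun x hx => by simp only [f4, hinv x hx])
    rw [hE0] at h
    simp only [f4, Finset.sum_sub_distrib, Finset.sum_const, Finset.card_univ, nsmul_eq_mul, hm1, hS,
      smul_zero, mul_zero, sub_zero] at h ⊢
    linear_combination h / 3
  · have h := C.sum_fib hμE (H := fun x => f4 μ o x * f4 μ o x) (fun x hx => by simp only [f4, hinv x hx])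
    rw [hE0'] at h
    have e : ∑ s : ↥(S : Subgroup G), f4 μ o s * f4 μ o s = 768 := by
      have e' : ∀ s : G, f4 μ o s * f4 μ o s = 9 - 6 * msum μ o s + msum μ o s * msum μ o s := fun s => by
        rw [f4]; ring
      simp only [e', Finset.sum_add_distrib, Finset.sum_sub_distrib, ← Finset.mul_sum, hm1, hm2,
        Finset.sum_const, Finset.card_univ, nsmul_eq_mul, hS]
      norm_num
    simp only [e, Finset.sum_const_zero, sub_zero] at h
    linear_combination h / 3

end Cyc

namespace Ctx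

variable {S : Sylow 2 G} {E : Subgroup G} {t : G} (c : Ctx Kc S E t)
include c

/-- Case three is impossible. -/
theorem false_three (hK : Kc ≠ ⊥)
    (h3 : ∀ x, Odd (orderOf x) → x ∈ Subgroup.normalizer ((S : Subgroup G) : Set G) → x ∈ Ct t →
      ∀ y ∈ (S : Subgroup G), Commute x y) : False := by
  obtain ⟨o, C⟩ := c.exists_cyc h3
  obtain ⟨μ, hμE, horth⟩ := C.exists_mu
  obtain ⟨M, hM⟩ := exists_isPModular (q := 2) Nat.prime_two
  obtain ⟨hs1, hs2⟩ := C.sum_f4 hμE horth
  have hls : ∀ u ∈ (S : Subgroup G), u ∉ E → ∀ x ∈ Ct t, Commute x u →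
      ∃ l s : G, l ∈ lsub Kc S t ∧ s ∈ (S : Subgroup G) ∧ x = l * s :=
    fun _ _ _ _ hx _ => c.decomp_three h3 hx
  have hoddL : ∀ x ∈ Ct t, Odd (orderOf x) → x ∈ lsub Kc S t := by
    intro x hx hox
    obtain ⟨l, s, hl, hs, rfl⟩ := c.decomp_three h3 hx
    exact c.lsub_of_odd hl hs hox
  set Θ := theta Kc S t 1 (Cyc.f4 μ o) (fun _ => 0)
  set f := theta Kc S t 1 (fun _ => 0) (fun _ => 64)
  have hiΘ := C.inv_three hμE
  have hif : Inv Kc S E t 1 (fun _ => 0) (fun _ => (64 : ℂ)) := ⟨fun _ _ _ _ _ => rfl, fun _ _ _ _ => rfl⟩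
  have hΘc : IsClassFunction G Θ := c.theta_class hiΘ
  have hfc : IsClassFunction G f := c.theta_class hif
  have hcard := c.card_Ct_three h3
  have hL : (Nat.card (lsub Kc S t) : ℂ) ≠ 0 := Char.card_cast_ne_zero
  have hinner : ∀ {F F' : G → ℂ} (v4 : G → ℂ) (v0 : ℂ), IsClassFunction G F → IsClassFunction G F' →
      (∀ x, pPt 2 x = 1 → F x = 0) →
      (∀ l ∈ lsub Kc S t, ∀ s ∈ (S : Subgroup G), s ∉ E → s * s = t → F (l * s) * conj (F' (l * s)) = v4 s) →
      (∀ l ∈ lsub Kc S t, F (l * t) * conj (F' (l * t)) = v0) →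
      classInner F F' = (∑ x ∈ Finset.univ.filter (fun x => x ∈ Fib (S : Subgroup G) t), v4 x + v0) / 64 := by
    intro F F' v4 v0 hF hF' h0 h4 ht
    rw [c.classInner_local hF hF' h0 hcard (c.sum_three h3 (H := fun x => F x * conj (F' x)) h4 ht)]
    push_cast
    field_simp
  have hΘ4 : ∀ l ∈ lsub Kc S t, ∀ s ∈ (S : Subgroup G), s ∉ E → Θ (l * s) = Cyc.f4 μ o s :=
    fun l hl s hs hsE => c.theta_ls_four hiΘ hl hs hsE
  have hΘt : ∀ l ∈ lsub Kc S t, Θ (l * t) = 0 := fun l hl =>
    c.theta_lt hiΘ hl (fun _ _ => Or.inr fun _ => rfl)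
  have hft : ∀ l ∈ lsub Kc S t, f (l * t) = 64 := fun l hl =>
    c.theta_lt hif hl (fun _ _ => Or.inr fun _ => rfl)
  have hf4' : ∀ l ∈ lsub Kc S t, ∀ s ∈ (S : Subgroup G), s ∉ E → f (l * s) = 0 :=
    fun l hl s hs hsE => c.theta_ls_four hif hl hs hsE
  have hreal : ∀ s ∈ (S : Subgroup G), conj (Cyc.f4 μ o s) = Cyc.f4 μ o s := fun s hs => by
    simp only [Cyc.f4, map_sub, C.msum_real hμE hs, map_ofNat]
  have hΘ1 : classInner Θ (fun _ => (1 : ℂ)) = 1 := by
    rw [hinner (Cyc.f4 μ o) 0 hΘc (fun _ _ => rfl) (fun x hx => c.theta_one hx)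
      (fun l hl s hs hsE _ => by rw [map_one, mul_one, hΘ4 l hl s hs hsE])
      (fun l hl => by rw [map_one, mul_one, hΘt l hl]), hs1]
    norm_num
  have hΘΘ : classInner Θ Θ = 4 := by
    rw [hinner (fun s => Cyc.f4 μ o s * Cyc.f4 μ o s) 0 hΘc hΘc (fun x hx => c.theta_one hx)
      (fun l hl s hs hsE _ => by rw [hΘ4 l hl s hs hsE, hreal s hs])
      (fun l hl => by rw [hΘt l hl, zero_mul]), hs2]
    norm_num
  have hf1 : classInner f (fun _ => (1 : ℂ)) = 1 := by
    rw [hinner (fun _ => 0) 64 hfc (fun _ _ => rfl) (fun x hx => c.theta_one hx)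
      (fun l hl s hs hsE _ => by rw [map_one, mul_one, hf4' l hl s hs hsE])
      (fun l hl => by rw [map_one, mul_one, hft l hl]), Finset.sum_const_zero]
    norm_num
  have hff : classInner f f = 64 := by
    rw [hinner (fun _ => 0) (64 * 64) hfc hfc (fun x hx => c.theta_one hx)
      (fun l hl s hs hsE _ => by rw [hf4' l hl s hs hsE, zero_mul])
      (fun l hl => by rw [hft l hl, map_ofNat]), Finset.sum_const_zero]
    norm_num
  choose b hb using fun χ : IrrCharacter G =>
    (Char.isGeneralizedCharacter_iff.1 (C.theta_three_virtual hμE)).2 _ χ.2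
  have hb1 : b (trivChar G) = 1 := by
    have h := hb (trivChar G)
    rw [trivChar_coe] at h
    rw [show theta Kc S t 1 (Cyc.f4 μ o) (fun _ => 0) = Θ from rfl, hΘ1] at h
    exact_mod_cast h.symm
  have hbsum : ∑ χ : IrrCharacter G, b χ * b χ = 4 := by
    have h := Char.classInner_eq_sum (f' := Θ) hΘc
    rw [hΘΘ, Finset.sum_congr rfl fun χ _ => by
      rw [show classInner Θ (χ : G → ℂ) = (b χ : ℂ) from hb χ, map_intCast]] at h
    exact_mod_cast h.symm
  set P := Finset.univ.erase (trivChar G)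
  have hbP : ∀ χ ∈ P, |b χ| ≤ 1 := by
    intro χ hχ
    have h : b (trivChar G) * b (trivChar G) + b χ * b χ ≤ 4 := by
      rw [← hbsum, ← Finset.add_sum_erase Finset.univ _ (Finset.mem_univ (trivChar G))]
      exact add_le_add le_rfl (Finset.single_le_sum (f := fun χ => b χ * b χ)
        (fun χ _ => mul_self_nonneg _) hχ)
    rw [hb1] at h
    rw [abs_le]
    constructor <;> nlinarith
  -- values at `t`
  have htreal : ∀ χ : IrrCharacter G, conj ((χ : G → ℂ) t) = (χ : G → ℂ) t := fun χ => by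
    rw [← χ.2.isCharacter.apply_inv, c.hs.inv_eq c.ht]
  -- the bound
  have key : ∀ χ ∈ P, -((b χ : ℝ) * ((χ : G → ℂ) t).re ^ 2 / ((χ : G → ℂ) 1).re) ≤
      Complex.normSq (classInner f (χ : G → ℂ)) / 64 := by
    intro χ hχP
    have hpos : 0 ≤ Complex.normSq (classInner f (χ : G → ℂ)) / 64 :=
      div_nonneg (Complex.normSq_nonneg _) (by norm_num)
    by_cases hb0 : b χ = 0
    · rw [hb0]; simpa using hpos
    have hB : χ ∈ principalBlock M G := by
      by_contra hB
      have h0 := c.classInner_theta_zero hM hiΘ hls hB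
        (Finset.sum_eq_zero fun y _ => by rw [zero_mul])
      rw [hb χ] at h0
      exact hb0 (by exact_mod_cast h0)
    have hval : ∀ l ∈ lsub Kc S t, ∀ s ∈ (S : Subgroup G), s ≠ 1 →
        (χ : G → ℂ) (l * s) = (χ : G → ℂ) s := by
      intro l hl s hs hs1
      obtain ⟨⟨m, hm, hw⟩, hr⟩ := c.pPt_ls hl hs
      by_cases hsE : s ∈ E
      swap
      · have e : m⁻¹ * pPt 2 (l * s) * m⁻¹⁻¹ = s := by rw [hw]; group
        rw [c.principal_four hM hls hB (y := m⁻¹)
          (by rw [hw, orderOf_conj', c.orderOf_four hs hsE]) (by rw [e]; exact hs), e]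
      obtain ⟨q0, hq0n, -, hq0⟩ := c.odd_trans hsE hs1
      have hgen : ∀ l ∈ lsub Kc S t, Commute l s → (χ : G → ℂ) (s * l) = (χ : G → ℂ) t := by
        intro l hl hc
        have hin : q0 * l * q0⁻¹ ∈ lsub Kc S t := by
          refine hoddL _ (mem_Ct.2 ?_) (by rw [orderOf_conj']; exact c.lsub_odd hl)
          have h1 := hc.map (MulAut.conj q0).toMonoidHom
          simp only [MulEquiv.toMonoidHom_eq_coe, MonoidHom.coe_coe, MulAut.conj_apply] at h1
          rwa [hq0] at h1
        rw [← χ.2.isClassFunction (s * l) q0,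
          show q0 * (s * l) * q0⁻¹ = (q0 * s * q0⁻¹) * (q0 * l * q0⁻¹) by group, hq0,
          c.principal_t hM hB hin]
      have hs0 := hgen 1 (one_mem _) (Commute.one_left s)
      rw [mul_one] at hs0
      set q := m⁻¹ * pReg 2 (l * s) * m with hq
      have hqs : Commute q s := by
        have := ((pPt_commute_pReg (p := 2) (l * s)).symm).map (MulAut.conj m⁻¹).toMonoidHom
        simpa [hw, hq, mul_assoc] using this
      have e1 : l * s = m * (s * q) * m⁻¹ := by
        conv_lhs => rw [← pPt_mul_pReg (p := 2) (l * s), hw]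
        rw [hq]; group
      rw [e1, χ.2.isClassFunction, hgen q (mul_mem (mul_mem (inv_mem hm) hr) hm) hqs, hs0]
    have hne : (χ : G → ℂ) ≠ fun _ => 1 := fun h => (Finset.mem_erase.1 hχP).1 (Subtype.ext h)
    obtain ⟨H, hKH, hSH, hn, hcop, hidx, -, hdecH⟩ := c.hall
    set KH := (Kc).subgroupOf H
    haveI := hn
    haveI := Fintype.ofFinite H
    haveI := Fintype.ofFinite KH
    have hcH : ∀ x : H, x ∉ KH → ∀ k ∈ KH, (χ : G → ℂ) ((x * k : H) : G) = (χ : G → ℂ) (x : G) := by
      intro x hx k hk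
      obtain ⟨k0, hk0, x0, hx0, hk0x⟩ := hdecH _ x.2
      have hx1 : x0 ≠ 1 := fun h => hx (Subgroup.mem_subgroupOf.2 (by rw [← hk0x, h, mul_one]; exact hk0))
      have hconj : x0 * (k : G) * x0⁻¹ ∈ Kc :=
        c.core_conj (c.sylow_le_Ct hx0) (Subgroup.mem_subgroupOf.1 hk)
      rw [Subgroup.coe_mul, ← hk0x, show k0 * x0 * (k : G) = k0 * (x0 * (k : G) * x0⁻¹) * x0 by group,
        hval _ (le_sup_left (b := dsub S) (mul_mem hk0 hconj)) x0 hx0 hx1,
        hval _ (le_sup_left (b := dsub S) hk0) x0 hx0 hx1]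
    obtain ⟨kk, hkk, hkkne⟩ := c.faithful hK hne
    obtain ⟨d0, n, -, hn0, hdeg⟩ := degree_mod KH hcop (χ.2.isCharacter.comp H.subtype) hcH
      ⟨⟨kk, hKH hkk⟩, Subgroup.mem_subgroupOf.2 hkk, hkkne⟩
    rw [hidx] at hdeg
    simp only [Subgroup.coe_subtype, OneMemClass.coe_one] at hdeg
    have hd : (64 : ℝ) ≤ ((χ : G → ℂ) 1).re := by
      rw [hdeg, Complex.natCast_re]
      exact_mod_cast (show 64 ≤ d0 + 64 * n by omega)
    have hft2 : classInner f (χ : G → ℂ) = (χ : G → ℂ) t := by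
      rw [hinner (fun _ => 0) (64 * (χ : G → ℂ) t) hfc χ.2.isClassFunction (fun x hx => c.theta_one hx)
        (fun l hl s hs hsE _ => by rw [hf4' l hl s hs hsE, zero_mul])
        (fun l hl => by rw [hft l hl, hval l hl t c.t_mem c.ht1, htreal]), Finset.sum_const_zero]
      ring
    have hnsq : Complex.normSq (classInner f (χ : G → ℂ)) = ((χ : G → ℂ) t).re ^ 2 := by
      have him : ((χ : G → ℂ) t).im = 0 := Complex.conj_eq_iff_im.1 (htreal χ)
      rw [hft2, Complex.normSq_apply, him]; ring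
    rw [hnsq]
    have hb' : -(b χ : ℝ) ≤ 1 := by
      have := (abs_le.1 (hbP χ hχP)).1
      exact_mod_cast (by linarith : -(b χ) ≤ 1)
    have hdpos : 0 < ((χ : G → ℂ) 1).re := by linarith
    rw [← neg_div, div_le_div_iff₀ hdpos (by norm_num : (0 : ℝ) < 64)]
    have := sq_nonneg (((χ : G → ℂ) t).re)
    nlinarith
  -- the class multiplication
  set I : Finset G := Finset.univ.filter fun x => orderOf x = 2 with hI
  have hIc : Char.ConjClosed I := fun k x hx => by
    simp only [hI, Finset.mem_filter, Finset.mem_univ, true_and] at hx ⊢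
    rwa [orderOf_conj']
  have hsum := Char.sum_conjClosed_pair_eq (I := I) hIc hΘc
  have hz : ∑ x ∈ I, ∑ y ∈ I, Θ (x * y) = 0 :=
    Finset.sum_eq_zero fun x hx => Finset.sum_eq_zero fun y hy => c.theta_product hiΘ rfl
      (fun l _ => Or.inr fun _ => rfl) (Finset.mem_filter.1 hx).2 (Finset.mem_filter.1 hy).2
  rw [hz] at hsum
  have hIsum : ∀ χ : IrrCharacter G, ∑ x ∈ I, (χ : G → ℂ) x = (I.card : ℂ) * (χ : G → ℂ) t := by
    intro χ
    rw [Finset.sum_congr rfl fun x hx => by
      obtain ⟨y, hy⟩ := c.exists_conj_t (Finset.mem_filter.1 hx).2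
      rw [← χ.2.isClassFunction x y, hy], Finset.sum_const, nsmul_eq_mul]
  have hI0 : (I.card : ℂ) ≠ 0 :=
    Nat.cast_ne_zero.2 (Finset.card_ne_zero_of_mem (Finset.mem_filter.2 ⟨Finset.mem_univ t, c.orderOf_t⟩))
  have heq : ∑ χ : IrrCharacter G, ((b χ : ℝ) * ((χ : G → ℂ) t).re ^ 2 / ((χ : G → ℂ) 1).re) = 0 := by
    have e : ∑ χ : IrrCharacter G, (I.card : ℂ) * (I.card : ℂ) *
        (((b χ : ℝ) * ((χ : G → ℂ) t).re ^ 2 / ((χ : G → ℂ) 1).re : ℝ) : ℂ) = 0 := by
      rw [hsum]
      refine Finset.sum_congr rfl fun χ _ => ?_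
      obtain ⟨d, -, hd⟩ := χ.2.exists_degree
      rw [show classInner Θ (χ : G → ℂ) = (b χ : ℂ) from hb χ, hIsum, hd, Complex.natCast_re]
      push_cast
      rw [Complex.conj_eq_iff_re.1 (htreal χ)]
      ring
    rw [← Finset.mul_sum] at e
    have := (mul_eq_zero.1 e).resolve_left (mul_ne_zero hI0 hI0)
    exact_mod_cast this
  rw [← Finset.add_sum_erase Finset.univ _ (Finset.mem_univ (trivChar G)), hb1] at heq
  simp only [trivChar_coe, Int.cast_one, Complex.one_re, one_pow, mul_one, div_one] at heq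
  have hbessel : ∑ χ ∈ P, Complex.normSq (classInner f (χ : G → ℂ)) = 63 := by
    have h := Char.classInner_eq_sum (f' := f) hfc
    rw [hff, ← Finset.add_sum_erase Finset.univ _ (Finset.mem_univ (trivChar G)), trivChar_coe, hf1,
      map_one, one_mul] at h
    simp only [Complex.mul_conj] at h
    rw [← Complex.ofReal_sum] at h
    have h' := congrArg Complex.re h
    rw [Complex.add_re, Complex.one_re, Complex.ofReal_re] at h'
    simp only [Complex.re_ofNat] at h'
    linarith
  have hle := Finset.sum_le_sum key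
  rw [← Finset.sum_div, hbessel, Finset.sum_neg_distrib] at hle
  linarith

end Ctx

end Cfsg.Lib.PiHom.U34
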