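import Mathlib.Tactic.Linarith
import Mathlib.Tactic.Ring
import Mathlib.Data.Int.Range
import Mathlib.Tactic.IntervalCases
import Mathlib.Data.List.Range
import Mathlib.Algebra.BigOperators.Fin

/-!
# The arithmetical certificate

For the possible rows `(b₀, s, a)` of inner products of an irreducible character with the three basic
generalized characters, the contribution to the degree equation is bounded by a quadratic form.
-/

set_option autoImplicit false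

namespace Cfsg.Lib.PiHom.U34

/-- The bounding quadratic form. -/
def cert (b s a : ℤ) : ℤ := 11*b*b + 8*b*s + 4*s*s - 12*b*a - 11*s*a + 8*a*a

/-- The norm of a row, scaled. -/
def qnorm (b s a S : ℤ) : ℤ :=
  47*S + s*s + 56*b*b + 28*a*a - 6*b*s - 16*b*a - 26*s*a

/-- The smallest sum of four squares of integers with sum `s`, as far as needed. -/
def sqMin (s : ℤ) : ℤ :=
  if -4 ≤ s ∧ s ≤ 4 then (s.natAbs : ℤ) else (s.natAbs : ℤ) + 2

/-- The least degree allowed by the row. -/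
def degMin (b s a : ℤ) : ℤ :=
  let c := 12*(b + s) - 11*a
  let e := 5*a - 4*(b + s)
  let H := List.find? (fun h : ℤ => 0 ≤ h + a ∧ e ≤ 64*h + c ∧ -e ≤ 64*h + c) [0, 1, 2, 3]
  64 * (H.getD 4 + if 2 * qnorm b s a (sqMin s) ≤ 188 then 1 else 3) + c

theorem cert_check : ∀ b ∈ [-1, 0, 1], ∀ s ∈ [-4, -3, -2, -1, 0, 1, 2, 3, 4],
    ∀ a ∈ [-3, -2, -1, 0, 1, 2, 3],
    qnorm b s a (sqMin s) ≤ 188 →
      0 ≤ cert b s a ∧ 0 < degMin b s a ∧
      113 * -(5*b - (b + s) + 2*a) * ((5*a - 4*(b + s)) * (5*a - 4*(b + s))) ≤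
        6 * degMin b s a * cert b s a := by
  decide +kernel

theorem abs_le_mul_self (x : ℤ) : (x.natAbs : ℤ) ≤ x * x := by
  rw [← Int.natAbs_mul_self]
  exact_mod_cast Nat.le_mul_self _

set_option maxHeartbeats 2000000 in
/-- The range of a row. -/
theorem row_range {b s a : ℤ} {c : Fin 4 → ℤ} (hs : ∑ i, c i = s)
    (hq : qnorm b s a (∑ i, c i * c i) ≤ 188) :
    (-1 ≤ b ∧ b ≤ 1) ∧ (-4 ≤ s ∧ s ≤ 4) ∧ (-3 ≤ a ∧ a ≤ 3) ∧
      qnorm b s a (sqMin s) ≤ qnorm b s a (∑ i, c i * c i) := by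
  rw [Fin.sum_univ_four] at hs
  simp only [Fin.sum_univ_four] at hq ⊢
  set x := c 0; set y := c 1; set z := c 2; set w := c 3
  have h4 : s*s ≤ 4*(x*x + y*y + z*z + w*w) := by
    rw [← hs]
    nlinarith [sq_nonneg (x - y), sq_nonneg (x - z), sq_nonneg (x - w), sq_nonneg (y - z),
      sq_nonneg (y - w), sq_nonneg (z - w)]
  have h1 : (s.natAbs : ℤ) ≤ x*x + y*y + z*z + w*w := by
    have := abs_le_mul_self x; have := abs_le_mul_self y
    have := abs_le_mul_self z; have := abs_le_mul_self w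
    omega
  have hl1 : s ≤ x*x + y*y + z*z + w*w := by omega
  have hl2 : -s ≤ x*x + y*y + z*z + w*w := by omega
  simp only [qnorm] at hq ⊢
  have hb : b * b ≤ 4 := by
    nlinarith [sq_nonneg (51*(4*s - 4*b) - 52*(4*a - 3*b)), sq_nonneg (4*a - 3*b)]
  have hsb : s * s ≤ 32 := by
    nlinarith [sq_nonneg (7*(8*b - s) - 4*(2*a - s)), sq_nonneg (2*a - s)]
  have ha : a * a ≤ 15 := by
    nlinarith [sq_nonneg (56*(15*b - 3*a) - 3*(15*s - 16*a)), sq_nonneg (15*s - 16*a)]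
  obtain ⟨hb1, hb2⟩ : -2 ≤ b ∧ b ≤ 2 := ⟨by nlinarith, by nlinarith⟩
  obtain ⟨ha1, ha2⟩ : -3 ≤ a ∧ a ≤ 3 := ⟨by nlinarith, by nlinarith⟩
  obtain ⟨hs1, hs2⟩ : -5 ≤ s ∧ s ≤ 5 := ⟨by nlinarith, by nlinarith⟩
  obtain ⟨⟨hb1, hb2⟩, hs'⟩ : (-1 ≤ b ∧ b ≤ 1) ∧ -4 ≤ s ∧ s ≤ 4 := by
    interval_cases b <;> interval_cases a <;> interval_cases s <;> omega
  refine ⟨⟨hb1, hb2⟩, hs', ⟨ha1, ha2⟩, ?_⟩
  simp only [sqMin, if_pos hs']
  linarith

/-- The certificate. -/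
theorem cert_bound {b s a d h m : ℤ} {c : Fin 4 → ℤ} (hs : ∑ i, c i = s)
    (hq : qnorm b s a (∑ i, c i * c i) ≤ 188)
    (hh : 0 ≤ h) (hha : 0 ≤ h + a)
    (he1 : 5*a - 4*(b + s) ≤ 64*h + (12*(b + s) - 11*a))
    (he2 : -(5*a - 4*(b + s)) ≤ 64*h + (12*(b + s) - 11*a))
    (hm : 1 ≤ m) (hm3 : 188 < 2 * qnorm b s a (∑ i, c i * c i) → 3 ≤ m)
    (hd : d = 64*(h + m) + (12*(b + s) - 11*a)) :
    0 < d ∧ 0 ≤ cert b s a ∧
      113 * -(5*b - (b + s) + 2*a) * ((5*a - 4*(b + s)) * (5*a - 4*(b + s))) ≤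
        6 * d * cert b s a := by
  obtain ⟨⟨b1, b2⟩, ⟨s1, s2⟩, ⟨a1, a2⟩, hmin⟩ := row_range hs hq
  have hmin' : qnorm b s a (sqMin s) ≤ 188 := le_trans hmin hq
  have key := cert_check b (by simp; omega) s (by simp; omega) a (by simp; omega) hmin'
  have hle : degMin b s a ≤ d := by
    subst hd
    simp only [degMin]
    have hm' : (if 2 * qnorm b s a (sqMin s) ≤ 188 then (1:ℤ) else 3) ≤ m := by
      split_ifs with hc
      · exact hm
      · exact hm3 (by omega)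
    have hH : (List.find? (fun k : ℤ => decide (0 ≤ k + a ∧
        5*a - 4*(b + s) ≤ 64*k + (12*(b + s) - 11*a) ∧
        -(5*a - 4*(b + s)) ≤ 64*k + (12*(b + s) - 11*a))) [0, 1, 2, 3]).getD 4 ≤ h := by
      simp only [List.find?_cons, List.find?_nil]
      repeat' split
      all_goals simp_all
      all_goals omega
    omega
  exact ⟨lt_of_lt_of_le key.2.1 hle, key.1,
    le_trans key.2.2 (mul_le_mul_of_nonneg_right (by omega) key.1)⟩

end Cfsg.Lib.PiHom.U34
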