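import Cfsg.Agent.Lib.PiHom.U34.Elem
import Cfsg.Agent.Lib.Char.Gallagher
import Cfsg.Agent.Lib.Char.UniformCent
import Mathlib.Analysis.SpecialFunctions.Complex.CircleAddChar
import Mathlib.NumberTheory.LegendreSymbol.AddCharacter

/-!
# Characters on elementary subgroups

Elementary subgroups split homomorphically into 2-parts and odd parts; a few standard characters.
-/

set_option autoImplicit false
set_option linter.unusedSectionVars false
set_option linter.style.haveILetI false

namespace Cfsg.Lib.PiHom.U34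

open Cfsg Cfsg.Lib Cfsg.Lib.Block
open scoped ComplexConjugate Classical

universe u v

variable {G : Type u} [Group G] [Finite G]

theorem elementary_parts {A : Subgroup G} {p : ℕ} (hp : p.Prime) (h : IsElementary p A) :
    ∃ P Q : A →* G, (∀ a : A, P a = pPt 2 (a : G)) ∧ (∀ a : A, Q a = pReg 2 (a : G)) ∧
      ∀ a b : A, Commute (P a) (Q b) := by
  haveI := Fact.mk hp
  obtain ⟨x, hxc, hx, k, hk⟩ := h
  set Z := Subgroup.zpowers x
  have hZc : ∀ z ∈ Z, ∀ a : A, Commute (z : G) (a : G) := by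
    rintro _ ⟨i, rfl⟩ a
    exact congrArg Subtype.val (Subgroup.mem_center_iff.1 (zpow_mem hxc i) a).symm
  obtain ⟨R⟩ := (inferInstance : Nonempty (Sylow p A))
  have hR : Nat.card (R : Subgroup A) = p ^ k := by
    rw [R.card_eq_multiplicity, ← Z.card_mul_index, hk, Nat.card_zpowers,
      Nat.factorization_mul (orderOf_pos x).ne' (pow_ne_zero _ hp.ne_zero), Finsupp.add_apply,
      hp.factorization_pow, Finsupp.single_eq_same,
      Nat.factorization_eq_zero_of_not_dvd ((Nat.Prime.coprime_iff_not_dvd hp).1 hx.symm), zero_add]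
  have hcomp : Subgroup.IsComplement' Z (R : Subgroup A) :=
    Subgroup.isComplement'_of_coprime (by rw [hR, ← hk, Z.card_mul_index])
      (by rw [hR, Nat.card_zpowers]; exact Nat.Coprime.pow_right k hx)
  have hsplit : ∀ a : A, ∃ z ∈ Z, ∃ q ∈ (R : Subgroup A), (a : G) = (z : G) * (q : G) := by
    intro a
    obtain ⟨⟨z, q⟩, hzq, -⟩ := Subgroup.isComplement'_def.1 hcomp |>.existsUnique a
    exact ⟨z, z.2, q, q.2, congrArg Subtype.val hzq.symm⟩
  have hZp : ∀ z ∈ Z, ∀ a : A, Commute (pPt 2 (z : G)) (a : G) ∧ Commute (pReg 2 (z : G)) (a : G) := by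
    intro z hz a
    have key : ∀ w ∈ Subgroup.zpowers (z : G), Commute w (a : G) := by
      rintro _ ⟨i, rfl⟩
      exact (hZc z hz a).zpow_left i
    exact ⟨key _ (pPt_mem_zpowers _), key _ (pReg_mem_zpowers _)⟩
  -- on each factor one of the two parts is trivial
  have hq : (p = 2 ∧ (∀ q ∈ (R : Subgroup A), pPt 2 (q : G) = q) ∧ ∀ z ∈ Z, pPt 2 (z : G) = 1) ∨
      (∀ q ∈ (R : Subgroup A), pPt 2 (q : G) = 1) := by
    by_cases hp2 : p = 2
    · subst hp2
      refine Or.inl ⟨rfl, fun q hq => ?_, fun z hz => ?_⟩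
      · obtain ⟨j, hj⟩ := IsPGroup.iff_orderOf.1 R.isPGroup' ⟨q, hq⟩
        exact pPt_of_two ⟨j, by rw [Subgroup.orderOf_coe, ← Subgroup.orderOf_mk q hq]; exact hj⟩
      · refine (pPt_eq_one_iff _).2 fun hd => ?_
        rw [Subgroup.orderOf_coe] at hd
        have := Subgroup.orderOf_dvd_natCard Z hz
        rw [Nat.card_zpowers] at this
        exact (Nat.Prime.coprime_iff_not_dvd Nat.prime_two).1 hx.symm (hd.trans this)
    · refine Or.inr fun q hq => (pPt_eq_one_iff _).2 fun hd => ?_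
      obtain ⟨j, hj⟩ := IsPGroup.iff_orderOf.1 R.isPGroup' ⟨q, hq⟩
      rw [Subgroup.orderOf_coe, ← Subgroup.orderOf_mk q hq, hj] at hd
      exact hp2 ((Nat.prime_dvd_prime_iff_eq Nat.prime_two hp).1 (Nat.prime_two.dvd_of_dvd_pow hd)).symm
  have hmul : ∀ a b : A, pPt 2 ((a * b : A) : G) = pPt 2 (a : G) * pPt 2 (b : G) := by
    intro a b
    obtain ⟨z, hz, q, hq', ea⟩ := hsplit a
    obtain ⟨z', hz', q', hq'', eb⟩ := hsplit b
    have e : ((a * b : A) : G) = ((z * z' : A) : G) * ((q * q' : A) : G) := by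
      simp only [Subgroup.coe_mul, ea, eb]
      rw [(hZc z' hz' q).symm.mul_mul_mul_comm]
    rw [e, pPt_mul_of_commute (hZc _ (mul_mem hz hz') _), ea, eb, pPt_mul_of_commute (hZc z hz q),
      pPt_mul_of_commute (hZc z' hz' q'), show ((z * z' : A) : G) = (z : G) * z' from rfl, pPt_mul_of_commute (hZc z hz z')]
    rcases hq with ⟨-, h1, h2⟩ | h1
    · rw [h2 z hz, h2 z' hz', h1 _ (mul_mem hq' hq''), h1 q hq', h1 q' hq'']
      simp
    · rw [h1 _ (mul_mem hq' hq''), h1 q hq', h1 q' hq'']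
      simp
  let P : A →* G := MonoidHom.mk' (fun a => pPt 2 (a : G)) hmul
  have hcomm : ∀ a b : A, Commute (pPt 2 (a : G)) (pReg 2 (b : G)) := by
    intro a b
    obtain ⟨z, hz, q, hq', ea⟩ := hsplit a
    obtain ⟨z', hz', q', hq'', eb⟩ := hsplit b
    have hb : pReg 2 (b : G) ∈ A := Subgroup.zpowers_le.2 b.2 (pReg_mem_zpowers (b : G))
    have ha : pPt 2 (a : G) ∈ A := Subgroup.zpowers_le.2 a.2 (pPt_mem_zpowers (a : G))
    rcases hq with ⟨-, h1, h2⟩ | h1
    · have : pReg 2 (b : G) = (z' : G) := by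
        refine mul_left_cancel (a := pPt 2 (b : G)) ?_
        rw [pPt_mul_pReg, eb, pPt_mul_of_commute (hZc z' hz' q'), h2 z' hz', h1 q' hq'', one_mul]
        exact (hZc z' hz' q').eq
      rw [this]
      exact (hZc z' hz' ⟨_, ha⟩).symm
    · rw [ea, pPt_mul_of_commute (hZc z hz q), h1 q hq', mul_one]
      exact (hZp z hz ⟨_, hb⟩).1
  refine ⟨P, MonoidHom.mk' (fun a => pReg 2 (a : G)) fun a b => ?_, fun a => rfl, fun a => rfl, hcomm⟩
  refine mul_left_cancel (a := pPt 2 ((a * b : A) : G)) ?_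
  rw [pPt_mul_pReg, hmul, show pPt 2 (a : G) * pPt 2 (b : G) * (pReg 2 (a : G) * pReg 2 (b : G)) =
    pPt 2 (a : G) * (pPt 2 (b : G) * pReg 2 (a : G)) * pReg 2 (b : G) by group, (hcomm b a).eq,
    ← mul_assoc, pPt_mul_pReg, mul_assoc, pPt_mul_pReg, Subgroup.coe_mul]

section Chars

variable {A : Type v} [Group A]

theorem isGen_natCast (n : ℕ) : IsGeneralizedCharacter A (fun _ => (n : ℂ)) := by
  have h := ((Char.isCharacter_one (G := A)).natCast_smul n).isGeneralized
  convert h using 1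
  funext a
  simp

theorem isGen_addChar (ψ : AddChar (ZMod 5) ℂ) (k : A → ZMod 5) (hk : ∀ a b, k (a * b) = k a + k b) :
    IsGeneralizedCharacter A (fun a => ψ (k a)) := by
  have h0 : k 1 = 0 := by
    have := hk 1 1
    rw [mul_one] at this
    exact left_eq_add.1 this
  let f : A →* ℂ :=
    { toFun := fun a => ψ (k a)
      map_one' := by rw [h0, AddChar.map_zero_eq_one]
      map_mul' := fun a b => by rw [hk, AddChar.map_add_eq_mul] }
  exact (Char.isIrrCharacter_linear f.toHomUnits).isGeneralized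

theorem isGen_kernel [Fintype A] {B : Type u} [Group B] (f : A →* B) :
    IsGeneralizedCharacter A (fun a => if f a = 1 then (Nat.card f.range : ℂ) else 0) := by
  haveI := Fintype.ofFinite f.ker
  have h := (Char.isCharacter_indFun f.ker (Char.isIrrCharacter_one.isCharacter)).isGeneralized
  convert h using 1
  funext a
  by_cases ha : f a = 1
  · rw [if_pos ha]
    have hm : a ∈ f.ker := MonoidHom.mem_ker.2 ha
    have h1 := Char.indFun_one_apply f.ker ⟨a, hm⟩
    rw [show ((⟨a, hm⟩ : f.ker) : A) = a from rfl] at h1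
    rw [h1, Char.indFun_apply_one, mul_one, Subgroup.index_ker]
  · rw [if_neg ha, Char.indFun_normal_of_notMem]
    exact fun hm => ha (MonoidHom.mem_ker.1 hm)

end Chars

/-- The standard additive character of the index. -/
noncomputable def psi (j k : ZMod 5) : ℂ := ZMod.stdAddChar (j * k)

theorem psi_zero (j : ZMod 5) : psi j 0 = 1 := by rw [psi, mul_zero, AddChar.map_zero_eq_one]

theorem psi_sum (k : ZMod 5) : ∑ j, psi j k = if k = 0 then 5 else 0 := by
  rw [show ∑ j, psi j k = ∑ j, (ZMod.stdAddChar : AddChar (ZMod 5) ℂ) (j * k) from rfl,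
    AddChar.sum_mulShift k (ZMod.isPrimitive_stdAddChar 5)]
  split_ifs <;> simp

theorem psi_sum_ne (j : ZMod 5) : ∑ i : Fin 4, psi j ((i : ℕ) + 1 : ℕ) = if j = 0 then 4 else -1 := by
  have h := AddChar.sum_mulShift (R := ZMod 5) (R' := ℂ) j (ZMod.isPrimitive_stdAddChar 5)
  rw [show (Finset.univ : Finset (ZMod 5)) = {0, 1, 2, 3, 4} from by decide] at h
  simp only [Finset.sum_insert (by decide : (0 : ZMod 5) ∉ ({1, 2, 3, 4} : Finset (ZMod 5))),
    Finset.sum_insert (by decide : (1 : ZMod 5) ∉ ({2, 3, 4} : Finset (ZMod 5))),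
    Finset.sum_insert (by decide : (2 : ZMod 5) ∉ ({3, 4} : Finset (ZMod 5))),
    Finset.sum_insert (by decide : (3 : ZMod 5) ∉ ({4} : Finset (ZMod 5))), Finset.sum_singleton,
    zero_mul, one_mul, AddChar.map_zero_eq_one, ZMod.card] at h
  simp only [Fin.sum_univ_four, psi, mul_comm j]
  norm_num
  split_ifs at h ⊢ <;> push_cast at h <;> linear_combination h

theorem psi_add (j k k' : ZMod 5) : psi j (k + k') = psi j k * psi j k' := by
  rw [psi, mul_add, AddChar.map_add_eq_mul]; rfl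

theorem psi_conj (j k : ZMod 5) : conj (psi j k) = psi (-j) k := by
  rw [psi, psi, neg_mul, ← AddChar.map_neg_eq_conj]

theorem psi_mul (i j k : ZMod 5) : psi i k * psi j k = psi (i + j) k := by
  rw [psi, psi, psi, add_mul, AddChar.map_add_eq_mul]

/-- A combination vanishing outside the center's kernel on a group of order 64. -/
theorem isGen_psi64 {P : Type u} [Group P] [Fintype P] (hP : Nat.card P = 64) (Z : Subgroup P)
    (hZ : Nat.card Z = 4) (hc : ∀ z ∈ Z, ∀ x : P, z * x = x * z)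
    (hcoset : ∀ x : P, x ∉ Z → ∀ z ∈ Z, ∃ y : P, y * x * y⁻¹ = x * z) :
    IsGeneralizedCharacter P
      (fun x => if x = 1 then 12 else if x ∈ Z then -4 else 0) := by
  have hn : Z.Normal := ⟨fun z hz x => by rw [← hc z hz x, mul_inv_cancel_right]; exact hz⟩
  rw [Char.isGeneralizedCharacter_iff]
  refine ⟨fun x h => ?_, fun χ hχ => ?_⟩
  · simp only [conj_eq_one_iff, show h * x * h⁻¹ ∈ Z ↔ x ∈ Z from
      ⟨fun hh => by simpa [mul_assoc] using hn.conj_mem _ hh h⁻¹, fun hh => hn.conj_mem _ hh h⟩]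
  have hsum : classInner (fun x : P => if x = 1 then 12 else if x ∈ Z then -4 else 0) χ =
      (1 / 64 : ℂ) * (16 * conj (χ 1) - 4 * ∑ z : Z, conj (χ z)) := by
    have e : ∀ x : P, (if x = 1 then (12 : ℂ) else if x ∈ Z then -4 else 0) * conj (χ x) =
        (if x = 1 then 16 * conj (χ 1) else 0) - (if x ∈ Z then 4 * conj (χ x) else 0) := by
      intro x
      by_cases h1 : x = 1
      · subst h1; simp [one_mem]; ring
      · by_cases hz : x ∈ Z <;> simp [h1, hz]
    rw [classInner, hP, Finset.sum_congr rfl fun x _ => e x, Finset.sum_sub_distrib,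
      Finset.sum_ite_eq' Finset.univ (1 : P), if_pos (Finset.mem_univ _), ← Finset.sum_filter,
      ← Finset.mul_sum, Finset.sum_subtype (F := (inferInstance : Fintype Z)) _ (fun x => by simp)]
    norm_num
  rw [hsum]
  by_cases htriv : ∀ z ∈ Z, χ z = χ 1
  · refine ⟨0, ?_⟩
    rw [Finset.sum_congr rfl fun (z : Z) _ => by rw [htriv z z.2], Finset.sum_const, Finset.card_univ,
      nsmul_eq_mul, ← Nat.card_eq_fintype_card, hZ]
    push_cast; ring
  push Not at htriv
  obtain ⟨z0, hz0, hne⟩ := htriv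
  have hχ1 := hχ.apply_one_ne_zero
  have hout : ∀ x : P, x ∉ Z → χ x = 0 := by
    intro x hx
    obtain ⟨y, hy⟩ := hcoset x hx z0 hz0
    have h1 : χ (z0 * x) = χ x := by rw [hc z0 hz0, ← hy, hχ.isClassFunction]
    have h2 := Char.irr_apply_central_mul hχ (fun g => (hc z0 hz0 g).symm) x
    rw [h1] at h2
    have : χ x * (χ 1 - χ z0) = 0 := by linear_combination h2
    exact (mul_eq_zero.1 this).resolve_right (sub_ne_zero.2 fun h => hne h.symm)
  have hZ0 : ∑ z : Z, χ z = 0 := by
    have h1 : ∑ z : Z, χ (z0 * z) = ∑ z : Z, χ z :=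
      Fintype.sum_equiv (Equiv.mulLeft (⟨z0, hz0⟩ : Z)) _ _ fun z => rfl
    have h2 : (∑ z : Z, χ (z0 * z)) * χ 1 = χ z0 * ∑ z : Z, χ z := by
      rw [Finset.sum_mul, Finset.mul_sum]
      exact Finset.sum_congr rfl fun z _ => Char.irr_apply_central_mul hχ (fun g => (hc z0 hz0 g).symm) z
    rw [h1] at h2
    have : (∑ z : Z, χ z) * (χ 1 - χ z0) = 0 := by linear_combination h2
    exact (mul_eq_zero.1 this).resolve_right (sub_ne_zero.2 fun h => hne h.symm)
  obtain ⟨d, hd0, hd⟩ := hχ.exists_degree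
  have hz : ∀ z : Z, χ z * conj (χ z) = (d : ℂ) * d := by
    intro z
    have h4 : (z : P) ^ 4 = 1 := by
      rw [← hZ]; exact congrArg Subtype.val (pow_card_eq_one' (x := z))
    have key : ∀ n : ℕ, χ ((z : P) ^ n) * χ 1 ^ n = χ z ^ n * χ 1 := by
      intro n
      induction n with
      | zero => simp
      | succ n ih =>
        have := Char.irr_apply_central_mul hχ (fun g => (hc z z.2 g).symm) ((z : P) ^ n)
        rw [pow_succ' (z : P), pow_succ, pow_succ (χ z)]
        linear_combination (χ 1 ^ n) * this + χ z * ih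
    have e := key 4
    rw [h4, hd] at e
    have h4' : ‖χ z‖ ^ 4 = (d : ℝ) ^ 4 := by
      have e' := congrArg norm (mul_right_cancel₀ (Nat.cast_ne_zero.2 hd0.ne' : (d : ℂ) ≠ 0)
        (show χ z ^ 4 * (d : ℂ) = (d : ℂ) ^ 4 * d by linear_combination -e))
      simpa using e'
    have hn : ‖χ z‖ = d := (pow_left_inj₀ (norm_nonneg _) (Nat.cast_nonneg d) (by norm_num)).1 h4'
    rw [Complex.mul_conj', hn]
    norm_num [pow_two]
  have hd4 : d = 4 := by
    have h1 := Char.classInner_irr_self hχ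
    rw [classInner, hP, ← Finset.sum_filter_add_sum_filter_not Finset.univ (· ∈ Z),
      Finset.sum_eq_zero (s := Finset.univ.filter fun x => x ∉ Z) (fun x hx => by
        rw [hout x (Finset.mem_filter.1 hx).2, zero_mul]), add_zero,
      Finset.sum_subtype (F := (inferInstance : Fintype Z)) _ (fun x => by simp),
      Finset.sum_congr rfl fun z _ => hz z, Finset.sum_const, Finset.card_univ, nsmul_eq_mul,
      ← Nat.card_eq_fintype_card, hZ] at h1
    have h2 : ((d * d : ℕ) : ℂ) = ((16 : ℕ) : ℂ) := by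
      push_cast; push_cast at h1; linear_combination 16 * h1
    exact Nat.mul_self_inj.1 (Nat.cast_inj.1 h2 : d * d = 4 * 4)
  refine ⟨1, ?_⟩
  rw [← map_sum, hZ0, map_zero, hd, hd4, Complex.conj_natCast]
  norm_num

end Cfsg.Lib.PiHom.U34
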