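import Cfsg.Agent.Lib.PiHom.U34.Inner
import Cfsg.Agent.Lib.PiHom.U34.Parts
import Cfsg.Agent.Lib.Block.DihedralColumns
import Cfsg.Agent.Lib.Block.ThreePrincipal
import Cfsg.Agent.Lib.Block.RegInt

/-!
# The principal 2-block on the singular sections

Its characters are constant on the parts of the sections inside `L`, and the other characters are
orthogonal to the class functions considered.
-/

set_option autoImplicit false
set_option linter.unusedSectionVars false
set_option linter.style.haveILetI false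

namespace Cfsg.Lib.PiHom.U34

open Cfsg Cfsg.Lib Cfsg.Lib.Block
open scoped ComplexConjugate Classical

universe u

variable {G : Type u} [Group G] [Fintype G] {Kc : Subgroup G}

theorem sum_fiber (u : G) (hu : ∃ k : ℕ, orderOf u = 2 ^ k) (F : G → ℂ) :
    ∑ x ∈ Finset.univ.filter (fun x => pPt 2 x = u), F x = ∑ y ∈ regCent 2 u, F (u * y) := by
  obtain ⟨k, hk⟩ := hu
  refine Finset.sum_bij' (fun x _ => pReg 2 x) (fun y _ => u * y) ?_ ?_ ?_ ?_ ?_
  · intro x hx
    exact mem_regCent.2 ⟨(Finset.mem_filter.1 hx).2 ▸ pPt_commute_pReg x, not_dvd_orderOf_pReg x⟩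
  · intro y hy
    exact Finset.mem_filter.2 ⟨Finset.mem_univ _,
      (eq_pPt rfl (mem_regCent.1 hy).1 hk (mem_regCent.1 hy).2).symm⟩
  · intro x hx
    rw [← (Finset.mem_filter.1 hx).2, pPt_mul_pReg]
  · intro y hy
    refine mul_left_cancel (a := u) ?_
    conv_rhs => rw [← pPt_mul_pReg (p := 2) (u * y)]
    rw [(eq_pPt rfl (mem_regCent.1 hy).1 hk (mem_regCent.1 hy).2).symm]
  · intro x hx
    rw [← (Finset.mem_filter.1 hx).2, pPt_mul_pReg]

theorem sum_regCent_conj (c u : G) {F : G → ℂ} :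
    ∑ y ∈ regCent 2 (c * u * c⁻¹), F y = ∑ y ∈ regCent 2 u, F (c * y * c⁻¹) := by
  refine (Finset.sum_bij' (fun y _ => c * y * c⁻¹) (fun y _ => c⁻¹ * y * c) ?_ ?_ ?_ ?_ ?_).symm
  · intro y hy
    obtain ⟨h1, h2⟩ := mem_regCent.1 hy
    exact mem_regCent.2 ⟨h1.map (MulAut.conj c).toMonoidHom, by rwa [orderOf_conj']⟩
  · intro y hy
    obtain ⟨h1, h2⟩ := mem_regCent.1 hy
    refine mem_regCent.2 ⟨?_, ?_⟩
    · have := h1.map (MulAut.conj c⁻¹).toMonoidHom
      simpa [mul_assoc] using this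
    · rw [show c⁻¹ * y * c = c⁻¹ * y * c⁻¹⁻¹ by group, orderOf_conj']; exact h2
  · intro y _; group
  · intro y _; group
  · intro y _; rfl

namespace Ctx

variable {S : Sylow 2 G} {E : Subgroup G} {t : G} (c : Ctx Kc S E t)
include c

theorem lsub_card_odd : ¬ 2 ∣ Nat.card (lsub Kc S t) := by
  intro h
  obtain ⟨x, hx⟩ := exists_prime_orderOf_dvd_card' 2 h
  have := c.lsub_odd x.2
  rw [Subgroup.orderOf_coe, hx] at this
  exact absurd this (by decide)

theorem lsub_normal_Ct : ((lsub Kc S t).subgroupOf (Ct t)).Normal :=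
  ⟨fun z hz x => Subgroup.mem_subgroupOf.2 (by
    simpa using c.lsub_conj x.2 (Subgroup.mem_subgroupOf.1 hz))⟩

theorem cent_le {u : G} (hu : u * u = t) : Subgroup.centralizer ({u} : Set G) ≤ Ct t := fun x hx => by
  have h := Subgroup.mem_centralizer_singleton_iff.1 hx
  exact mem_Ct.2 (hu ▸ (Commute.mul_right h h))

/-- The centralizer of an element of order four in `S` with square `t` has a normal complement. -/
theorem complement_four {u : G} (hu : u * u = t)
    (hls : ∀ x ∈ Ct t, Commute x u → ∃ l s : G, l ∈ lsub Kc S t ∧ s ∈ (S : Subgroup G) ∧ x = l * s) :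
    HasNormalPComplement 2 (Subgroup.centralizer ({u} : Set G)) := by
  set C := Subgroup.centralizer ({u} : Set G)
  set N := (lsub Kc S t).subgroupOf C
  haveI hN : N.Normal := ⟨fun z hz x => Subgroup.mem_subgroupOf.2 (by
    simpa using c.lsub_conj (c.cent_le hu x.2) (Subgroup.mem_subgroupOf.1 hz))⟩
  have hp : IsPGroup 2 (C ⧸ N) := by
    intro q
    obtain ⟨x, rfl⟩ := QuotientGroup.mk_surjective q
    refine ⟨6, ?_⟩
    rw [← QuotientGroup.mk_pow, QuotientGroup.eq_one_iff, Subgroup.mem_subgroupOf, SubmonoidClass.coe_pow]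
    obtain ⟨l, s, hl, hs, he⟩ := hls _ (c.cent_le hu x.2) (Subgroup.mem_centralizer_singleton_iff.1 x.2)
    obtain ⟨l', hl', e⟩ := c.lsub_pow hl (c.sylow_le_Ct hs) (2 ^ 6)
    rw [he, e, c.pow_sylow hs, mul_one]
    exact hl'
  obtain ⟨k, hk⟩ := IsPGroup.iff_card.1 hp
  rw [← Subgroup.index_eq_card] at hk
  have hodd : ¬ 2 ∣ Nat.card N := by
    intro h
    obtain ⟨x, hx⟩ := exists_prime_orderOf_dvd_card' 2 h
    have := c.lsub_odd (Subgroup.mem_subgroupOf.1 x.2)
    rw [Subgroup.orderOf_coe, Subgroup.orderOf_coe, hx] at this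
    exact absurd this (by decide)
  obtain ⟨P⟩ := (inferInstance : Nonempty (Sylow 2 C))
  refine ⟨P, N, hN, ?_⟩
  have hP : Nat.card (P : Subgroup C) = 2 ^ k := by
    rw [P.card_eq_multiplicity, ← N.card_mul_index, hk,
      Nat.factorization_mul Nat.card_pos.ne' (pow_ne_zero _ two_ne_zero), Finsupp.add_apply,
      Nat.prime_two.factorization_pow, Finsupp.single_eq_same,
      Nat.factorization_eq_zero_of_not_dvd hodd, zero_add]
  refine Subgroup.isComplement'_of_coprime ?_ ?_
  · rw [hP, ← hk, N.card_mul_index]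
  · rw [hP]
    exact (((Nat.Prime.coprime_iff_not_dvd Nat.prime_two).2 hodd).symm).pow_right k

variable {M : Ideal AlgInt} (hM : IsPModular 2 M)
include hM

/-- A character of the principal block is constant on `t L`. -/
theorem principal_t {χ : IrrCharacter G} (hχ : χ ∈ principalBlock M G) {r : G}
    (hr : r ∈ lsub Kc S t) : (χ : G → ℂ) (t * r) = (χ : G → ℂ) t := by
  set H := Ct t
  have hu : ∃ k : ℕ, orderOf t = 2 ^ k := ⟨1, by rw [c.orderOf_t]; rfl⟩
  have hHu : ∀ h : H, Commute t (h : G) := fun h => (mem_Ct.1 h.2).symm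
  haveI := c.lsub_normal_Ct
  set N := (lsub Kc S t).subgroupOf H
  have hNc : ¬ 2 ∣ Nat.card N := by
    rw [Nat.card_congr (Subgroup.subgroupOfEquivOfLe c.lsub_le).toEquiv]
    exact c.lsub_card_odd
  have key : ∀ z : H, IsPRegular 2 z → (χ : G → ℂ) (t * (z : G)) =
      blockPart (principalBlock M H) (secFn t H (χ : G → ℂ)) z := fun z hz => by
    have h := blockPart_indSet hM hu hHu le_rfl (isPBlock_principal (M := M) (G := G)) χ hz
    rw [if_pos hχ, indSet_principal hM hu hHu le_rfl] at h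
    exact h.symm
  have hreg : IsPRegular 2 (⟨r, c.lsub_le hr⟩ : H) := by
    rw [IsPRegular, Subgroup.orderOf_mk]
    exact fun h => Nat.not_even_iff_odd.2 (c.lsub_odd hr) (even_iff_two_dvd.2 h)
  have h1 : IsPRegular 2 (1 : H) := by simp [IsPRegular]
  have e1 := key _ hreg
  have e2 := key 1 h1
  simp only [OneMemClass.coe_one, mul_one] at e1 e2
  rw [e1, e2]
  simp only [blockPart, finsum_mem_eq_toFinset_sum]
  refine Finset.sum_congr rfl fun η hη => ?_
  rw [principal_trivial_on hM hNc (Set.mem_toFinset.1 hη) ⟨r, c.lsub_le hr⟩ (Subgroup.mem_subgroupOf.2 hr)]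

/-- A character of the principal block on the section of an element of order four. -/
theorem principal_four
    (hls : ∀ u ∈ (S : Subgroup G), u ∉ E → ∀ x ∈ Ct t, Commute x u →
      ∃ l s : G, l ∈ lsub Kc S t ∧ s ∈ (S : Subgroup G) ∧ x = l * s)
    {χ : IrrCharacter G} (hχ : χ ∈ principalBlock M G) {x y : G} (hx : orderOf (pPt 2 x) = 4)
    (hy : y * pPt 2 x * y⁻¹ ∈ (S : Subgroup G)) :
    (χ : G → ℂ) x = (χ : G → ℂ) (y * pPt 2 x * y⁻¹) := by
  set u := y * pPt 2 x * y⁻¹ with hu
  have huE : u ∉ E := (c.order_four_iff hy).1 (by rw [orderOf_conj', hx])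
  obtain ⟨o, ho, -, ho'⟩ := c.odd_trans (c.hs.sq u hy) (fun h => huE (c.hs.invol u hy h))
  set u' := o * u * o⁻¹ with hu'
  have hu'S : u' ∈ (S : Subgroup G) := (Subgroup.mem_normalizer_iff.1 ho u).1 hy
  have hu'E : u' ∉ E := c.not_E_normalized ho huE
  have hsq : u' * u' = t := by rw [← ho', hu']; group
  have hc : Commute u' ((o * y) * pReg 2 x * (o * y)⁻¹) := by
    have := (pPt_commute_pReg (p := 2) x).map (MulAut.conj (o * y)).toMonoidHom
    simp only [MulEquiv.toMonoidHom_eq_coe, MonoidHom.coe_coe, MulAut.conj_apply] at this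
    rwa [show o * y * pPt 2 x * (o * y)⁻¹ = u' by rw [hu', hu]; group] at this
  have h := principal_value_of_complement hM ⟨2, by rw [c.orderOf_four hu'S hu'E]; rfl⟩
    (c.complement_four hsq (hls u' hu'S hu'E)) hχ hc
    (by rw [orderOf_conj']; exact not_dvd_orderOf_pReg x)
  have e : u' * ((o * y) * pReg 2 x * (o * y)⁻¹) = (o * y) * x * (o * y)⁻¹ := by
    conv_rhs => rw [← pPt_mul_pReg (p := 2) x]
    rw [hu', hu]; group
  rw [e, χ.2.isClassFunction, hu', χ.2.isClassFunction] at h
  exact h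

/-- A character outside the principal block sums to zero over such a section. -/
theorem nonprincipal_four
    (hls : ∀ u ∈ (S : Subgroup G), u ∉ E → ∀ x ∈ Ct t, Commute x u →
      ∃ l s : G, l ∈ lsub Kc S t ∧ s ∈ (S : Subgroup G) ∧ x = l * s)
    {χ : IrrCharacter G} (hχ : χ ∉ principalBlock M G) {u : G} (hu4 : orderOf u = 4) :
    ∑ y ∈ regCent 2 u, (χ : G → ℂ) (u * y) = 0 := by
  obtain ⟨y, hy⟩ := c.exists_conj_mem ⟨2, by rw [hu4]; rfl⟩
  have huE : y * u * y⁻¹ ∉ E := (c.order_four_iff hy).1 (by rw [orderOf_conj', hu4])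
  obtain ⟨o, ho, -, ho'⟩ := c.odd_trans (c.hs.sq _ hy) (fun h => huE (c.hs.invol _ hy h))
  set u' := o * (y * u * y⁻¹) * o⁻¹ with hu'
  have hu'S : u' ∈ (S : Subgroup G) := (Subgroup.mem_normalizer_iff.1 ho _).1 hy
  have hu'E : u' ∉ E := c.not_E_normalized ho huE
  have hsq : u' * u' = t := by rw [← ho', hu']; group
  have h := sectionSum_eq_zero hM ⟨2, by rw [c.orderOf_four hu'S hu'E]; rfl⟩
    (c.complement_four hsq (hls u' hu'S hu'E)) hχ
  have e : u' = (o * y) * u * (o * y)⁻¹ := by rw [hu']; group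
  rw [e, sum_regCent_conj] at h
  refine Eq.trans (Finset.sum_congr rfl fun z _ => ?_) h
  rw [show o * y * u * (o * y)⁻¹ * (o * y * z * (o * y)⁻¹) = (o * y) * (u * z) * (o * y)⁻¹ by group,
    χ.2.isClassFunction]

/-- A character outside the principal block is orthogonal to `theta`, when it is on the involutions. -/
theorem classInner_theta_zero {g : G} {f4 : G → ℂ} {f2 : ZMod 5 → ℂ} (hi : Inv Kc S E t g f4 f2)
    (hls : ∀ u ∈ (S : Subgroup G), u ∉ E → ∀ x ∈ Ct t, Commute x u →
      ∃ l s : G, l ∈ lsub Kc S t ∧ s ∈ (S : Subgroup G) ∧ x = l * s)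
    {χ : IrrCharacter G} (hχ : χ ∉ principalBlock M G)
    (h2 : ∑ y ∈ regCent 2 t, f2 (kidx Kc S t g y) * conj ((χ : G → ℂ) (t * y)) = 0) :
    classInner (theta Kc S t g f4 f2) (χ : G → ℂ) = 0 := by
  rw [classInner, ← Finset.sum_fiberwise Finset.univ (fun x => pPt 2 x), Finset.sum_eq_zero, mul_zero]
  intro u _
  by_cases hu : ∃ k : ℕ, orderOf u = 2 ^ k
  swap
  · refine Finset.sum_eq_zero fun x hx => absurd ?_ hu
    rw [← (Finset.mem_filter.1 hx).2]; exact exists_orderOf_pPt x
  rcases c.order_cases hu with rfl | h | h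
  · exact Finset.sum_eq_zero fun x hx => by rw [c.theta_one (Finset.mem_filter.1 hx).2, zero_mul]
  · obtain ⟨z, hz⟩ := c.exists_conj_t h
    rw [sum_fiber u hu]
    rw [show regCent 2 t = regCent 2 (z * u * z⁻¹) by rw [hz], sum_regCent_conj] at h2
    refine Eq.trans (Finset.sum_congr rfl fun y hy => ?_) h2
    obtain ⟨k, hk⟩ := hu
    have hp := (eq_pPt rfl (mem_regCent.1 hy).1 hk (mem_regCent.1 hy).2).symm
    have hr : pReg 2 (u * y) = y := by
      refine mul_left_cancel (a := u) ?_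
      conv_rhs => rw [← pPt_mul_pReg (p := 2) (u * y)]
      rw [hp]
    rw [c.theta_two hi (y := z) (by rw [hp]; exact hz), hr,
      show t * (z * y * z⁻¹) = z * (u * y) * z⁻¹ by rw [← hz]; group, χ.2.isClassFunction]
  · obtain ⟨y, hy⟩ := c.exists_conj_mem hu
    have hval : ∀ x ∈ Finset.univ.filter (fun x => pPt 2 x = u),
        theta Kc S t g f4 f2 x * conj ((χ : G → ℂ) x) = f4 (y * u * y⁻¹) * conj ((χ : G → ℂ) x) := by
      intro x hx
      have e := (Finset.mem_filter.1 hx).2
      rw [c.theta_four hi (y := y) (by rw [e]; exact h) (by rw [e]; exact hy), e]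
    rw [Finset.sum_congr rfl hval, ← Finset.mul_sum, ← map_sum, sum_fiber u hu,
      c.nonprincipal_four hM hls hχ h, map_zero, mul_zero]

end Ctx

namespace Five

variable {S : Sylow 2 G} {E : Subgroup G} {t g : G} (f : Five Kc S E t g)
include f

theorem hls : ∀ u ∈ (S : Subgroup G), u ∉ E → ∀ x ∈ Ct t, Commute x u →
    ∃ l s : G, l ∈ lsub Kc S t ∧ s ∈ (S : Subgroup G) ∧ x = l * s :=
  fun _u hu huE _x hx hc => f.eq_mul_of_kidx hx (f.kidx_comm hu huE hx hc)

/-- The sum over the regular elements of `C(t)`. -/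
theorem sum_reg (F : ZMod 5 → ℂ) :
    ∑ y ∈ regCent 2 t, F (kidx Kc S t g y) =
      (Nat.card (lsub Kc S t) : ℂ) * (F 0 + 16 * ∑ i : Fin 4, F ((i : ℕ) + 1 : ℕ)) := by
  have h := f.sum_five (H := fun x => if pPt 2 x = t then F (kidx Kc S t g x) else 0)
    (v4 := fun _ => 0) (v2 := F) (fun l hl s hs hsE _ => ?_) (fun l hl => ?_)
    (fun l hl s hs k hk he => ?_)
  · simp only [Finset.sum_const_zero, zero_add] at h
    rw [← h, ← Finset.sum_filter, Finset.filter_filter]
    have hset : (Finset.univ.filter fun x : G => tinv x = t ∧ pPt 2 x = t) =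
        Finset.univ.filter fun x : G => pPt 2 x = t := by
      refine Finset.filter_congr fun x _ => ⟨fun h => h.2, fun h => ⟨?_, h⟩⟩
      rw [tinv_of_two (by rw [h, f.toCtx.orderOf_t]; norm_num), h]
    rw [hset, sum_fiber t ⟨1, by rw [f.toCtx.orderOf_t]; rfl⟩]
    refine Finset.sum_congr rfl fun y hy => ?_
    have hyC : y ∈ Ct t := mem_Ct.2 (mem_regCent.1 hy).1.symm
    rw [f.kidx_mul (f.toCtx.sylow_le_Ct f.toCtx.t_mem) hyC, f.kidx_sylow f.toCtx.t_mem, zero_add]
  · rw [if_neg]
    obtain ⟨⟨k, -, hw⟩, -⟩ := f.toCtx.pPt_ls hl hs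
    intro h
    have h4 := f.toCtx.orderOf_four hs hsE
    rw [← orderOf_conj' k, ← hw, h, f.toCtx.orderOf_t] at h4
    norm_num at h4
  · obtain ⟨⟨k, hk, hw⟩, -⟩ := f.toCtx.pPt_ls hl f.toCtx.t_mem
    rw [if_pos (by rw [hw, f.toCtx.conj_lsub_t hk]), f.kidx_eq (k := 0) hl f.toCtx.t_mem (by simp),
      Nat.cast_zero]
  · obtain ⟨-, m, hm, hw⟩ := f.pPt_five hl hs hk
    rw [if_pos (by rw [hw, he, f.toCtx.conj_lsub_t hm]), f.kidx_eq hl hs rfl]

variable {M : Ideal AlgInt} (hM : IsPModular 2 M)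
include hM

/-- A character outside the principal block is orthogonal to the linear characters of the index. -/
theorem nonprincipal_two {χ : IrrCharacter G} (hχ : χ ∉ principalBlock M G) (F : ZMod 5 → ℂ) :
    ∑ y ∈ regCent 2 t, F (kidx Kc S t g y) * conj ((χ : G → ℂ) (t * y)) = 0 := by
  set H := Ct t
  have hu : ∃ k : ℕ, orderOf t = 2 ^ k := ⟨1, by rw [f.toCtx.orderOf_t]; rfl⟩
  have hHu : ∀ h : H, Commute t (h : G) := fun h => (mem_Ct.1 h.2).symm
  have hsub : ∀ J : G → ℂ, ∑ y ∈ regCent 2 t, J y =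
      ∑ y : H, (if IsPRegular 2 y then J y else 0) := by
    intro J
    rw [← Finset.sum_filter]
    refine Finset.sum_bij' (fun y hy => (⟨y, mem_Ct.2 (mem_regCent.1 hy).1.symm⟩ : H))
      (fun y _ => (y : G)) ?_ ?_ ?_ ?_ ?_
    · intro y hy
      refine Finset.mem_filter.2 ⟨Finset.mem_univ _, ?_⟩
      rw [IsPRegular, Subgroup.orderOf_mk]
      exact (mem_regCent.1 hy).2
    · intro y hy
      refine mem_regCent.2 ⟨hHu y, ?_⟩
      rw [Subgroup.orderOf_coe]
      exact (Finset.mem_filter.1 hy).2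
    · intro y _; rfl
    · intro y _; rfl
    · intro y _; rfl
  have hm : ∀ m : ZMod 5,
      ∑ y ∈ regCent 2 t, psi m (kidx Kc S t g y) * conj ((χ : G → ℂ) (t * y)) = 0 := by
    intro m
    let lam : H →* ℂ :=
      { toFun := fun y => psi m (kidx Kc S t g y)
        map_one' := by rw [OneMemClass.coe_one, f.kidx_lsub (one_mem _), psi_zero]
        map_mul' := fun a b => by rw [Subgroup.coe_mul, f.kidx_mul a.2 b.2, psi_add] }
    let η0 : IrrCharacter H := ⟨fun y => (lam.toHomUnits y : ℂ), Char.isIrrCharacter_linear _⟩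
    have hη0 : ∀ y : H, (η0 : H → ℂ) y = psi m (kidx Kc S t g y) := fun y => rfl
    have hB : η0 ∈ principalBlock M H := by
      refine mem_principal_of_regSum_ne hM η0 ?_
      have e : ∑ y : H, pRegularPart 2 (η0 : H → ℂ) y =
          ∑ y ∈ regCent 2 t, psi m (kidx Kc S t g y) := by
        rw [hsub]
        refine Finset.sum_congr rfl fun y _ => ?_
        by_cases hy : IsPRegular 2 y
        · rw [pRegularPart_of_reg hy, if_pos hy, hη0]
        · rw [pRegularPart_of_sing hy, if_neg hy]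
      rw [e, f.sum_reg (psi m), psi_zero, psi_sum_ne]
      refine mul_ne_zero Char.card_cast_ne_zero ?_
      split_ifs <;> norm_num
    have hpart : ∀ y : H, IsPRegular 2 y →
        blockPart (principalBlock M H) (secFn t H (χ : G → ℂ)) y = 0 := fun y hy => by
      have h := blockPart_indSet hM hu hHu le_rfl (isPBlock_principal (M := M) (G := G)) χ hy
      rw [if_neg hχ, indSet_principal hM hu hHu le_rfl] at h
      exact h
    have hexp : ∀ y : H, IsPRegular 2 y → (χ : G → ℂ) (t * (y : G)) =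
        ∑ η ∈ (principalBlock M H).toFinsetᶜ,
          classInner (secFn t H (χ : G → ℂ)) (η : H → ℂ) * (η : H → ℂ) y := by
      intro y hy
      have h1 := congrFun (Char.eq_sum_classInner (isClassFunction_secFn hHu χ)) y
      simp only [Finset.sum_apply, Pi.smul_apply, smul_eq_mul] at h1
      have h2 := hpart y hy
      simp only [blockPart, finsum_mem_eq_toFinset_sum] at h2
      rw [← Finset.sum_compl_add_sum (principalBlock M H).toFinset] at h1
      refine h1.trans (add_eq_left.2 ?_)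
      convert h2
    rw [hsub]
    have e2 : ∀ y : H,
        (if IsPRegular 2 y then psi m (kidx Kc S t g y) * conj ((χ : G → ℂ) (t * (y : G))) else 0) =
        ∑ η ∈ (principalBlock M H).toFinsetᶜ,
          conj (classInner (secFn t H (χ : G → ℂ)) (η : H → ℂ)) *
            (pRegularPart 2 (η0 : H → ℂ) y * conj ((η : H → ℂ) y)) := by
      intro y
      by_cases hy : IsPRegular 2 y
      · rw [if_pos hy, hexp y hy, map_sum, Finset.mul_sum, pRegularPart_of_reg hy, hη0]
        exact Finset.sum_congr rfl fun η _ => by rw [map_mul]; ring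
      · rw [if_neg hy, pRegularPart_of_sing hy]
        simp
    rw [Finset.sum_congr rfl fun y _ => e2 y, Finset.sum_comm]
    refine Finset.sum_eq_zero fun η hη => ?_
    rw [← Finset.mul_sum]
    have h0 := regInner_eq_zero (p := 2) hM (vInt_indVec hM isPBlock_principal) hB
      (ψ := η) (fun h' => Finset.mem_compl.1 hη (Set.mem_toFinset.2 h'))
    rw [regInner, classInner, mul_eq_zero, or_iff_right (inv_ne_zero Char.card_cast_ne_zero)] at h0
    rw [h0, mul_zero]
  have hF : ∀ k : ZMod 5, F k = ∑ m, (∑ a, F a * psi m (-a) / 5) * psi m k := by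
    intro k
    simp only [Finset.sum_mul, div_mul_eq_mul_div]
    rw [Finset.sum_comm, Finset.sum_eq_single k]
    · rw [Finset.sum_congr rfl fun m _ => show F k * psi m (-k) * psi m k / 5 = F k / 5 by
        rw [mul_assoc, ← psi_add, neg_add_cancel, psi_zero, mul_one], Finset.sum_const, Finset.card_univ,
        ZMod.card, nsmul_eq_mul]
      push_cast; ring
    · intro a _ ha
      rw [Finset.sum_congr rfl fun m _ => show F a * psi m (-a) * psi m k / 5 = F a / 5 * psi m (-a + k) by
        rw [psi_add]; ring, ← Finset.mul_sum, psi_sum, if_neg, mul_zero]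
      exact fun h => ha (neg_add_eq_zero.1 h)
    · intro h; exact absurd (Finset.mem_univ _) h
  rw [Finset.sum_congr rfl fun y _ => by rw [hF (kidx Kc S t g y), Finset.sum_mul], Finset.sum_comm]
  refine Finset.sum_eq_zero fun m _ => ?_
  rw [Finset.sum_congr rfl fun y _ => mul_assoc _ _ _, ← Finset.mul_sum, hm m, mul_zero]

end Five

end Cfsg.Lib.PiHom.U34
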