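import Cfsg.Agent.Lib.PiHom.U34.Shape
import Mathlib.GroupTheory.Perm.Cycle.Type

/-!
# Odd automorphisms of the Sylow subgroup centralizing its involutions

Such an automorphism has order dividing 5, and if not trivial it fixes only the elements of `E`.
-/

set_option autoImplicit false
set_option linter.unusedSectionVars false
set_option linter.style.haveILetI false

namespace Cfsg.Lib.PiHom.U34

universe u

variable {G : Type u} [Group G] [Finite G]

/-- The elements of `S` with square `e`. -/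
abbrev Fib (S : Subgroup G) (e : G) : Set G := {x | x ∈ S ∧ x * x = e}

theorem card_dvd_of_mul_mem (E : Subgroup G) {T : Set G} (h : ∀ x ∈ T, ∀ e ∈ E, x * e ∈ T) :
    Nat.card E ∣ Nat.card T := by
  have hT : T = QuotientGroup.mk ⁻¹' ((QuotientGroup.mk : G → G ⧸ E) '' T) := by
    refine Set.Subset.antisymm (Set.subset_preimage_image _ _) ?_
    rintro x ⟨y, hy, hxy⟩
    have := h y hy (y⁻¹ * x) (QuotientGroup.eq.1 hxy)
    rwa [mul_inv_cancel_left] at this
  rw [hT, Nat.card_congr (QuotientGroup.preimageMkEquivSubgroupProdSet E _), Nat.card_prod]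
  exact dvd_mul_right _ _

theorem count_three {p v : ℕ} (hp : p.Prime) (h1 : v % p = 20 % p) (h4 : 4 ∣ v) (h20 : v ≤ 20) :
    (p = 3 → 8 ≤ v) ∧ (p = 5 → v = 0 ∨ v = 20) ∧ (7 ≤ p → v = 20) := by
  obtain ⟨w, rfl⟩ := h4
  refine ⟨?_, ?_, fun h7 => ?_⟩
  · rintro rfl; omega
  · rintro rfl; omega
  · have hd : p ∣ 20 - 4 * w := (Nat.modEq_iff_dvd' h20).1 h1
    rw [show 20 - 4 * w = 4 * (5 - w) by omega] at hd
    rcases hp.dvd_mul.1 hd with h | h
    · exact absurd (Nat.le_of_dvd (by norm_num) h) (by omega)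
    · rcases Nat.eq_zero_or_pos (5 - w) with h' | h'
      · omega
      · exact absurd (Nat.le_of_dvd h' h) (by omega)

theorem count_cases {p v₁ v₂ v₃ N : ℕ} (hp : p.Prime) (hp2 : p ≠ 2)
    (h1 : v₁ % p = 20 % p ∧ 4 ∣ v₁ ∧ v₁ ≤ 20) (h2 : v₂ % p = 20 % p ∧ 4 ∣ v₂ ∧ v₂ ≤ 20)
    (h3 : v₃ % p = 20 % p ∧ 4 ∣ v₃ ∧ v₃ ≤ 20) (hsum : N = 4 + v₁ + v₂ + v₃) (hd : N ∣ 2 ^ 6) :
    32 ≤ N ∨ (p = 5 ∧ v₁ = 0 ∧ v₂ = 0 ∧ v₃ = 0) := by
  obtain ⟨a1, b1, c1⟩ := count_three hp h1.1 h1.2.1 h1.2.2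
  obtain ⟨a2, b2, c2⟩ := count_three hp h2.1 h2.2.1 h2.2.2
  obtain ⟨a3, b3, c3⟩ := count_three hp h3.1 h3.2.1 h3.2.2
  obtain ⟨j, hj, hNj⟩ := (Nat.dvd_prime_pow Nat.prime_two).1 hd
  by_cases h7 : 7 ≤ p
  · have := c1 h7; have := c2 h7; have := c3 h7; omega
  · have := hp.two_le
    obtain rfl | rfl : p = 3 ∨ p = 5 := by
      interval_cases p <;> first | omega | exact absurd hp (by norm_num)
    · have := a1 rfl; have := a2 rfl; have := a3 rfl
      have : j = 0 ∨ j = 1 ∨ j = 2 ∨ j = 3 ∨ j = 4 ∨ j = 5 ∨ j = 6 := by omega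
      rcases this with h | h | h | h | h | h | h <;> rw [h] at hNj <;> norm_num at hNj <;> omega
    · have := b1 rfl; have := b2 rfl; have := b3 rfl
      have : j = 0 ∨ j = 1 ∨ j = 2 ∨ j = 3 ∨ j = 4 ∨ j = 5 ∨ j = 6 := by omega
      rcases this with h | h | h | h | h | h | h <;> rw [h] at hNj <;> norm_num at hNj <;> omega

namespace Shape

variable {S E : Subgroup G} (hs : Shape S E)
include hs

theorem exists_three : ∃ a b c : G, a ∈ E ∧ b ∈ E ∧ c ∈ E ∧ a ≠ 1 ∧ b ≠ 1 ∧ c ≠ 1 ∧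
    a ≠ b ∧ a ≠ c ∧ b ≠ c ∧ ∀ e ∈ E, e = 1 ∨ e = a ∨ e = b ∨ e = c := by
  classical
  haveI := Fintype.ofFinite G
  have hcard : (Finset.univ.filter (· ∈ E)).card = 4 := by
    rw [← Fintype.card_subtype, ← Nat.card_eq_fintype_card]; exact hs.cardE
  have h3 : ((Finset.univ.filter (· ∈ E)).erase 1).card = 3 := by
    rw [Finset.card_erase_of_mem (by simp), hcard]
  obtain ⟨a, b, c, hab, hac, hbc, he⟩ := Finset.card_eq_three.1 h3
  have hm : ∀ x, x ∈ ({a, b, c} : Finset G) → x ∈ E ∧ x ≠ 1 := fun x hx => by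
    rw [← he] at hx; simp at hx; exact ⟨hx.2, hx.1⟩
  obtain ⟨ha, ha1⟩ := hm a (by simp)
  obtain ⟨hb, hb1⟩ := hm b (by simp)
  obtain ⟨hc, hc1⟩ := hm c (by simp)
  refine ⟨a, b, c, ha, hb, hc, ha1, hb1, hc1, hab, hac, hbc, fun e hee => ?_⟩
  by_contra hne
  push Not at hne
  have : e ∈ ({a, b, c} : Finset G) := by rw [← he]; simp [hee, hne.1]
  simp [hne.2.1, hne.2.2.1, hne.2.2.2] at this

theorem card_fib_congr {a b : G} (ha : a ∈ E) (hb : b ∈ E) (ha1 : a ≠ 1) (hb1 : b ≠ 1) :
    Nat.card (Fib S a) = Nat.card (Fib S b) := by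
  obtain ⟨n, hn, he⟩ := hs.trans a ha b hb ha1 hb1
  refine Nat.card_congr ((MulAut.conj n).toEquiv.subtypeEquiv fun x => ?_)
  simp only [Fib, Set.mem_ofPred_eq, MulEquiv.toEquiv_eq_coe, EquivLike.coe_coe, MulAut.conj_apply]
  rw [← Subgroup.mem_normalizer_iff.1 hn x, conj_mul, ← he]
  exact and_congr_right fun _ => ((MulAut.conj n).injective.eq_iff (a := x * x) (b := a)).symm

theorem sq_one_iff {x : G} (hx : x ∈ S) : x * x = 1 ↔ x ∈ E :=
  ⟨hs.invol x hx, hs.esq x⟩

theorem card_fib {e : G} (he : e ∈ E) (he1 : e ≠ 1) : Nat.card (Fib S e) = 20 := by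
  classical
  haveI := Fintype.ofFinite G
  obtain ⟨a, b, c, ha, hb, hc, ha1, hb1, hc1, hab, hac, hbc, hall⟩ := hs.exists_three
  let F : G → Finset G := fun e => Finset.univ.filter (fun x => x ∈ S ∧ x * x = e)
  have hF : ∀ e, (F e).card = Nat.card (Fib S e) := fun e => by
    rw [Nat.card_eq_fintype_card, Fintype.card_subtype]; simp [F]
  have hsum : (Finset.univ.filter (· ∈ S)).card =
      (F 1).card + (F a).card + (F b).card + (F c).card := by
    rw [Finset.card_eq_sum_card_fiberwise (f := fun x => x * x) (t := {1, a, b, c})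
      (fun x hx => by
        rcases hall _ (hs.sq x (by simpa using hx)) with h | h | h | h <;> simp [h])]
    rw [Finset.sum_insert (by simp [ha1.symm, hb1.symm, hc1.symm]), Finset.sum_insert (by simp [hab, hac]),
      Finset.sum_insert (by simp [hbc]), Finset.sum_singleton]
    simp only [F, Finset.filter_filter]
    ring
  have h1 : (F 1).card = 4 := by
    rw [← hs.cardE, Nat.card_eq_fintype_card, Fintype.card_subtype]
    refine congrArg Finset.card (Finset.ext fun x => ?_)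
    simp only [F, Finset.mem_filter, Finset.mem_univ, true_and]
    exact ⟨fun h => hs.invol x h.1 h.2, fun h => ⟨hs.le h, hs.esq x h⟩⟩
  have hS : (Finset.univ.filter (· ∈ S)).card = 64 := by
    rw [← Fintype.card_subtype, ← Nat.card_eq_fintype_card]; exact hs.cardS
  rw [hS, h1, hF, hF, hF, ← hs.card_fib_congr ha hb ha1 hb1, ← hs.card_fib_congr ha hc ha1 hc1] at hsum
  rw [← hs.card_fib_congr ha he ha1 he1]
  omega

/-- The element fixes no nontrivial coset without fixing its members. -/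
theorem fix_coset {g x z : G} (hg : Odd (orderOf g)) (hz : z ∈ E) (hgz : Commute g z)
    (hxz : g * x * g⁻¹ = x * z) : z = 1 := by
  have key : ∀ k : ℕ, g ^ k * x * (g ^ k)⁻¹ = x * z ^ k := by
    intro k
    induction k with
    | zero => simp
    | succ k ih =>
      calc g ^ (k + 1) * x * (g ^ (k + 1))⁻¹ = g * (g ^ k * x * (g ^ k)⁻¹) * g⁻¹ := by group
        _ = (g * x * g⁻¹) * (g * z ^ k * g⁻¹) := by rw [ih]; group
        _ = x * (z * z ^ k) := by
          rw [hxz, (hgz.pow_right k).eq, mul_inv_cancel_right, mul_assoc]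
        _ = x * z ^ (k + 1) := by rw [pow_succ']
  have := key (orderOf g)
  rw [pow_orderOf_eq_one, one_mul, inv_one, mul_one, left_eq_mul] at this
  obtain ⟨j, hj⟩ := hg
  rwa [hj, pow_succ, pow_mul, _root_.sq, hs.esq z hz, one_pow, one_mul] at this

theorem pow_normalizer {g : G} (hn : g ∈ Subgroup.normalizer (S : Set G)) (k : ℕ) :
    g ^ k ∈ Subgroup.normalizer (S : Set G) := pow_mem hn k

set_option maxHeartbeats 1600000 in
/-- The action of an element of prime power order. -/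
theorem prime_action {g : G} {p a : ℕ} (hp : p.Prime) (hp2 : p ≠ 2) (hord : orderOf g = p ^ a)
    (hn : g ∈ Subgroup.normalizer (S : Set G)) (hE : ∀ e ∈ E, Commute g e) :
    (∀ x ∈ S, Commute (g ^ 5) x) ∧
      ((∀ x ∈ S, Commute g x) ∨ ∀ x ∈ S, Commute g x → x ∈ E) := by
  classical
  haveI := Fintype.ofFinite G
  haveI := Fact.mk hp
  have hodd : Odd (orderOf g) := by rw [hord]; exact (hp.odd_of_ne_two hp2).pow
  set C : Subgroup G := S ⊓ Subgroup.centralizer {g} with hC
  have hmemC : ∀ x, x ∈ C ↔ x ∈ S ∧ Commute g x := fun x => by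
    simp [hC, Subgroup.mem_centralizer_singleton_iff, commute_iff_eq, eq_comm]
  have hEC : E ≤ C := fun e he => (hmemC e).2 ⟨hs.le he, hE e he⟩
  let σ : ∀ e : E, Equiv.Perm (Fib S (e : G)) := fun e =>
    (MulAut.conj g).toEquiv.subtypeEquiv fun x => by
      simp only [Fib, Set.mem_ofPred_eq, MulEquiv.toEquiv_eq_coe, EquivLike.coe_coe, MulAut.conj_apply]
      rw [← Subgroup.mem_normalizer_iff.1 hn x, conj_mul]
      refine and_congr_right fun _ => ?_
      constructor
      · intro h; rw [h, (hE e e.2).eq, mul_inv_cancel_right]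
      · intro h; exact (MulAut.conj g).injective (show g * (x * x) * g⁻¹ = g * (e : G) * g⁻¹ from h.trans (by rw [(hE e e.2).eq, mul_inv_cancel_right]))
  have hval : ∀ (e : E) (k : ℕ) (x : Fib S (e : G)),
      (((σ e) ^ k) x : G) = g ^ k * x * (g ^ k)⁻¹ := by
    intro e k x
    induction k with
    | zero => simp
    | succ k ih =>
      rw [pow_succ', Equiv.Perm.mul_apply]
      show g * _ * g⁻¹ = _
      rw [ih]; group
  have hpow : ∀ e : E, (σ e) ^ p ^ a = 1 := fun e => Equiv.ext fun x => Subtype.ext (by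
    rw [hval, ← hord, pow_orderOf_eq_one]; simp)
  -- the number of fixed points in each fibre
  have hfix : ∀ e : E, (e : G) ≠ 1 →
      Nat.card {x : G | x ∈ C ∧ x * x = e} ≡ 20 [MOD p] ∧
        4 ∣ Nat.card {x : G | x ∈ C ∧ x * x = e} ∧ Nat.card {x : G | x ∈ C ∧ x * x = e} ≤ 20 := by
    intro e he1
    refine ⟨?_, ?_, ?_⟩
    · have h1 := Equiv.Perm.card_compl_support_modEq (hpow e)
      rw [← Nat.card_eq_fintype_card, hs.card_fib e.2 he1] at h1
      convert h1 using 1
      rw [← Nat.card_eq_finsetCard]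
      refine Nat.card_congr
        { toFun := fun x => ⟨⟨x.1, ((hmemC _).1 x.2.1).1, x.2.2⟩, by
            simp only [Finset.mem_compl, Equiv.Perm.notMem_support]
            refine Subtype.ext ?_
            show g * x.1 * g⁻¹ = x.1
            rw [((hmemC _).1 x.2.1).2.eq, mul_inv_cancel_right]⟩
          invFun := fun x => ⟨x.1.1, (hmemC _).2 ⟨x.1.2.1, by
            have := x.2
            simp only [Finset.mem_compl, Equiv.Perm.notMem_support] at this
            exact mul_inv_eq_iff_eq_mul.1 (congrArg Subtype.val this)⟩, x.1.2.2⟩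
          left_inv := fun x => rfl
          right_inv := fun x => rfl }
    · rw [← hs.cardE]
      refine card_dvd_of_mul_mem E fun x hx z hz => ⟨mul_mem hx.1 (hEC hz), ?_⟩
      calc x * z * (x * z) = x * (z * x) * z := by group
        _ = x * x * (z * z) := by rw [(hs.central z hz x ((hmemC _).1 hx.1).1).eq]; group
        _ = e := by rw [hs.esq z hz, mul_one]; exact hx.2
    · rw [← hs.card_fib e.2 he1]
      exact Nat.card_mono (Set.toFinite _) fun x hx => ⟨((hmemC _).1 hx.1).1, hx.2⟩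
  obtain ⟨e1, e2, e3, he1, he2, he3, h11, h21, h31, h12, h13, h23, hall⟩ := hs.exists_three
  set k : G → ℕ := fun e => Nat.card {x : G | x ∈ C ∧ x * x = e} with hk
  have hsum : Nat.card C = 4 + k e1 + k e2 + k e3 := by
    let F : G → Finset G := fun e => Finset.univ.filter (fun x => x ∈ C ∧ x * x = e)
    have hF : ∀ e, (F e).card = k e := fun e => by
      simp only [hk, Nat.card_eq_fintype_card, Fintype.card_subtype]; simp [F]
    have h0 : (F 1).card = 4 := by
      rw [← hs.cardE, Nat.card_eq_fintype_card, Fintype.card_subtype]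
      refine congrArg Finset.card (Finset.ext fun x => ?_)
      simp only [F, Finset.mem_filter, Finset.mem_univ, true_and]
      exact ⟨fun h => hs.invol x ((hmemC _).1 h.1).1 h.2, fun h => ⟨hEC h, hs.esq x h⟩⟩
    rw [← hF, ← hF, ← hF, ← h0, Nat.card_eq_fintype_card, Fintype.card_subtype,
      Finset.card_eq_sum_card_fiberwise (f := fun x => x * x) (t := {1, e1, e2, e3})
      (fun x hx => by
        rcases hall _ (hs.sq x ((hmemC _).1 (by simpa using hx)).1) with h | h | h | h <;> simp [h])]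
    rw [Finset.sum_insert (by simp [h11.symm, h21.symm, h31.symm]), Finset.sum_insert (by simp [h12, h13]),
      Finset.sum_insert (by simp [h23]), Finset.sum_singleton]
    simp only [F, Finset.filter_filter]
    ring
  have hdvd : Nat.card C ∣ 2 ^ 6 :=
    (Subgroup.card_dvd_of_le (inf_le_left : C ≤ S)).trans (by rw [hs.cardS]; norm_num)
  obtain ⟨j, hj, hCj⟩ := (Nat.dvd_prime_pow Nat.prime_two).1 hdvd
  have hbig : 32 ≤ Nat.card C → ∀ x ∈ S, Commute g x := by
    intro h32 x hx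
    have hidx : (C.subgroupOf S).index ∣ 2 := by
      have h := (C.subgroupOf S).card_mul_index
      rw [Nat.card_congr (Subgroup.subgroupOfEquivOfLe (inf_le_left : C ≤ S)).toEquiv, hs.cardS,
        hCj] at h
      rw [hCj] at h32
      have : (C.subgroupOf S).index = 1 ∨ (C.subgroupOf S).index = 2 := by
        interval_cases j <;> omega
      rcases this with h' | h' <;> rw [h'] <;> norm_num
    have hxx : g * x * g⁻¹ = x * (x⁻¹ * (g * x * g⁻¹)) := by group
    by_cases hxC : x ∈ C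
    · exact ((hmemC _).1 hxC).2
    have hgx : g * x * g⁻¹ ∈ S := (Subgroup.mem_normalizer_iff.1 hn x).1 hx
    have hgxC : g * x * g⁻¹ ∉ C := fun h => hxC <| by
      obtain ⟨-, h2⟩ := (hmemC _).1 h
      refine (hmemC _).2 ⟨hx, ?_⟩
      have := h2.eq
      calc g * x = (g * x * g⁻¹) * g := by group
        _ = g⁻¹ * (g * (g * x * g⁻¹)) * g := by group
        _ = g⁻¹ * ((g * x * g⁻¹) * g) * g := by rw [this]
        _ = x * g := by group
    have hidx2 : (C.subgroupOf S).index = 2 :=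
      ((Nat.dvd_prime Nat.prime_two).1 hidx).resolve_left fun h => hxC
        (Subgroup.mem_subgroupOf.1 ((Subgroup.index_eq_one.1 h).symm ▸ Subgroup.mem_top (⟨x, hx⟩ : S)))
    have hc : x⁻¹ * (g * x * g⁻¹) ∈ C := by
      have := (Subgroup.mul_mem_iff_of_index_two hidx2 (a := (⟨x, hx⟩ : S)⁻¹) (b := ⟨_, hgx⟩)).2
        (iff_of_false (fun h => hxC (by simpa [Subgroup.mem_subgroupOf] using h))
          (fun h => hgxC (by simpa [Subgroup.mem_subgroupOf] using h)))
      simpa [Subgroup.mem_subgroupOf] using this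
    set c := x⁻¹ * (g * x * g⁻¹) with hcdef
    have hcg := ((hmemC _).1 hc).2
    have hit : ∀ i : ℕ, g ^ i * x * (g ^ i)⁻¹ = x * c ^ i := by
      intro i
      induction i with
      | zero => simp
      | succ i ih =>
        calc g ^ (i + 1) * x * (g ^ (i + 1))⁻¹ = g * (g ^ i * x * (g ^ i)⁻¹) * g⁻¹ := by group
          _ = (g * x * g⁻¹) * (g * c ^ i * g⁻¹) := by rw [ih]; group
          _ = (x * c) * c ^ i := by
            rw [(hcg.pow_right i).eq, mul_inv_cancel_right, hcdef]; group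
          _ = x * c ^ (i + 1) := by rw [pow_succ']; group
    have h1 := hit (orderOf g)
    rw [pow_orderOf_eq_one, one_mul, inv_one, mul_one, left_eq_mul] at h1
    have h2 : orderOf c ∣ 2 ^ 6 := (orderOf_dvd_of_pow_eq_one (by
      have := pow_card_eq_one' (x := (⟨c, ((hmemC _).1 hc).1⟩ : S))
      rw [hs.cardS] at this
      exact congrArg Subtype.val this))
    have h3 : orderOf c = 1 := Nat.eq_one_of_dvd_coprimes
      ((Nat.coprime_primes hp Nat.prime_two).2 hp2 |>.pow a 6) (hord ▸ orderOf_dvd_of_pow_eq_one h1) h2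
    rw [orderOf_eq_one_iff, hcdef, inv_mul_eq_one] at h3
    exact mul_inv_eq_iff_eq_mul.1 h3.symm
  have hk1 := hfix ⟨e1, he1⟩ h11
  have hk2 := hfix ⟨e2, he2⟩ h21
  have hk3 := hfix ⟨e3, he3⟩ h31
  simp only [Nat.ModEq] at hk1 hk2 hk3
  change k e1 % p = _ ∧ 4 ∣ k e1 ∧ k e1 ≤ 20 at hk1
  change k e2 % p = _ ∧ 4 ∣ k e2 ∧ k e2 ≤ 20 at hk2
  change k e3 % p = _ ∧ 4 ∣ k e3 ∧ k e3 ≤ 20 at hk3
  have hcases := count_cases hp hp2 hk1 hk2 hk3 hsum hdvd
  rcases hcases with h32 | ⟨rfl, z1, z2, z3⟩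
  · exact ⟨fun x hx => (hbig h32 x hx).pow_left 5, Or.inl (hbig h32)⟩
  refine ⟨fun x hx => ?_, Or.inr fun x hx hgx => ?_⟩
  · by_cases hxE : x ∈ E
    · exact (hE x hxE).pow_left 5
    obtain ⟨e, he, hxe⟩ : ∃ e ∈ E, x * x = e := ⟨_, hs.sq x hx, rfl⟩
    set τ := σ ⟨e, he⟩
    have he0 : e ≠ 1 := fun h => hxE (hs.invol x hx (hxe.trans h))
    have hle : ∀ n ∈ τ.cycleType, n = 5 := by
      intro n hn'
      have h1 := Equiv.Perm.dvd_of_mem_cycleType hn'
      have h2 := Equiv.Perm.two_le_of_mem_cycleType hn'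
      have h3 : n ≤ 20 := by
        have := Multiset.single_le_sum (fun _ _ => Nat.zero_le _) n hn'
        refine this.trans ?_
        rw [Equiv.Perm.sum_cycleType]
        exact (Finset.card_le_univ _).trans (by rw [← Nat.card_eq_fintype_card, hs.card_fib he he0])
      obtain ⟨i, -, rfl⟩ := (Nat.dvd_prime_pow hp).1 (h1.trans (orderOf_dvd_of_pow_eq_one (hpow ⟨e, he⟩)))
      have : i < 2 := by
        by_contra hi
        have : 5 ^ 2 ≤ 5 ^ i := Nat.pow_le_pow_right (by norm_num) (not_lt.1 hi)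
        omega
      interval_cases i <;> simp_all
    have h5 : τ ^ 5 = 1 := orderOf_dvd_iff_pow_eq_one.1 (by
      rw [← Equiv.Perm.lcm_cycleType]
      exact Multiset.lcm_dvd.2 fun n hn' => by rw [hle n hn'])
    have := hval ⟨e, he⟩ 5 ⟨x, hx, hxe⟩
    rw [h5] at this
    exact mul_inv_eq_iff_eq_mul.1 this.symm
  · by_contra hxE
    rcases hall _ (hs.sq x hx) with h | h | h | h
    · exact hxE (hs.invol x hx h)
    all_goals
      have hpos : 0 < k (x * x) := Nat.card_pos_iff.2 ⟨⟨⟨x, (hmemC _).2 ⟨hx, hgx⟩, rfl⟩⟩, inferInstance⟩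
      rw [h] at hpos
      omega

/-- The action of an element of odd order. -/
theorem odd_action {g : G} (hodd : Odd (orderOf g))
    (hn : g ∈ Subgroup.normalizer (S : Set G)) (hE : ∀ e ∈ E, Commute g e) :
    (∀ x ∈ S, Commute (g ^ 5) x) ∧
      ((∀ x ∈ S, Commute g x) ∨ ∀ x ∈ S, Commute g x → x ∈ E) := by
  induction hn' : orderOf g using Nat.strong_induction_on generalizing g with
  | _ n ih =>
  subst hn'
  rcases eq_or_ne g 1 with rfl | hg1
  · exact ⟨fun x _ => by simp, Or.inl fun x _ => Commute.one_left x⟩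
  have h0 : orderOf g ≠ 0 := (orderOf_pos g).ne'
  obtain ⟨p, hp, hpd⟩ := Nat.exists_prime_and_dvd (n := orderOf g) (fun e => hg1 (orderOf_eq_one_iff.1 e))
  obtain ⟨a, m, hm, hgm⟩ := Nat.exists_eq_pow_mul_and_not_dvd h0 p hp.ne_one
  have hp2 : p ≠ 2 := fun e => Nat.not_even_iff_odd.2 hodd (even_iff_two_dvd.2 (e ▸ hpd))
  rcases eq_or_ne m 1 with rfl | hm1
  · exact hs.prime_action hp hp2 (by rw [hgm, mul_one]) hn hE
  have hcop : Nat.Coprime (p ^ a) m := ((hp.coprime_iff_not_dvd).2 hm).pow_left _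
  have ha1 : 1 < p ^ a := by
    rcases Nat.eq_zero_or_pos a with rfl | ha
    · rw [pow_zero, one_mul] at hgm; exact absurd (hgm ▸ hpd) hm
    · exact Nat.one_lt_pow ha.ne' hp.one_lt
  have hm0 : 1 < m := by
    have : m ≠ 0 := fun e => h0 (by rw [hgm, e, mul_zero])
    omega
  have o1 : orderOf (g ^ m) = p ^ a := by
    rw [orderOf_pow, hgm, Nat.gcd_mul_left_left, Nat.mul_div_cancel _ (by omega)]
  have o2 : orderOf (g ^ p ^ a) = m := by
    rw [orderOf_pow, hgm, Nat.gcd_mul_right_left, Nat.mul_div_cancel_left _ (by omega)]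
  have hlt1 : p ^ a < orderOf g := by rw [hgm]; exact lt_mul_of_one_lt_right (by omega) hm0
  have hlt2 : m < orderOf g := by rw [hgm]; exact lt_mul_of_one_lt_left (by omega) ha1
  obtain ⟨A1, A2⟩ := ih (p ^ a) hlt1 (g := g ^ m) (by rw [o1]; exact hodd.of_dvd_nat ⟨m, hgm⟩)
    (hs.pow_normalizer hn m) (fun e he => (hE e he).pow_left m) o1
  obtain ⟨B1, B2⟩ := ih m hlt2 (g := g ^ p ^ a)
    (by rw [o2]; exact hodd.of_dvd_nat ⟨p ^ a, by rw [hgm, mul_comm]⟩)
    (hs.pow_normalizer hn _) (fun e he => (hE e he).pow_left _) o2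
  have hbez : ∃ u v : ℤ, g = (g ^ m) ^ u * (g ^ p ^ a) ^ v := by
    obtain ⟨u, v, huv⟩ := Nat.isCoprime_iff_coprime.2 hcop
    refine ⟨v, u, ?_⟩
    rw [← zpow_natCast g m, ← zpow_natCast g (p ^ a), ← zpow_mul, ← zpow_mul, ← zpow_add]
    conv_lhs => rw [← zpow_one g, ← huv]
    congr 1
    push_cast
    ring
  obtain ⟨u, v, huv⟩ := hbez
  have hcc : Commute ((g ^ m) ^ u) ((g ^ p ^ a) ^ v) :=
    ((Commute.refl g).pow_pow _ _).zpow_zpow u v
  refine ⟨fun x hx => ?_, ?_⟩
  · rw [huv, hcc.mul_pow]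
    refine Commute.mul_left ?_ ?_
    · rw [← zpow_natCast, ← zpow_mul, mul_comm, zpow_mul, zpow_natCast]
      exact (A1 x hx).zpow_left u
    · rw [← zpow_natCast, ← zpow_mul, mul_comm, zpow_mul, zpow_natCast]
      exact (B1 x hx).zpow_left v
  · rcases A2 with A2 | A2
    · rcases B2 with B2 | B2
      · left
        intro x hx
        rw [huv]
        exact ((A2 x hx).zpow_left u).mul_left ((B2 x hx).zpow_left v)
      · exact Or.inr fun x hx hgx => B2 x hx (hgx.pow_left _)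
    · exact Or.inr fun x hx hgx => A2 x hx (hgx.pow_left _)

end Shape

end Cfsg.Lib.PiHom.U34
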