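import Cfsg.Agent.Lib.PiHom.Structure
import Cfsg.Agent.Lib.PiHom.U34.Local
import Cfsg.Agent.Lib.Block.PPart

/-!
# The centralizer of a central involution

`C(t) = L S ⟨g⟩` with `L` normal of odd order meeting `S` trivially.
-/

set_option autoImplicit false
set_option linter.unusedSectionVars false
set_option linter.style.haveILetI false

namespace Cfsg.Lib.PiHom.U34

open Cfsg.Lib
open scoped Pointwise

universe u

variable {G : Type u} [Group G] [Finite G] {Kc : Subgroup G}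

/-- The centralizer of an element. -/
abbrev Ct (t : G) : Subgroup G := Subgroup.centralizer ({t} : Set G)

theorem mem_Ct {t x : G} : x ∈ Ct t ↔ Commute x t := by
  rw [Subgroup.mem_centralizer_singleton_iff]; rfl

/-- The standing data: a simple group, its Sylow subgroup and an involution `t` whose centralizer is the
product of its core, of odd order and holding the odd elements inverted by involutions, and the normalizer
of the Sylow subgroup. -/
structure Ctx (Kc : Subgroup G) (S : Sylow 2 G) (E : Subgroup G) (t : G) : Prop where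
  simple : IsSimpleGroup G
  noncomm : ¬ IsMulCommutative G
  hs : Shape (S : Subgroup G) E
  ht : t ∈ E
  ht1 : t ≠ 1
  split : ∀ x ∈ Ct t, ∃ k ∈ Kc, ∃ n ∈ Ct t,
    n ∈ Subgroup.normalizer ((S : Subgroup G) : Set G) ∧ x = k * n
  core_odd : Odd (Nat.card (Kc))
  inverted : ∀ x r : G, orderOf x = 2 → x ∈ Ct t → Odd (orderOf r) → r ∈ Ct t →
    x * r * x⁻¹ = r⁻¹ → r ∈ Kc
  sub : Kc ≤ Ct t
  normal : Ct t ≤ Subgroup.normalizer (Kc : Set G)

/-- The odd elements centralizing `S`. -/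
def dsub (S : Sylow 2 G) : Subgroup G :=
  Subgroup.closure {d | Odd (orderOf d) ∧ ∀ x ∈ (S : Subgroup G), Commute d x}

/-- The normal subgroup `L` of `C(t)`. -/
def lsub (Kc : Subgroup G) (S : Sylow 2 G) (t : G) : Subgroup G := Kc ⊔ dsub S

theorem mem_of_two_power {S : Sylow 2 G} {x : G} (hx : ∃ k : ℕ, orderOf x = 2 ^ k)
    (hn : x ∈ Subgroup.normalizer ((S : Subgroup G) : Set G)) : x ∈ (S : Subgroup G) := by
  haveI : Fact (Nat.Prime 2) := ⟨Nat.prime_two⟩
  obtain ⟨k, hk⟩ := hx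
  have hp : IsPGroup 2 (Subgroup.zpowers x) := IsPGroup.of_card (by rw [Nat.card_zpowers, hk])
  have h := S.is_maximal' (IsPGroup.to_sup_of_normal_right' hp S.isPGroup'
    (Subgroup.zpowers_le.2 hn)) le_sup_right
  rw [← h]; exact le_sup_left (b := (S : Subgroup G)) (Subgroup.mem_zpowers x)

theorem eq_one_of_odd_two {x : G} (h1 : Odd (orderOf x)) {k : ℕ} (h2 : x ^ 2 ^ k = 1) : x = 1 := by
  obtain ⟨j, -, hj⟩ := (Nat.dvd_prime_pow Nat.prime_two).1 (orderOf_dvd_of_pow_eq_one h2)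
  rw [hj] at h1
  rcases Nat.eq_zero_or_pos j with rfl | hj0
  · exact orderOf_eq_one_iff.1 (by rw [hj, pow_zero])
  · exact absurd (Nat.even_pow.2 ⟨even_two, hj0.ne'⟩) (Nat.not_even_iff_odd.2 h1)

namespace Ctx

variable {S : Sylow 2 G} {E : Subgroup G} {t : G} (c : Ctx Kc S E t)
include c

theorem t_sq : t * t = 1 := c.hs.esq t c.ht

theorem t_mem : t ∈ (S : Subgroup G) := c.hs.le c.ht

theorem sylow_le_Ct : (S : Subgroup G) ≤ Ct t := fun x hx =>
  mem_Ct.2 (c.hs.central t c.ht x hx).symm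

theorem pow_sylow {x : G} (hx : x ∈ (S : Subgroup G)) : x ^ 2 ^ 6 = 1 := by
  have := pow_card_eq_one' (x := (⟨x, hx⟩ : (S : Subgroup G)))
  rw [c.hs.cardS] at this
  exact congrArg Subtype.val this

theorem Ct_ne_top : Ct t ≠ ⊤ := by
  intro h
  haveI := c.simple
  have hc : t ∈ Subgroup.center G := Subgroup.mem_center_iff.2 fun g =>
    (mem_Ct.1 (h ▸ Subgroup.mem_top g)).eq
  rcases (Subgroup.center G).normal_of_characteristic.eq_bot_or_eq_top with h' | h'
  · rw [h'] at hc; exact c.ht1 (Subgroup.mem_bot.1 hc)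
  · exact c.noncomm ⟨⟨fun a b => by
      exact (Subgroup.mem_center_iff.1 (h' ▸ Subgroup.mem_top b) a)⟩⟩

/-- An odd element of the normalizer centralizing `t` centralizes `E`. -/
theorem odd_fix_E {o : G} (ho : Odd (orderOf o))
    (hn : o ∈ Subgroup.normalizer ((S : Subgroup G) : Set G)) (hot : o ∈ Ct t) :
    ∀ e ∈ E, Commute o e := by
  have hot' : o * t * o⁻¹ = t := by rw [(mem_Ct.1 hot).eq, mul_inv_cancel_right]
  have hmap : ∀ e ∈ E, o * e * o⁻¹ ∈ E := fun e he =>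
    c.hs.invol _ ((Subgroup.mem_normalizer_iff.1 hn e).1 (c.hs.le he)) (by
      calc o * e * o⁻¹ * (o * e * o⁻¹) = o * (e * e) * o⁻¹ := by group
        _ = 1 := by rw [c.hs.esq e he]; group)
  obtain ⟨a, b, d, ha, hb, hd, ha1, hb1, hd1, hab, had, hbd, hall⟩ := c.hs.exists_three
  intro e he
  -- the square of conjugation fixes everything
  have h2 : o * (o * e * o⁻¹) * o⁻¹ = e := by
    by_cases he1 : o * e * o⁻¹ = e
    · rw [he1, he1]
    have hne1 : e ≠ 1 := fun h => he1 (by rw [h]; group)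
    have hnet : e ≠ t := fun h => he1 (by rw [h, hot'])
    set e' := o * e * o⁻¹ with he'
    set e'' := o * e' * o⁻¹ with he''
    have hin : ∀ z, o * z * o⁻¹ = o * e * o⁻¹ → z = e := fun z hz =>
      (MulAut.conj o).injective hz
    have h'1 : e' ≠ 1 := fun h => hne1 (hin 1 (by rw [mul_one, mul_inv_cancel, ← he', h]) ).symm
    have h't : e' ≠ t := fun h => hnet (hin t (by rw [hot', ← he', h])).symm
    have h''1 : e'' ≠ 1 := fun h => h'1 ((MulAut.conj o).injective (by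
      show o * e' * o⁻¹ = o * 1 * o⁻¹; rw [← he'', h]; group))
    have h''t : e'' ≠ t := fun h => h't ((MulAut.conj o).injective (by
      show o * e' * o⁻¹ = o * t * o⁻¹; rw [← he'', h, hot']))
    have h''e : e'' ≠ e' := fun h => he1 ((MulAut.conj o).injective h)
    rcases hall t c.ht with h | h | h | h
    · exact absurd h c.ht1
    all_goals
      rcases hall e he with h1 | h1 | h1 | h1 <;>
      rcases hall e' (hmap e he) with h2 | h2 | h2 | h2 <;>
      rcases hall e'' (hmap e' (hmap e he)) with h3 | h3 | h3 | h3 <;>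
      first
        | exact h3.trans h1.symm
        | exact absurd h1 hne1 | exact absurd h2 h'1 | exact absurd h3 h''1
        | exact absurd (h1.trans h.symm) hnet | exact absurd (h2.trans h.symm) h't
        | exact absurd (h3.trans h.symm) h''t | exact absurd (h2.trans h1.symm) he1
        | exact absurd (h3.trans h2.symm) h''e
  obtain ⟨j, hj⟩ := ho
  have hc2 : Commute (o ^ 2) e := by
    refine mul_inv_eq_iff_eq_mul.1 ?_
    conv_rhs => rw [← h2]
    rw [pow_two]; group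
  have : o = (o ^ 2) ^ (j + 1) := by
    rw [← pow_mul, show 2 * (j + 1) = orderOf o + 1 by omega, pow_succ, pow_orderOf_eq_one, one_mul]
  rw [this]
  exact hc2.pow_left _

theorem exists_two_odd {n : G} (hn : n ∈ Subgroup.normalizer ((S : Subgroup G) : Set G))
    (hnt : n ∈ Ct t) : ∃ s o : G, s ∈ (S : Subgroup G) ∧ Odd (orderOf o) ∧
      o ∈ Subgroup.normalizer ((S : Subgroup G) : Set G) ∧ o ∈ Ct t ∧ n = s * o := by
  haveI : Fact (Nat.Prime 2) := ⟨Nat.prime_two⟩
  exact ⟨Block.pPt 2 n, Block.pReg 2 n,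
    mem_of_two_power (Block.exists_orderOf_pPt n) (Subgroup.zpowers_le.2 hn (Block.pPt_mem_zpowers n)),
    Nat.not_even_iff_odd.1 fun h => Block.not_dvd_orderOf_pReg n (even_iff_two_dvd.1 h),
    Subgroup.zpowers_le.2 hn (Block.pReg_mem_zpowers n),
    Subgroup.zpowers_le.2 hnt (Block.pReg_mem_zpowers n), (Block.pPt_mul_pReg n).symm⟩

theorem decomp {x : G} (hx : x ∈ Ct t) : ∃ k s o : G, k ∈ Kc ∧ s ∈ (S : Subgroup G) ∧
    Odd (orderOf o) ∧ o ∈ Subgroup.normalizer ((S : Subgroup G) : Set G) ∧ o ∈ Ct t ∧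
    x = k * s * o := by
  obtain ⟨k, hk, n, hn, hnn, rfl⟩ := c.split x hx
  obtain ⟨s, o, hs, h1, h2, h3, rfl⟩ := c.exists_two_odd hnn hn
  exact ⟨k, s, o, hk, hs, h1, h2, h3, (mul_assoc _ _ _).symm⟩

/-- The odd elements centralizing `S` form a subgroup. -/
theorem mem_dsub {d : G} :
    d ∈ dsub S ↔ Odd (orderOf d) ∧ ∀ x ∈ (S : Subgroup G), Commute d x := by
  haveI : Fact (Nat.Prime 2) := ⟨Nat.prime_two⟩
  refine ⟨fun hd => ?_, fun hd => Subgroup.subset_closure hd⟩
  set H := Subgroup.centralizer ((S : Subgroup G) : Set G)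
  have hmem : ∀ x, x ∈ H ↔ ∀ y ∈ (S : Subgroup G), Commute x y := fun x => by
    simp only [H, Subgroup.mem_centralizer_iff, SetLike.mem_coe, commute_iff_eq, eq_comm]
  have hEH : E ≤ H := fun e he => (hmem e).2 fun y hy => c.hs.central e he y hy
  set Z := E.subgroupOf H
  haveI hZn : Z.Normal := ⟨fun z hz x => by
    have hzS : (z : G) ∈ (S : Subgroup G) := c.hs.le (Subgroup.mem_subgroupOf.1 hz)
    have : x * z * x⁻¹ = z := Subtype.ext (by
      show (x : G) * z * (x : G)⁻¹ = z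
      rw [((hmem _).1 x.2 _ hzS).eq, mul_inv_cancel_right])
    rwa [this]⟩
  have hcard : Nat.card Z = 4 := by
    rw [Nat.card_congr (Subgroup.subgroupOfEquivOfLe hEH).toEquiv, c.hs.cardE]
  have hidx : ¬ 2 ∣ Z.index := by
    intro h
    haveI : Finite (H ⧸ Z) := inferInstance
    obtain ⟨q, hq⟩ := exists_prime_orderOf_dvd_card' (G := H ⧸ Z) 2 h
    obtain ⟨x, rfl⟩ := QuotientGroup.mk_surjective q
    have hx2 : orderOf (Block.pPt 2 x : H) ≠ 1 ∧ (Block.pPt 2 x : H) ∉ Z := by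
      have : (QuotientGroup.mk (Block.pPt 2 x) : H ⧸ Z) ≠ 1 := by
        intro h1
        have h2 : (QuotientGroup.mk x : H ⧸ Z) = QuotientGroup.mk (Block.pReg 2 x) := by
          conv_lhs => rw [← Block.pPt_mul_pReg (p := 2) x]
          rw [QuotientGroup.mk_mul, h1, one_mul]
        rw [h2] at hq
        have h3 := orderOf_map_dvd (QuotientGroup.mk' Z) (Block.pReg 2 x)
        rw [QuotientGroup.mk'_apply, hq] at h3
        exact Block.not_dvd_orderOf_pReg (p := 2) x h3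
      exact ⟨fun h1 => this (by rw [orderOf_eq_one_iff.1 h1]; rfl),
        fun h1 => this ((QuotientGroup.eq_one_iff _).2 h1)⟩
    obtain ⟨i, hi⟩ := Block.exists_orderOf_pPt (p := 2) x
    have hxS : ((Block.pPt 2 x : H) : G) ∈ (S : Subgroup G) :=
      mem_of_two_power ⟨i, by rw [Subgroup.orderOf_coe, hi]⟩
        (Subgroup.centralizer_le_normalizer _ (Block.pPt 2 x).2)
    refine hx2.2 (Subgroup.mem_subgroupOf.2 ?_)
    by_contra hxE
    obtain ⟨a, b, d, ha, -, -, ha1, -, -, -, -, -, -⟩ := c.hs.exists_three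
    obtain ⟨y, hy, hyx⟩ := c.hs.coset _ hxS hxE a ha
    rw [← ((hmem _).1 (Block.pPt 2 x).2 y hy).eq, mul_inv_cancel_right] at hyx
    exact ha1 (left_eq_mul.1 hyx)
  have hcop : (Nat.card Z).Coprime Z.index := by
    rw [hcard, show (4 : ℕ) = 2 ^ 2 from rfl]
    exact ((Nat.Prime.coprime_iff_not_dvd Nat.prime_two).2 hidx).pow_left 2
  obtain ⟨Y, hY⟩ := Subgroup.exists_right_complement'_of_coprime hcop
  have hYodd : ∀ y ∈ Y, Odd (orderOf y) := fun y hy => by
    refine Odd.of_dvd_nat (Nat.not_even_iff_odd.1 fun h => hidx ?_) (Subgroup.orderOf_dvd_natCard _ hy)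
    rw [hY.symm.index_eq_card]; exact even_iff_two_dvd.1 h
  have hodd_mem : ∀ x : H, Odd (orderOf x) → x ∈ Y := by
    intro x hx
    obtain ⟨⟨e, y⟩, hey, -⟩ := Subgroup.isComplement'_def.1 hY |>.existsUnique x
    have hey' : (e : H) * y = x := hey
    have hcomm : Commute (e : H) y := Subtype.ext
      ((((hmem _).1 (y : H).2) _ (c.hs.le (Subgroup.mem_subgroupOf.1 e.2))).symm.eq)
    have he2 : (e : H) ^ 2 = 1 := Subtype.ext (by
      rw [_root_.sq]; exact c.hs.esq _ (Subgroup.mem_subgroupOf.1 e.2))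
    have : (e : H) = 1 := by
      obtain ⟨a, ha⟩ := hx
      obtain ⟨b, hb⟩ := hYodd _ y.2
      have h1 : x ^ (orderOf x * orderOf (y : H)) = 1 := by rw [pow_mul, pow_orderOf_eq_one, one_pow]
      rw [← hey', hcomm.mul_pow, pow_mul' (y : H), pow_orderOf_eq_one, one_pow, mul_one,
        show orderOf ((e : H) * y) = orderOf x by rw [hey'], ha, hb,
        show (2 * a + 1) * (2 * b + 1) = 2 * (2 * a * b + a + b) + 1 by ring,
        pow_succ, pow_mul, he2, one_pow, one_mul] at h1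
      exact h1
    rw [← hey', this, one_mul]; exact y.2
  have hle : dsub S ≤ Y.map H.subtype := (Subgroup.closure_le _).2 fun x hx =>
    ⟨⟨x, (hmem x).2 hx.2⟩, hodd_mem _ (by rw [← Subgroup.orderOf_coe]; exact hx.1), rfl⟩
  obtain ⟨y, hy, rfl⟩ := hle hd
  exact ⟨by rw [Subgroup.coe_subtype, Subgroup.orderOf_coe]; exact hYodd y hy,
    fun x hx => (hmem _).1 y.2 x hx⟩

theorem dsub_le_Ct : dsub S ≤ Ct t := fun _ hd => mem_Ct.2 ((c.mem_dsub.1 hd).2 t c.t_mem)

theorem dsub_normalized {o d : G} (ho : o ∈ Subgroup.normalizer ((S : Subgroup G) : Set G))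
    (hd : d ∈ dsub S) : o * d * o⁻¹ ∈ dsub S := by
  obtain ⟨h1, h2⟩ := c.mem_dsub.1 hd
  refine c.mem_dsub.2 ⟨by rwa [show orderOf (o * d * o⁻¹) = orderOf d from (MulAut.conj o).orderOf_eq d],
    fun x hx => ?_⟩
  have := (h2 (o⁻¹ * x * o) (by
    have := (Subgroup.mem_normalizer_iff.1 (inv_mem ho) x).1 hx
    rwa [inv_inv] at this)).map (MulAut.conj o).toMonoidHom
  simpa [mul_assoc] using this

theorem core_conj {x k : G} (hx : x ∈ Ct t) (hk : k ∈ Kc) :
    x * k * x⁻¹ ∈ Kc :=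
  (Subgroup.mem_normalizer_iff.1 (c.normal hx) k).1 hk

theorem mem_lsub {x : G} :
    x ∈ lsub Kc S t ↔ ∃ k ∈ Kc, ∃ d ∈ dsub S, k * d = x := by
  have hn : dsub S ≤ Subgroup.normalizer (Kc : Set G) :=
    c.dsub_le_Ct.trans c.normal
  rw [lsub, ← SetLike.mem_coe, Subgroup.coe_mul_of_right_le_normalizer_left _ _ hn]
  simp [Set.mem_mul]

theorem lsub_le : lsub Kc S t ≤ Ct t := sup_le c.sub c.dsub_le_Ct

theorem lsub_odd {x : G} (hx : x ∈ lsub Kc S t) : Odd (orderOf x) := by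
  obtain ⟨k, hk, d, hd, rfl⟩ := c.mem_lsub.1 hx
  set K := Kc
  have hdK : d ∈ Subgroup.normalizer (K : Set G) :=
    c.normal (c.dsub_le_Ct hd)
  have key : ∀ n : ℕ, ∃ k' ∈ K, (k * d) ^ n = k' * d ^ n := by
    intro n
    induction n with
    | zero => exact ⟨1, one_mem _, by simp⟩
    | succ n ih =>
      obtain ⟨k', hk', e⟩ := ih
      refine ⟨k' * (d ^ n * k * (d ^ n)⁻¹), mul_mem hk'
        ((Subgroup.mem_normalizer_iff.1 (pow_mem hdK n) k).1 hk), ?_⟩
      rw [pow_succ, e, pow_succ]; group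
  obtain ⟨k', hk', e⟩ := key (orderOf d)
  rw [pow_orderOf_eq_one, mul_one] at e
  refine ((c.mem_dsub.1 hd).1.mul (c.core_odd)).of_dvd_nat
    (orderOf_dvd_of_pow_eq_one ?_)
  rw [pow_mul, e]
  exact orderOf_dvd_iff_pow_eq_one.1 (Subgroup.orderOf_dvd_natCard K hk')

theorem lsub_inf {x : G} (hx : x ∈ lsub Kc S t) (hxS : x ∈ (S : Subgroup G)) : x = 1 :=
  eq_one_of_odd_two (c.lsub_odd hx) (c.pow_sylow hxS)

theorem lsub_conj {x y : G} (hx : x ∈ Ct t) (hy : y ∈ lsub Kc S t) :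
    x * y * x⁻¹ ∈ lsub Kc S t := by
  obtain ⟨k, hk, d, hd, rfl⟩ := c.mem_lsub.1 hy
  obtain ⟨k', s, o, hk', hs, -, hon, -, rfl⟩ := c.decomp hx
  have e : k' * s * o * (k * d) * (k' * s * o)⁻¹ =
      (k' * s * o) * k * (k' * s * o)⁻¹ * (k' * ((s * o) * d * (s * o)⁻¹) * k'⁻¹) := by group
  rw [e]
  refine mul_mem (le_sup_left (b := dsub S) (c.core_conj hx hk)) ?_
  refine mul_mem (mul_mem (le_sup_left (b := dsub S) hk') (le_sup_right (a := Kc) ?_))
    (inv_mem (le_sup_left (b := dsub S) hk'))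
  exact c.dsub_normalized (mul_mem (Subgroup.le_normalizer hs) hon) hd

/-- An element of `L` normalizing `S` centralizes it. -/
theorem lsub_centralizes {x y : G} (hx : x ∈ lsub Kc S t)
    (hn : x ∈ Subgroup.normalizer ((S : Subgroup G) : Set G)) (hy : y ∈ (S : Subgroup G)) :
    Commute x y := by
  have h1 : x * y * x⁻¹ * y⁻¹ ∈ lsub Kc S t := by
    have := c.lsub_conj (c.sylow_le_Ct hy) (inv_mem hx)
    rw [show x * y * x⁻¹ * y⁻¹ = x * (y * x⁻¹ * y⁻¹) by group]
    exact mul_mem hx this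
  have h2 : x * y * x⁻¹ * y⁻¹ ∈ (S : Subgroup G) :=
    mul_mem ((Subgroup.mem_normalizer_iff.1 hn y).1 hy) (inv_mem hy)
  have := c.lsub_inf h1 h2
  exact mul_inv_eq_iff_eq_mul.1 (mul_inv_eq_one.1 this)

/-- Case three: `C(t) = L S`. -/
theorem decomp_three
    (h3 : ∀ o, Odd (orderOf o) → o ∈ Subgroup.normalizer ((S : Subgroup G) : Set G) → o ∈ Ct t →
      ∀ x ∈ (S : Subgroup G), Commute o x)
    {x : G} (hx : x ∈ Ct t) : ∃ l s : G, l ∈ lsub Kc S t ∧ s ∈ (S : Subgroup G) ∧ x = l * s := by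
  obtain ⟨k, s, o, hk, hs, ho, hon, hot, rfl⟩ := c.decomp hx
  have hod : o ∈ dsub S := c.mem_dsub.2 ⟨ho, h3 o ho hon hot⟩
  refine ⟨k * o, s, mul_mem (le_sup_left (b := dsub S) hk) (le_sup_right (a := Kc) hod),
    hs, ?_⟩
  rw [mul_assoc, mul_assoc, (h3 o ho hon hot s hs).eq]

end Ctx

end Cfsg.Lib.PiHom.U34
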