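import Cfsg.Agent.Lib.PiHom.U34.Theta

/-!
# The singular elements of `C(t)` by cosets of `L`

In each coset the 2-part is conjugate under `L` to a fixed element of `S`.
-/

set_option autoImplicit false
set_option linter.unusedSectionVars false
set_option linter.style.haveILetI false

namespace Cfsg.Lib.PiHom.U34

open Cfsg.Lib Cfsg.Lib.Block

universe u

variable {G : Type u} [Group G] {Kc : Subgroup G}

section
variable [Finite G]

/-- The group of the elements conjugating to each other in a global sum. -/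
theorem tinv_of_four {x : G} (h : orderOf (pPt 2 x) = 4) : tinv x = pPt 2 x ^ 2 := if_pos h

theorem tinv_of_two {x : G} (h : orderOf (pPt 2 x) ≠ 4) : tinv x = pPt 2 x := if_neg h

namespace Ctx

variable {S : Sylow 2 G} {E : Subgroup G} {t : G} (c : Ctx Kc S E t)
include c

/-- A 2-element of `C(t)` is conjugate into `S` under the core. -/
theorem two_conj {w : G} (hw : ∃ k : ℕ, orderOf w = 2 ^ k) (hwt : w ∈ Ct t) :
    ∃ k ∈ lsub Kc S t, ∃ σ ∈ (S : Subgroup G), w = k * σ * k⁻¹ := by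
  obtain ⟨j, hj⟩ := hw
  obtain ⟨R, hR⟩ := (IsPGroup.of_card (p := 2) (n := j) (by
    rw [Nat.card_zpowers, Subgroup.orderOf_mk, hj]) :
      IsPGroup 2 (Subgroup.zpowers (⟨w, hwt⟩ : Ct t))).exists_le_sylow
  obtain ⟨m, hm⟩ := MulAction.exists_smul_eq (Ct t) R (S.subtype c.sylow_le_Ct)
  have h1 : m * ⟨w, hwt⟩ * m⁻¹ ∈ (S.subtype c.sylow_le_Ct : Subgroup (Ct t)) := by
    rw [← hm, Sylow.coe_subgroup_smul]
    exact ⟨⟨w, hwt⟩, hR (Subgroup.mem_zpowers _), by simp [MulAut.smul_def]⟩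
  rw [Sylow.coe_subtype, Subgroup.mem_subgroupOf] at h1
  simp only [Subgroup.coe_mul, InvMemClass.coe_inv] at h1
  obtain ⟨k, s, o, hk, hs, -, hon, -, he⟩ := c.decomp (inv_mem m.2)
  refine ⟨k, le_sup_left (b := dsub S) hk, s * (o * ((m : G) * w * (m : G)⁻¹) * o⁻¹) * s⁻¹,
    mul_mem (mul_mem hs ((Subgroup.mem_normalizer_iff.1 hon _).1 h1)) (inv_mem hs), ?_⟩
  calc w = (m : G)⁻¹ * ((m : G) * w * (m : G)⁻¹) * ((m : G)⁻¹)⁻¹ := by group
    _ = _ := by rw [he]; group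

theorem ls_unique {l l' s s' : G} (hl : l ∈ lsub Kc S t) (hl' : l' ∈ lsub Kc S t)
    (hs : s ∈ (S : Subgroup G)) (hs' : s' ∈ (S : Subgroup G)) (h : l * s = l' * s') :
    l = l' ∧ s = s' := by
  have h2 : s * s'⁻¹ = 1 := c.lsub_inf (by
    rw [show s * s'⁻¹ = l⁻¹ * l' from by
      calc s * s'⁻¹ = l⁻¹ * (l * s) * s'⁻¹ := by group
        _ = _ := by rw [h]; group]
    exact mul_mem (inv_mem hl) hl') (mul_mem hs (inv_mem hs'))
  obtain rfl := mul_inv_eq_one.1 h2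
  exact ⟨mul_right_cancel h, rfl⟩

/-- The parts of an element of `L S`. -/
theorem pPt_ls {l s : G} (hl : l ∈ lsub Kc S t) (hs : s ∈ (S : Subgroup G)) :
    (∃ k ∈ lsub Kc S t, pPt 2 (l * s) = k * s * k⁻¹) ∧ pReg 2 (l * s) ∈ lsub Kc S t := by
  have hx : l * s ∈ Ct t := mul_mem (c.lsub_le hl) (c.sylow_le_Ct hs)
  obtain ⟨k, hk, σ, hσ, hw⟩ := c.two_conj (exists_orderOf_pPt _)
    (Subgroup.zpowers_le.2 hx (pPt_mem_zpowers (p := 2) (l * s)))
  have hr : pReg 2 (l * s) = (σ⁻¹ * (σ * k * σ⁻¹ * k⁻¹ * l) * σ⁻¹⁻¹) * (σ⁻¹ * s) := by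
    refine mul_left_cancel (a := pPt 2 (l * s)) ?_
    rw [pPt_mul_pReg, hw]; group
  have hm : σ⁻¹ * (σ * k * σ⁻¹ * k⁻¹ * l) * σ⁻¹⁻¹ ∈ lsub Kc S t :=
    c.lsub_conj (inv_mem (c.sylow_le_Ct hσ))
      (mul_mem (mul_mem (c.lsub_conj (c.sylow_le_Ct hσ) hk) (inv_mem hk)) hl)
  have hmem := c.lsub_of_odd hm (mul_mem (inv_mem hσ) hs) (hr ▸ odd_pReg (l * s))
  have h1 : σ⁻¹ * s = 1 := c.lsub_inf (by
    have := mul_mem (inv_mem hm) hmem
    rwa [inv_mul_cancel_left] at this) (mul_mem (inv_mem hσ) hs)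
  obtain rfl := inv_mul_eq_one.1 h1
  exact ⟨⟨k, hk, hw⟩, hr ▸ hmem⟩

theorem conj_lsub_t {k : G} (hk : k ∈ lsub Kc S t) : k * t * k⁻¹ = t := by
  rw [(mem_Ct.1 (c.lsub_le hk)).eq, mul_inv_cancel_right]

theorem tinv_ls {l s : G} (hl : l ∈ lsub Kc S t) (hs : s ∈ (S : Subgroup G)) :
    tinv (l * s) = t ↔ s = t ∨ (s ∉ E ∧ s * s = t) := by
  obtain ⟨⟨k, hk, hw⟩, -⟩ := c.pPt_ls hl hs
  have hcan : ∀ a : G, k * a * k⁻¹ = t ↔ a = t := fun a => by
    conv_lhs => rw [← c.conj_lsub_t hk]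
    exact ⟨fun h => mul_left_cancel (mul_right_cancel h), fun h => h ▸ rfl⟩
  by_cases hsE : s ∈ E
  · rw [tinv_of_two (by rw [hw, orderOf_conj']; exact fun h => (c.order_four_iff hs).1 h hsE), hw, hcan]
    exact ⟨Or.inl, fun h => h.resolve_right fun h' => h'.1 hsE⟩
  · rw [tinv_of_four (by rw [hw, orderOf_conj', c.orderOf_four hs hsE]), hw, conj_pow, hcan, pow_two]
    exact ⟨fun h => Or.inr ⟨hsE, h⟩, fun h => (h.resolve_left fun h' => hsE (h' ▸ c.ht)).2⟩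

variable {g : G} {f4 : G → ℂ} {f2 : ZMod 5 → ℂ}

theorem theta_ls_four (hi : Inv Kc S E t g f4 f2) {l s : G} (hl : l ∈ lsub Kc S t)
    (hs : s ∈ (S : Subgroup G)) (hsE : s ∉ E) : theta Kc S t g f4 f2 (l * s) = f4 s := by
  obtain ⟨⟨k, hk, hw⟩, -⟩ := c.pPt_ls hl hs
  have e : k⁻¹ * pPt 2 (l * s) * k⁻¹⁻¹ = s := by rw [hw]; group
  rw [c.theta_four hi (y := k⁻¹) (by rw [hw, orderOf_conj', c.orderOf_four hs hsE])
    (by rw [e]; exact hs), e]

theorem theta_lt (hi : Inv Kc S E t g f4 f2) {l : G} (hl : l ∈ lsub Kc S t)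
    (hk0 : ∀ r ∈ lsub Kc S t, kidx Kc S t g r = 0 ∨ ∀ k, f2 k = f2 0) :
    theta Kc S t g f4 f2 (l * t) = f2 0 := by
  obtain ⟨⟨k, hk, hw⟩, hr⟩ := c.pPt_ls hl c.t_mem
  rw [c.theta_two hi (x := l * t) (y := 1) (by rw [hw, c.conj_lsub_t hk]; group), one_mul, inv_one,
    mul_one]
  rcases hk0 _ hr with h | h
  · rw [h]
  · exact h _

end Ctx

namespace Ctx

variable {S : Sylow 2 G} {E : Subgroup G} {t : G} (c : Ctx Kc S E t)
include c

theorem lsub_pow {l y : G} (hl : l ∈ lsub Kc S t) (hy : y ∈ Ct t) :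
    ∀ n : ℕ, ∃ l' ∈ lsub Kc S t, (l * y) ^ n = l' * y ^ n := by
  intro n
  induction n with
  | zero => exact ⟨1, one_mem _, by simp⟩
  | succ n ih =>
    obtain ⟨l', hl', e⟩ := ih
    refine ⟨l' * (y ^ n * l * (y ^ n)⁻¹), mul_mem hl' (c.lsub_conj (pow_mem hy n) hl), ?_⟩
    rw [pow_succ, e, pow_succ]; group

end Ctx

namespace Five

variable {S : Sylow 2 G} {E : Subgroup G} {t g : G} (f : Five Kc S E t g)
include f

theorem g_pow_conj {s : G} (hs : s ∈ (S : Subgroup G)) (k : ℕ) :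
    g ^ k * s * (g ^ k)⁻¹ ∈ (S : Subgroup G) :=
  (Subgroup.mem_normalizer_iff.1 (pow_mem f.g_norm k) s).1 hs

theorem exists_fifth {s : G} (hs : s ∈ (S : Subgroup G)) (k : ℕ) :
    ∃ σ ∈ (S : Subgroup G), ∃ l ∈ lsub Kc S t, (s * g ^ k) ^ 5 = l * σ := by
  have key : ∀ n : ℕ, ∃ σ ∈ (S : Subgroup G), (s * g ^ k) ^ n = σ * g ^ (k * n) := by
    intro n
    induction n with
    | zero => exact ⟨1, one_mem _, by simp⟩
    | succ n ih =>
      obtain ⟨σ, hσ, e⟩ := ih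
      refine ⟨σ * (g ^ (k * n) * s * (g ^ (k * n))⁻¹), mul_mem hσ (f.g_pow_conj hs _), ?_⟩
      rw [pow_succ, e, Nat.mul_succ, pow_add]; group
  obtain ⟨σ, hσ, e⟩ := key 5
  have hd : g ^ (k * 5) ∈ dsub S := by rw [mul_comm, pow_mul]; exact pow_mem f.g5 k
  refine ⟨σ, hσ, g ^ (k * 5), le_sup_right (a := Kc) hd, ?_⟩
  rw [e, ((f.toCtx.mem_dsub.1 hd).2 σ hσ).eq]

/-- The element of `E` attached to a coset of `L` of nonzero index. -/
noncomputable def eps (_f : Five Kc S E t g) (k : ℕ) (s : G) : G :=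
  haveI := Classical.dec (∃ σ ∈ (S : Subgroup G), ∃ l ∈ lsub Kc S t, (s * g ^ k) ^ 5 = l * σ)
  if h : ∃ σ ∈ (S : Subgroup G), ∃ l ∈ lsub Kc S t, (s * g ^ k) ^ 5 = l * σ then h.choose else 1

theorem eps_eq {s : G} {k : ℕ} {σ l : G} (hσ : σ ∈ (S : Subgroup G)) (hl : l ∈ lsub Kc S t)
    (h : (s * g ^ k) ^ 5 = l * σ) : f.eps k s = σ := by
  have he : ∃ σ ∈ (S : Subgroup G), ∃ l ∈ lsub Kc S t, (s * g ^ k) ^ 5 = l * σ := ⟨σ, hσ, l, hl, h⟩
  rw [eps, dif_pos he]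
  obtain ⟨h1, l', hl', h2⟩ := he.choose_spec
  exact (f.toCtx.ls_unique hl' hl h1 hσ (h2.symm.trans h)).2

/-- The parts of an element of nonzero index. -/
theorem pPt_five {l s : G} {k : ℕ} (hl : l ∈ lsub Kc S t) (hs : s ∈ (S : Subgroup G)) (hk : ¬ 5 ∣ k) :
    f.eps k s ∈ E ∧ ∃ m ∈ lsub Kc S t, pPt 2 (l * s * g ^ k) = m * f.eps k s * m⁻¹ := by
  set x := l * s * g ^ k with hxdef
  have hy : s * g ^ k ∈ Ct t := mul_mem (f.toCtx.sylow_le_Ct hs) (pow_mem f.g_cent k)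
  have hxC : x ∈ Ct t := by rw [hxdef, mul_assoc]; exact mul_mem (f.toCtx.lsub_le hl) hy
  obtain ⟨m, hm, σ, hσ, hw⟩ := f.toCtx.two_conj (exists_orderOf_pPt _)
    (Subgroup.zpowers_le.2 hxC (pPt_mem_zpowers (p := 2) x))
  have hr : pReg 2 x ∈ Ct t := Subgroup.zpowers_le.2 hxC (pReg_mem_zpowers x)
  have hkw : kidx Kc S t g (pPt 2 x) = 0 := by
    rw [hw, f.kidx_conj (f.toCtx.lsub_le hm) (f.toCtx.sylow_le_Ct hσ), f.kidx_sylow hσ]
  have hkr : kidx Kc S t g (pReg 2 x) = k := by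
    have := f.kidx_mul (Subgroup.zpowers_le.2 hxC (pPt_mem_zpowers (p := 2) x)) hr
    rw [pPt_mul_pReg, hkw, zero_add, f.kidx_eq hl hs hxdef] at this
    exact this.symm
  have hσE : σ ∈ E := by
    by_contra hσE
    have hc : Commute (m⁻¹ * pReg 2 x * m⁻¹⁻¹) σ := by
      have := ((pPt_commute_pReg (p := 2) x).symm).map (MulAut.conj m⁻¹).toMonoidHom
      simpa [hw, mul_assoc] using this
    have hmC : m⁻¹ ∈ Ct t := inv_mem (f.toCtx.lsub_le hm)
    have h0 := f.kidx_comm hσ hσE (mul_mem (mul_mem hmC hr) (inv_mem hmC)) hc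
    rw [f.kidx_conj hmC hr, hkr] at h0
    exact hk ((ZMod.natCast_eq_zero_iff k 5).1 h0)
  have hσ2 : pPt 2 x * pPt 2 x = 1 := by
    rw [hw, show m * σ * m⁻¹ * (m * σ * m⁻¹) = m * (σ * σ) * m⁻¹ by group, f.hs.esq σ hσE]; group
  obtain ⟨l1, hl1, e1⟩ : ∃ l1 ∈ lsub Kc S t, x ^ 5 = l1 * σ := by
    have hr5 : pReg 2 x ^ 5 ∈ lsub Kc S t := by
      refine f.odd_kidx_zero (pow_mem hr 5) ((odd_pReg x).of_dvd_nat (orderOf_pow_dvd 5)) ?_
      have : ∀ n : ℕ, kidx Kc S t g (pReg 2 x ^ n) = n * k := by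
        intro n
        induction n with
        | zero => rw [pow_zero, f.kidx_lsub (one_mem _)]; simp
        | succ n ih => rw [pow_succ, f.kidx_mul (pow_mem hr n) hr, ih, hkr]; push_cast; ring
      rw [this, show ((5 : ℕ) : ZMod 5) = 0 from by decide, zero_mul]
    refine ⟨pReg 2 x ^ 5 * (m * (σ * m⁻¹ * σ⁻¹)),
      mul_mem hr5 (mul_mem hm (f.toCtx.lsub_conj (f.toCtx.sylow_le_Ct hσ) (inv_mem hm))), ?_⟩
    conv_lhs => rw [← pPt_mul_pReg (p := 2) x, (pPt_commute_pReg (p := 2) x).eq,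
      (pPt_commute_pReg (p := 2) x).symm.mul_pow,
      show pPt 2 x ^ 5 = (pPt 2 x * pPt 2 x) * (pPt 2 x * pPt 2 x) * pPt 2 x by simp only [pow_succ, pow_zero, one_mul, mul_assoc], hσ2, one_mul,
      one_mul, hw]
    group
  obtain ⟨l2, hl2, e2⟩ := f.toCtx.lsub_pow hl hy 5
  rw [← mul_assoc] at e2
  have heps : f.eps k s = σ := f.eps_eq hσ (l := l2⁻¹ * l1) (mul_mem (inv_mem hl2) hl1) (by
    rw [mul_assoc, ← e1, hxdef, e2, inv_mul_cancel_left])
  rw [heps]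
  exact ⟨hσE, m, hm, hw⟩

theorem eps_mul {s e : G} {k : ℕ} (hs : s ∈ (S : Subgroup G)) (he : e ∈ E) (hk : ¬ 5 ∣ k) :
    f.eps k (s * e) = f.eps k s * e := by
  obtain ⟨σ, hσ, l, hl, h⟩ := f.exists_fifth hs k
  have hc : Commute e (s * g ^ k) := (f.hs.central e he s hs).mul_right ((f.g_E e he).pow_left k).symm
  rw [f.eps_eq hσ hl h]
  refine f.eps_eq (mul_mem hσ (f.hs.le he)) hl ?_
  rw [show s * e * g ^ k = (s * g ^ k) * e by rw [mul_assoc, ((f.g_E e he).pow_left k).symm.eq, ← mul_assoc],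
    hc.symm.mul_pow, h, show e ^ 5 = (e * e) * (e * e) * e by simp only [pow_succ, pow_zero, one_mul, mul_assoc], f.hs.esq e he, one_mul, one_mul,
    mul_assoc]

theorem tinv_five {l s : G} {k : ℕ} (hl : l ∈ lsub Kc S t) (hs : s ∈ (S : Subgroup G)) (hk : ¬ 5 ∣ k) :
    tinv (l * s * g ^ k) = t ↔ f.eps k s = t := by
  obtain ⟨hE, m, hm, hw⟩ := f.pPt_five hl hs hk
  rw [tinv_of_two (by rw [hw, orderOf_conj']; exact fun h => (f.toCtx.order_four_iff (f.hs.le hE)).1 h hE),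
    hw]
  exact ⟨fun h => mul_left_cancel (mul_right_cancel (h.trans (f.toCtx.conj_lsub_t hm).symm)),
    fun h => by rw [h, f.toCtx.conj_lsub_t hm]⟩

theorem theta_five {f4 : G → ℂ} {f2 : ZMod 5 → ℂ} (hi : Inv Kc S E t g f4 f2) {l s : G} {k : ℕ}
    (hl : l ∈ lsub Kc S t) (hs : s ∈ (S : Subgroup G)) (hk : ¬ 5 ∣ k) (h : f.eps k s = t) :
    theta Kc S t g f4 f2 (l * s * g ^ k) = f2 k := by
  obtain ⟨hE, m, hm, hw⟩ := f.pPt_five hl hs hk
  rw [h, f.toCtx.conj_lsub_t hm] at hw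
  rw [f.toCtx.theta_two hi (y := 1) (by rw [hw]; group), one_mul, inv_one, mul_one]
  congr 1
  have hxC : l * s * g ^ k ∈ Ct t :=
    mul_mem (mul_mem (f.toCtx.lsub_le hl) (f.toCtx.sylow_le_Ct hs)) (pow_mem f.g_cent k)
  have := f.kidx_mul (x := pPt 2 (l * s * g ^ k)) (y := pReg 2 (l * s * g ^ k))
    (Subgroup.zpowers_le.2 hxC (pPt_mem_zpowers _)) (Subgroup.zpowers_le.2 hxC (pReg_mem_zpowers _))
  rw [pPt_mul_pReg, f.kidx_eq hl hs rfl, hw, f.kidx_sylow f.toCtx.t_mem, zero_add] at this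
  exact this.symm

theorem card_eps {k : ℕ} (hk : ¬ 5 ∣ k) :
    Nat.card {s : (S : Subgroup G) // f.eps k s = t} = 16 := by
  have hE : ∀ s : (S : Subgroup G), f.eps k s ∈ E := fun s =>
    (f.pPt_five (one_mem _) s.2 hk).1
  let φ : {s : (S : Subgroup G) // f.eps k s = t} × E → (S : Subgroup G) := fun p =>
    ⟨(p.1 : G) * p.2, mul_mem p.1.1.2 (f.hs.le p.2.2)⟩
  have hb : Function.Bijective φ := by
    refine ⟨fun p q h => ?_, fun s => ?_⟩
    · have h1 : (p.1 : G) * p.2 = (q.1 : G) * q.2 := congrArg Subtype.val h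
      have h2 := congrArg (f.eps k) h1
      rw [f.eps_mul p.1.1.2 p.2.2 hk, f.eps_mul q.1.1.2 q.2.2 hk, p.1.2, q.1.2] at h2
      have h3 := mul_left_cancel h2
      rw [h3] at h1
      exact Prod.ext (Subtype.ext (Subtype.ext (mul_right_cancel h1))) (Subtype.ext h3)
    · set e := t * f.eps k s
      have he : e ∈ E := mul_mem f.ht (hE s)
      refine ⟨(⟨⟨(s : G) * e, mul_mem s.2 (f.hs.le he)⟩, ?_⟩, ⟨e, he⟩), Subtype.ext ?_⟩
      · show f.eps k ((s : G) * e) = t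
        rw [f.eps_mul s.2 he hk, show e = t * f.eps k s from rfl, ← mul_assoc,
          ← (f.hs.central t f.ht _ (f.hs.le (hE s))).eq, mul_assoc, f.hs.esq _ (hE s), mul_one]
      · show (s : G) * e * e = s
        rw [mul_assoc, f.hs.esq e he, mul_one]
  have := Nat.card_congr (Equiv.ofBijective φ hb)
  rw [Nat.card_prod, f.hs.cardE, f.hs.cardS] at this
  omega

end Five

end

section Sums

variable [Fintype G] [DecidableEq G]

namespace Ctx

variable {S : Sylow 2 G} {E : Subgroup G} {t : G} (c : Ctx Kc S E t)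
include c

/-- A class function on the singular elements is summed inside `C(t)`. -/
theorem sum_local {F : G → ℂ} (hF : IsClassFunction G F) (h0 : ∀ x, pPt 2 x = 1 → F x = 0) :
    (Nat.card (Ct t) : ℂ) * ∑ x, F x =
      (Nat.card G : ℂ) * ∑ x ∈ Finset.univ.filter (fun x => tinv x = t), F x := by
  classical
  have hconj : ∀ y : G, ∑ x, (if tinv x = t then F x else 0) =
      ∑ x, (if y * tinv x * y⁻¹ = y * t * y⁻¹ then F (y * x * y⁻¹) else 0) := fun y =>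
    Finset.sum_congr rfl fun x _ => by
      rw [hF x y]
      exact if_congr ⟨fun h => by rw [h], fun h => mul_left_cancel (mul_right_cancel h)⟩ rfl rfl
  have hfib : ∀ u : G, orderOf u = 2 →
      (Finset.univ.filter fun y : G => u = y * t * y⁻¹).card = Nat.card (Ct t) := by
    intro u hu
    obtain ⟨z, hz⟩ := c.exists_conj_t hu
    rw [Nat.card_eq_fintype_card, ← Finset.card_univ]
    refine Finset.card_bij' (fun y hy => ⟨z * y, mem_Ct.2 ?_⟩) (fun w _ => z⁻¹ * (w : G)) ?_ ?_ ?_ ?_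
    · rw [Finset.mem_filter] at hy
      refine mul_inv_eq_iff_eq_mul.1 ?_
      calc z * y * t * (z * y)⁻¹ = z * (y * t * y⁻¹) * z⁻¹ := by group
        _ = t := by rw [← hy.2, hz]
    · intro y _; exact Finset.mem_univ _
    · intro w _
      rw [Finset.mem_filter]
      refine ⟨Finset.mem_univ _, ?_⟩
      calc u = z⁻¹ * t * z⁻¹⁻¹ := by rw [← hz]; group
        _ = _ := by
          rw [show z⁻¹ * (w : G) * t * (z⁻¹ * (w : G))⁻¹ = z⁻¹ * ((w : G) * t * (w : G)⁻¹) * z⁻¹⁻¹ by group,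
            (mem_Ct.1 w.2).eq, mul_inv_cancel_right]
    · intro y _; show z⁻¹ * (z * y) = y; group
    · intro w _; exact Subtype.ext (show z * (z⁻¹ * (w : G)) = w by group)
  calc (Nat.card (Ct t) : ℂ) * ∑ x, F x
      = ∑ x, ∑ y : G, (if tinv x = y * t * y⁻¹ then F x else 0) := by
        rw [Finset.mul_sum]
        refine Finset.sum_congr rfl fun x _ => ?_
        by_cases hx : pPt 2 x = 1
        · rw [h0 x hx]; simp
        · rw [← Finset.sum_filter, Finset.sum_const, hfib _ (c.tinv_two hx), nsmul_eq_mul]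
    _ = ∑ y : G, ∑ x, (if tinv x = y * t * y⁻¹ then F x else 0) := Finset.sum_comm
    _ = ∑ _y : G, ∑ x, (if tinv x = t then F x else 0) := by
        refine Finset.sum_congr rfl fun y _ => ?_
        rw [hconj y]
        refine (Fintype.sum_equiv (MulAut.conj y).toEquiv _ _ fun x => ?_).symm
        show _ = if tinv (y * x * y⁻¹) = y * t * y⁻¹ then F (y * x * y⁻¹) else 0
        rw [tinv_conj]
    _ = _ := by
        rw [Finset.sum_const, Finset.card_univ, nsmul_eq_mul, Nat.card_eq_fintype_card,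
          Finset.sum_filter]

end Ctx

end Sums

end Cfsg.Lib.PiHom.U34
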