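import Cfsg.Agent.Lib.PiHom.U34.Gen
import Cfsg.Agent.Lib.Char.Galois
import Cfsg.Agent.Lib.Char.Linear
import Cfsg.Agent.Lib.Char.Central
import Cfsg.Agent.Lib.Char.Constituents
import Mathlib.Data.Nat.ChineseRemainder
import Mathlib.Tactic.NormNum.Prime

/-!
# The degree over a normal Hall subgroup of index 64

A character constant on the cosets outside a normal Hall subgroup `K` has degree `d₀ + 64 n`; if `n`
is at most two some Galois twist moves it.
-/

set_option autoImplicit false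
set_option linter.unusedSectionVars false
set_option linter.style.haveILetI false

namespace Cfsg.Lib.PiHom.U34

open Cfsg Cfsg.Lib
open scoped ComplexConjugate Classical

universe u

variable {H : Type u} [Group H] [Fintype H] (K : Subgroup H) [K.Normal] [Fintype K]

/-- The fourth powers of the twisting exponents. -/
theorem three_fourth_powers {p : ℕ} (hp : p.Prime) (h2 : p ≠ 2) (h3 : p ≠ 3) (h5 : p ≠ 5) :
    ∃ r : Fin 3 → ℕ, (∀ i, ¬ p ∣ r i) ∧
      Function.Injective (fun i => ((r i : ZMod p)) ^ 4) := by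
  have hnd : ∀ n : ℕ, (∀ q : ℕ, q.Prime → q ∣ n → q ≠ p) → ¬ p ∣ n := fun n h hd => h p hp hd rfl
  have key : ∀ a b : ℕ, a ^ 4 ≤ b ^ 4 → ¬ p ∣ b ^ 4 - a ^ 4 → (a : ZMod p) ^ 4 ≠ (b : ZMod p) ^ 4 := by
    intro a b hab hnd he
    rw [← Nat.cast_pow, ← Nat.cast_pow, ZMod.natCast_eq_natCast_iff] at he
    exact hnd ((Nat.modEq_iff_dvd' hab).1 he)
  have hn3 : ¬ p ∣ 3 := fun h => h3 ((Nat.prime_dvd_prime_iff_eq hp (by norm_num)).1 h)
  have hn2 : ¬ p ∣ 2 := fun h => h2 ((Nat.prime_dvd_prime_iff_eq hp (by norm_num)).1 h)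
  have hn5 : ¬ p ∣ 5 := fun h => h5 ((Nat.prime_dvd_prime_iff_eq hp (by norm_num)).1 h)
  have hn1 : ¬ p ∣ 1 := hp.not_dvd_one
  by_cases h13 : p = 13
  · subst h13
    exact ⟨![1, 2, 4], by decide, by decide +kernel⟩
  have hn13 : ¬ p ∣ 13 := fun h => h13 ((Nat.prime_dvd_prime_iff_eq hp (by norm_num)).1 h)
  refine ⟨![1, 2, 3], fun i => by fin_cases i <;> simp [hn1, hn2, hn3], fun i j hij => ?_⟩
  have e12 := key 1 2 (by norm_num) (by
    rw [show 2 ^ 4 - 1 ^ 4 = 3 * 5 by norm_num, hp.dvd_mul]; tauto)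
  have e13 := key 1 3 (by norm_num) (by
    rw [show 3 ^ 4 - 1 ^ 4 = 2 * (2 * (2 * (2 * 5))) by norm_num, hp.dvd_mul, hp.dvd_mul, hp.dvd_mul,
      hp.dvd_mul]
    tauto)
  have e23 := key 2 3 (by norm_num) (by
    rw [show 3 ^ 4 - 2 ^ 4 = 5 * 13 by norm_num, hp.dvd_mul]; tauto)
  fin_cases i <;> fin_cases j <;> first
    | rfl
    | (simp only [Fin.zero_eta, Fin.mk_one, Fin.reduceFinMk, Matrix.cons_val_zero, Matrix.cons_val_one,
        Matrix.cons_val, Nat.cast_one, one_pow] at hij e12 e13 e23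
       first | exact absurd hij e12 | exact absurd hij.symm e12 | exact absurd hij e13
             | exact absurd hij.symm e13 | exact absurd hij e23 | exact absurd hij.symm e23)

variable {χ : H → ℂ}

/-- The multiplicity of an irreducible character of `K`. -/
noncomputable def mult (χ : H → ℂ) (φ : IrrCharacter K) : ℂ :=
  classInner (fun x : K => χ x) (φ : K → ℂ)

theorem mult_conjTwist (hχ : IsCharacter H χ) (φ : IrrCharacter K) (x : H) :
    classInner (fun y : K => χ y) (Char.conjTwist K (φ : K → ℂ) x) = mult K χ φ := by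
  conv_lhs => rw [← Char.conjTwist_res K hχ.isClassFunction x]
  rw [Char.classInner_conjTwist]
  rfl

/-- The nontrivial constituents. -/
noncomputable def constituents (χ : H → ℂ) : Finset (IrrCharacter K) :=
  Finset.univ.filter fun φ => (φ : K → ℂ) ≠ (fun _ => 1) ∧ mult K χ φ ≠ 0

theorem degree_sum (hχ : IsCharacter H χ) :
    χ 1 = classInner (fun x : K => χ x) (fun _ => 1) +
      ∑ φ ∈ constituents K χ, mult K χ φ * (φ : K → ℂ) 1 := by
  have h := congrFun (Char.eq_sum_classInner (hχ.comp K.subtype).isClassFunction) 1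
  simp only [Finset.sum_apply, Pi.smul_apply, smul_eq_mul, map_one] at h
  rw [h, ← Finset.add_sum_erase Finset.univ _
    (Finset.mem_univ (⟨fun _ => 1, Char.isIrrCharacter_one⟩ : IrrCharacter K)), mul_one]
  congr 1
  refine (Finset.sum_subset_zero_on_sdiff ?_ ?_ ?_).symm
  · intro φ hφ
    exact Finset.mem_erase.2 ⟨fun e => (Finset.mem_filter.1 hφ).2.1 (congrArg Subtype.val e),
      Finset.mem_univ _⟩
  · intro φ hφ
    obtain ⟨h1, h2⟩ := Finset.mem_sdiff.1 hφ
    by_contra hne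
    exact h2 (Finset.mem_filter.2 ⟨Finset.mem_univ _,
      fun e => (Finset.mem_erase.1 h1).1 (Subtype.ext e), left_ne_zero_of_mul hne⟩)
  · intro φ _; rfl

/-- The orbit of a constituent, inside the irreducible characters. -/
noncomputable def orbit (φ : IrrCharacter K) : Finset (IrrCharacter K) :=
  Finset.univ.filter fun ψ => (ψ : K → ℂ) ∈ Char.twistOrbit K (φ : K → ℂ)

theorem card_orbit (φ : IrrCharacter K) : (orbit K φ).card = (Char.twistOrbit K (φ : K → ℂ)).card := by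
  refine Finset.card_bij (fun ψ _ => (ψ : K → ℂ)) (fun ψ h => (Finset.mem_filter.1 h).2)
    (fun _ _ _ _ h => Subtype.ext h) fun f hf => ?_
  exact ⟨⟨f, Char.isIrrCharacter_of_mem_twistOrbit K φ.2 hf⟩,
    Finset.mem_filter.2 ⟨Finset.mem_univ _, hf⟩, rfl⟩

theorem orbit_sum (hcop : (Nat.card K).Coprime K.index) (hχ : IsCharacter H χ)
    (hconst : ∀ g : H, g ∉ K → ∀ k ∈ K, χ (g * k) = χ g) {φ : IrrCharacter K}
    (hφ : φ ∈ constituents K χ) :
    orbit K φ ⊆ constituents K χ ∧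
      ∃ q m : ℕ, 0 < q ∧ 0 < m ∧ (φ : K → ℂ) 1 = q ∧
        ∑ ψ ∈ orbit K φ, mult K χ ψ * (ψ : K → ℂ) 1 = ((q * (K.index * m) : ℕ) : ℂ) := by
  obtain ⟨-, hne, hm0⟩ := Finset.mem_filter.1 hφ
  obtain ⟨q, hq0, hq⟩ := φ.2.exists_degree
  obtain ⟨m, hm⟩ := (hχ.comp K.subtype).exists_nat_classInner φ.2.isCharacter
  have hsame : ∀ ψ ∈ orbit K φ, mult K χ ψ = mult K χ φ ∧ (ψ : K → ℂ) 1 = (φ : K → ℂ) 1 := by
    intro ψ hψ
    obtain ⟨x, hx⟩ := (Char.mem_twistOrbit K).1 (Finset.mem_filter.1 hψ).2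
    refine ⟨?_, ?_⟩
    · rw [mult, ← hx]; exact mult_conjTwist K hχ φ x
    · rw [← hx, Char.conjTwist_apply_one]
  refine ⟨fun ψ hψ => Finset.mem_filter.2 ⟨Finset.mem_univ _, fun e => hne ?_, by
    rw [(hsame ψ hψ).1]; exact hm0⟩, ?_⟩
  · obtain ⟨x, hx⟩ := (Char.mem_twistOrbit K).1 (Finset.mem_filter.1 hψ).2
    rw [e] at hx
    funext y
    have := congrFun (congrArg (fun f => Char.conjTwist K f x⁻¹) hx) y
    simp only [Char.conjTwist_conjTwist] at this
    simpa [Char.conjTwist_one, Char.conjTwist_apply] using this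
  · obtain ⟨j, hj⟩ := free_dvd K hcop hχ hconst φ.2 hne (m := m) hm
    have hj0 : 0 < j := by
      rcases Nat.eq_zero_or_pos j with rfl | h
      · exfalso
        rw [mul_zero, mul_eq_zero] at hj
        rcases hj with h | h
        · exact hm0 (by rw [mult]; simpa [h] using hm)
        · exact Finset.ne_empty_of_mem (Char.self_mem_twistOrbit K _) (Finset.card_eq_zero.1 h)
      · exact h
    refine ⟨q, j, hq0, hj0, hq, ?_⟩
    rw [Finset.sum_congr rfl fun ψ hψ => by rw [(hsame ψ hψ).1, (hsame ψ hψ).2], Finset.sum_const,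
      card_orbit, nsmul_eq_mul, hq, show mult K χ φ = (m : ℂ) from hm, ← hj]
    push_cast; ring

theorem orbit_eq {φ ψ : IrrCharacter K} (h : ψ ∈ orbit K φ) : orbit K ψ = orbit K φ := by
  obtain ⟨x, hx⟩ := (Char.mem_twistOrbit K).1 (Finset.mem_filter.1 h).2
  refine Finset.filter_congr fun ρ _ => ?_
  simp only [Char.mem_twistOrbit, ← hx, Char.conjTwist_conjTwist]
  constructor
  · rintro ⟨y, hy⟩; exact ⟨_, hy⟩
  · rintro ⟨y, hy⟩
    refine ⟨x⁻¹ * y, ?_⟩
    simpa [mul_assoc] using hy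

/-- The orbit lower bound: three orbits exceed twice the index. -/
theorem three_orbits (hcop : (Nat.card K).Coprime K.index) (hχ : IsCharacter H χ)
    (hconst : ∀ g : H, g ∉ K → ∀ k ∈ K, χ (g * k) = χ g) (s : Finset (IrrCharacter K))
    (hs : s ⊆ constituents K χ) (hdis : ∀ a ∈ s, ∀ b ∈ s, b ∈ orbit K a → a = b) :
    ∃ n : ℕ, (∑ φ ∈ constituents K χ, mult K χ φ * (φ : K → ℂ) 1 = ((K.index * n : ℕ) : ℂ)) ∧
      s.card ≤ n ∧ (∀ φ ∈ s, ∀ q : ℕ, (φ : K → ℂ) 1 = q → q ≤ n) := by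
  set C := constituents K χ
  set O := C.image (orbit K) with hO
  have hfib : ∀ o ∈ O, C.filter (fun φ => orbit K φ = o) = o := by
    intro o ho
    obtain ⟨φ, hφ, rfl⟩ := Finset.mem_image.1 ho
    ext ψ
    rw [Finset.mem_filter]
    refine ⟨fun h => h.2 ▸ Finset.mem_filter.2 ⟨Finset.mem_univ _, Char.self_mem_twistOrbit K _⟩,
      fun h => ⟨(orbit_sum K hcop hχ hconst hφ).1 h, orbit_eq K h⟩⟩
  choose q m hq hm hdeg hval using fun φ : C => (orbit_sum K hcop hχ hconst φ.2).2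
  have hrep : ∀ o : O, ∃ φ : C, orbit K φ = o := fun o => by
    obtain ⟨φ, hφ, e⟩ := Finset.mem_image.1 o.2
    exact ⟨⟨φ, hφ⟩, e⟩
  choose rep hrep using hrep
  refine ⟨∑ o : O, q (rep o) * m (rep o), ?_, ?_, ?_⟩
  · rw [← Finset.sum_fiberwise_of_maps_to (t := O) (g := orbit K)
      (fun φ hφ => Finset.mem_image_of_mem _ hφ), Finset.sum_congr rfl fun o ho => by rw [hfib o ho],
      ← Finset.sum_coe_sort O, Finset.sum_congr rfl fun o _ => by rw [← hrep o, hval (rep o)],
      Finset.mul_sum, Nat.cast_sum]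
    exact Finset.sum_congr rfl fun o _ => by push_cast; ring
  · calc s.card = (s.image (orbit K)).card := (Finset.card_image_of_injOn fun a ha b hb e =>
          hdis a ha b hb (by rw [e]; exact Finset.mem_filter.2 ⟨Finset.mem_univ _,
            Char.self_mem_twistOrbit K _⟩)).symm
      _ ≤ O.card := Finset.card_le_card (Finset.image_subset_image hs)
      _ = ∑ _o : O, 1 := by simp
      _ ≤ _ := Finset.sum_le_sum fun o _ => Nat.one_le_iff_ne_zero.2
          (Nat.mul_ne_zero (hq _).ne' (hm _).ne')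
  · intro φ hφ q' hq'
    set o : O := ⟨orbit K φ, Finset.mem_image_of_mem _ (hs hφ)⟩
    refine le_trans ?_ (Finset.single_le_sum (f := fun o => q (rep o) * m (rep o))
      (fun _ _ => Nat.zero_le _) (Finset.mem_univ o))
    have hmem : φ ∈ orbit K (rep o : IrrCharacter K) := by
      rw [hrep o]; exact Finset.mem_filter.2 ⟨Finset.mem_univ _, Char.self_mem_twistOrbit K _⟩
    obtain ⟨x, hx⟩ := (Char.mem_twistOrbit K).1 (Finset.mem_filter.1 hmem).2
    have e : (q (rep o) : ℂ) = q' := by rw [← hdeg, ← hq', ← hx, Char.conjTwist_apply_one]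
    rw [← Nat.cast_inj.1 e]
    exact Nat.le_mul_of_pos_right _ (hm _)

/-- The degree. -/
theorem degree_mod (hcop : (Nat.card K).Coprime K.index) (hχ : IsCharacter H χ)
    (hconst : ∀ g : H, g ∉ K → ∀ k ∈ K, χ (g * k) = χ g) (hnt : ∃ k ∈ K, χ k ≠ χ 1) :
    ∃ d0 n : ℕ, classInner (fun x : K => χ x) (fun _ => 1) = d0 ∧ 0 < n ∧
      χ 1 = ((d0 + K.index * n : ℕ) : ℂ) := by
  obtain ⟨n, hn, -, -⟩ := three_orbits K hcop hχ hconst ∅ (Finset.empty_subset _) (by simp)
  obtain ⟨d0, hd0⟩ := (hχ.comp K.subtype).exists_nat_classInner (Char.isCharacter_one (G := K))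
  have h := degree_sum K hχ
  rw [show classInner (fun x : K => χ x) (fun _ => (1 : ℂ)) = (d0 : ℂ) from hd0, hn] at h
  refine ⟨d0, n, hd0, ?_, by rw [h]; push_cast; ring⟩
  obtain ⟨k, hk, hne⟩ := hnt
  rcases Nat.eq_zero_or_pos n with rfl | hn0
  · exfalso
    have hC : constituents K χ = ∅ := by
      by_contra hC
      obtain ⟨φ, hφ⟩ := Finset.nonempty_iff_ne_empty.2 hC
      obtain ⟨n', hn', hle, -⟩ := three_orbits K hcop hχ hconst {φ}
        (Finset.singleton_subset_iff.2 hφ) (by simp)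
      rw [hn', Nat.cast_inj] at hn
      rw [mul_zero, mul_eq_zero] at hn
      rcases hn with h | h
      · exact Subgroup.index_ne_zero_of_finite h
      · simp [h] at hle
    have h1 := congrFun (Char.eq_sum_classInner (hχ.comp K.subtype).isClassFunction) ⟨k, hk⟩
    have h2 := congrFun (Char.eq_sum_classInner (hχ.comp K.subtype).isClassFunction) 1
    simp only [Finset.sum_apply, Pi.smul_apply, smul_eq_mul, map_one] at h1 h2
    refine hne (h1.trans (Eq.trans ?_ h2.symm))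
    refine Finset.sum_congr rfl fun φ _ => ?_
    by_cases hφ : (φ : K → ℂ) = fun _ => 1
    · rw [hφ]
    · have : mult K χ φ = 0 := by
        by_contra h0
        exact Finset.notMem_empty φ (hC ▸ Finset.mem_filter.2 ⟨Finset.mem_univ _, hφ, h0⟩)
      change mult K χ φ * _ = mult K χ φ * _
      rw [this, zero_mul, zero_mul]
  · exact hn0

/-- With small degree some Galois twist moves the character. -/
theorem exists_twist (hcop : (Nat.card K).Coprime K.index) (hχ : IsCharacter H χ)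
    (hconst : ∀ g : H, g ∉ K → ∀ k ∈ K, χ (g * k) = χ g)
    (hprimes : ∀ p : ℕ, p.Prime → p ∣ Nat.card K → p ≠ 2 ∧ p ≠ 3 ∧ p ≠ 5)
    (hexp : ∀ x : H, x ^ 4 ∈ K) {d0 n : ℕ}
    (hd0 : classInner (fun x : K => χ x) (fun _ => 1) = d0) (hn0 : 0 < n) (hn : n ≤ 2)
    (hd : χ 1 = ((d0 + K.index * n : ℕ) : ℂ)) {N : ℕ} (hN0 : N ≠ 0) (hKN : Nat.card K ∣ N)
    (h20 : 20 ∣ N) :
    ∃ j : ℕ, j.Coprime N ∧ j ≡ 1 [MOD 20] ∧ ∃ k : K, χ ((k : H) ^ j) ≠ χ k := by
  have hsum : ∑ φ ∈ constituents K χ, mult K χ φ * (φ : K → ℂ) 1 = ((K.index * n : ℕ) : ℂ) := by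
    have h := degree_sum K hχ
    rw [hd0, hd] at h
    push_cast at h ⊢
    linear_combination -h
  have hbound : ∀ s : Finset (IrrCharacter K), s ⊆ constituents K χ →
      (∀ a ∈ s, ∀ b ∈ s, b ∈ orbit K a → a = b) →
      s.card ≤ n ∧ ∀ φ ∈ s, ∀ q : ℕ, (φ : K → ℂ) 1 = q → q ≤ n := by
    intro s hs hdis
    obtain ⟨n', hn', h1, h2⟩ := three_orbits K hcop hχ hconst s hs hdis
    rw [hsum, Nat.cast_inj] at hn'
    rw [Nat.eq_of_mul_eq_mul_left (Nat.pos_of_ne_zero Subgroup.index_ne_zero_of_finite) hn']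
    exact ⟨h1, h2⟩
  obtain ⟨φ, hφ⟩ : (constituents K χ).Nonempty := by
    rw [Finset.nonempty_iff_ne_empty]
    intro h
    rw [h, Finset.sum_empty, eq_comm, Nat.cast_eq_zero, mul_eq_zero] at hsum
    rcases hsum with h | h
    · exact Subgroup.index_ne_zero_of_finite h
    · omega
  obtain ⟨-, hne, hm0⟩ := Finset.mem_filter.1 hφ
  have h1 : (φ : K → ℂ) 1 = 1 := by
    obtain ⟨q, hq0, hq⟩ := φ.2.exists_degree
    have hle : q ≤ 2 := le_trans ((hbound {φ} (Finset.singleton_subset_iff.2 hφ) (by simp)).2 φ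
      (Finset.mem_singleton_self _) q hq) hn
    have hdvd := Char.degree_dvd_card φ.2 hq
    interval_cases q
    · simpa using hq
    · exact absurd rfl (hprimes 2 Nat.prime_two hdvd).1
  obtain ⟨lam, hlam⟩ := Char.exists_hom_of_degree_one φ.2.isCharacter h1
  have ho1 : orderOf lam ≠ 1 := fun h => hne (by
    funext x; rw [hlam, orderOf_eq_one_iff.1 h]; simp)
  obtain ⟨p, hp, hpd⟩ := Nat.exists_prime_and_dvd ho1
  have hoK : orderOf lam ∣ Nat.card K := orderOf_dvd_of_pow_eq_one (by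
    ext x
    rw [MonoidHom.pow_apply, ← map_pow, pow_card_eq_one', map_one]; rfl)
  obtain ⟨h2, h3, h5⟩ := hprimes p hp (hpd.trans hoK)
  obtain ⟨r, hr0, hrinj⟩ := three_fourth_powers hp h2 h3 h5
  set A := ordProj[p] N
  set B := ordCompl[p] N
  have hAB : A * B = N := Nat.ordProj_mul_ordCompl_eq_self N p
  have hcoAB : A.Coprime B := (Nat.coprime_ordCompl hp hN0).pow_left _
  have hpA : p ∣ A := by
    refine dvd_pow_self p ?_
    exact (hp.factorization_pos_of_dvd hN0 (hpd.trans (hoK.trans hKN))).ne'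
  choose j hjA hjB using fun i => (⟨(Nat.chineseRemainder hcoAB (r i) 1).1,
    (Nat.chineseRemainder hcoAB (r i) 1).2.1, (Nat.chineseRemainder hcoAB (r i) 1).2.2⟩ :
      ∃ j : ℕ, j ≡ r i [MOD A] ∧ j ≡ 1 [MOD B])
  have hjp : ∀ i, (j i : ZMod p) = r i := fun i =>
    (ZMod.natCast_eq_natCast_iff _ _ _).2 ((hjA i).of_dvd hpA)
  have hjN : ∀ i, (j i).Coprime N := by
    intro i
    rw [← hAB]
    refine Nat.Coprime.mul_right (Nat.Coprime.pow_right _ ?_) ?_
    · refine (hp.coprime_iff_not_dvd.2 fun h => hr0 i ?_).symm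
      exact (Nat.modEq_zero_iff_dvd.1 (((hjA i).of_dvd hpA).symm.trans (Nat.modEq_zero_iff_dvd.2 h)))
    · refine Nat.coprime_of_dvd fun q hq hqj hqB => hq.not_dvd_one ?_
      exact Nat.modEq_zero_iff_dvd.1 (((hjB i).of_dvd hqB).symm.trans (Nat.modEq_zero_iff_dvd.2 hqj))
  have hj20 : ∀ i, j i ≡ 1 [MOD 20] := fun i => by
    refine (hjB i).of_dvd ?_
    have hc : (20 : ℕ).Coprime A := by
      refine Nat.Coprime.pow_right _ ?_
      refine (hp.coprime_iff_not_dvd.2 fun h => ?_).symm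
      rw [show 20 = 2 * (2 * 5) from rfl, hp.dvd_mul, hp.dvd_mul] at h
      rcases h with h | h | h
      · exact h2 ((Nat.prime_dvd_prime_iff_eq hp Nat.prime_two).1 h)
      · exact h2 ((Nat.prime_dvd_prime_iff_eq hp Nat.prime_two).1 h)
      · exact h5 ((Nat.prime_dvd_prime_iff_eq hp (by norm_num)).1 h)
    exact hc.dvd_of_dvd_mul_left (hAB.symm ▸ h20)
  by_contra hcon
  push Not at hcon
  have hfix : ∀ i, ∀ k : K, χ ((k : H) ^ j i) = χ k := fun i => hcon (j i) (hjN i) (hj20 i)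
  have hcopK : ∀ i, (j i).Coprime (Nat.card K) := fun i => (hjN i).coprime_dvd_right hKN
  let ψ : Fin 3 → IrrCharacter K := fun i =>
    ⟨fun x => (φ : K → ℂ) (x ^ j i), Char.isIrrCharacter_comp_pow (hcopK i) φ.2⟩
  have hψl : ∀ (i : Fin 3) (x : K), (ψ i : K → ℂ) x = ((lam ^ j i) x : ℂ) := fun i x => by
    show (φ : K → ℂ) (x ^ j i) = _
    rw [hlam]
    show ((lam (x ^ j i) : ℂˣ) : ℂ) = _
    rw [map_pow, MonoidHom.pow_apply]
  have hψC : ∀ i, ψ i ∈ constituents K χ := by
    intro i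
    refine Finset.mem_filter.2 ⟨Finset.mem_univ _, fun e => hne ?_, ?_⟩
    · funext x
      obtain ⟨y, rfl⟩ := (Char.powBij_of_coprime (hcopK i)).2 x
      exact congrFun e y
    · have e : mult K χ (ψ i) = mult K χ φ := by
        simp only [mult, classInner]
        congr 1
        refine Fintype.sum_bijective _ (Char.powBij_of_coprime (hcopK i)) _ _ fun x => ?_
        rw [SubmonoidClass.coe_pow, hfix i x]
      rw [e]; exact hm0
  have key : ∀ a b : Fin 3, ψ b ∈ orbit K (ψ a) → a = b := by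
    intro a b hab
    obtain ⟨x, hx⟩ := (Char.mem_twistOrbit K).1 (Finset.mem_filter.1 hab).2
    have hpx : ∀ m : ℕ, ∀ y : K,
        ((lam ^ ((j b) ^ m)) y : ℂ) = ((lam ^ ((j a) ^ m))
          ⟨x ^ m * y * (x ^ m)⁻¹, Subgroup.Normal.conj_mem ‹K.Normal› _ y.2 _⟩ : ℂ) := by
      intro m
      induction m with
      | zero => intro y; simp
      | succ m ih =>
        intro y
        have h0 := congrFun hx
        have hstep : ∀ z : K, ((lam ^ j b) z : ℂ) =
            ((lam ^ j a) ⟨x * z * x⁻¹, Subgroup.Normal.conj_mem ‹K.Normal› _ z.2 _⟩ : ℂ) := by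
          intro z
          have := h0 z
          rw [Char.conjTwist_apply, hψl, hψl] at this
          exact this.symm
        calc ((lam ^ (j b ^ (m + 1))) y : ℂ)
            = ((lam ^ j b) (y ^ (j b ^ m)) : ℂ) := by
              rw [MonoidHom.pow_apply, MonoidHom.pow_apply, map_pow, ← pow_mul, pow_succ]
          _ = ((lam ^ j a) ⟨x * ((y : H) ^ (j b ^ m)) * x⁻¹,
                Subgroup.Normal.conj_mem ‹K.Normal› _ (pow_mem y.2 _) _⟩ : ℂ) := hstep _
          _ = ((lam ^ (j b ^ m)) (⟨x * y * x⁻¹, Subgroup.Normal.conj_mem ‹K.Normal› _ y.2 _⟩ : K) : ℂ)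
                ^ j a := by
              rw [MonoidHom.pow_apply, MonoidHom.pow_apply, ← Units.val_pow_eq_pow_val, ← pow_mul,
                mul_comm, pow_mul, ← map_pow]
              congr 3
              rw [← map_pow, ← map_pow]
              congr 1
              refine Subtype.ext ?_
              simp only [SubmonoidClass.coe_pow, conj_pow, ← pow_mul, mul_comm]
          _ = _ := by
              rw [ih, MonoidHom.pow_apply, MonoidHom.pow_apply, ← Units.val_pow_eq_pow_val, ← pow_mul,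
                pow_succ]
              congr 3
              exact Subtype.ext (by simp only; group)
    have h4 : lam ^ (j b ^ 4) = lam ^ (j a ^ 4) := by
      refine MonoidHom.ext fun y => Units.ext ?_
      rw [hpx 4 y]
      have hxK := hexp x
      have e : (⟨x ^ 4 * (y : H) * (x ^ 4)⁻¹, Subgroup.Normal.conj_mem ‹K.Normal› _ y.2 _⟩ : K) =
          ⟨x ^ 4, hxK⟩ * y * ⟨x ^ 4, hxK⟩⁻¹ := rfl
      rw [e, map_mul, map_mul, map_inv, mul_inv_cancel_comm]
    have hmod : j b ^ 4 ≡ j a ^ 4 [MOD orderOf lam] :=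
      (pow_eq_pow_iff_modEq (G := K →* ℂˣ)).1 (by convert h4)
    have : ((j b : ZMod p)) ^ 4 = (j a : ZMod p) ^ 4 := by
      rw [← Nat.cast_pow, ← Nat.cast_pow, ZMod.natCast_eq_natCast_iff]
      exact hmod.of_dvd hpd
    rw [hjp, hjp] at this
    exact (hrinj this).symm
  have hinj : Function.Injective ψ := fun a b h => key a b (by
    rw [← h]; exact Finset.mem_filter.2 ⟨Finset.mem_univ _, Char.self_mem_twistOrbit K _⟩)
  have h := (hbound (Finset.univ.image ψ) (fun f hf => by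
      obtain ⟨i, -, rfl⟩ := Finset.mem_image.1 hf; exact hψC i)
    (fun a ha b hb hab => by
      obtain ⟨i, -, rfl⟩ := Finset.mem_image.1 ha
      obtain ⟨k, -, rfl⟩ := Finset.mem_image.1 hb
      rw [key i k hab])).1
  rw [Finset.card_image_of_injective _ hinj, Finset.card_univ, Fintype.card_fin] at h
  omega

end Cfsg.Lib.PiHom.U34
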