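import Cfsg.Agent.Lib.PiHom.U34.Cent
import Cfsg.Agent.Lib.PiHom.Fusion
import Cfsg.Agent.Lib.PiHom.Strong
import Cfsg.Agent.Lib.Invol.Embedded

/-!
# Two-elements and involutions

Every element has 2-part of order at most four, all involutions are conjugate to `t`, the product of
two involutions has 2-part of order at most two.
-/

set_option autoImplicit false
set_option linter.unusedSectionVars false
set_option linter.style.haveILetI false

namespace Cfsg.Lib.PiHom.U34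

open Cfsg.Lib Cfsg.Lib.Block

universe u

variable {G : Type u} [Group G] [Finite G] {Kc : Subgroup G}

instance factTwo : Fact (Nat.Prime 2) := ⟨Nat.prime_two⟩

/-- The involution in the group generated by the 2-part, if there is one. -/
noncomputable def tinv (x : G) : G := if orderOf (pPt 2 x) = 4 then pPt 2 x ^ 2 else pPt 2 x

theorem tinv_conj (x y : G) : tinv (y * x * y⁻¹) = y * tinv x * y⁻¹ := by
  simp only [tinv, pPt_conj, orderOf_conj_eq', conj_pow]
  split_ifs <;> rfl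
where
  orderOf_conj_eq' {a b : G} : orderOf (a * b * a⁻¹) = orderOf b := (MulAut.conj a).orderOf_eq b

theorem orderOf_conj' (a b : G) : orderOf (a * b * a⁻¹) = orderOf b := (MulAut.conj a).orderOf_eq b

theorem pPt_mul_of_commute {a b : G} (h : Commute a b) :
    pPt 2 (a * b) = pPt 2 a * pPt 2 b := by
  have hab : ∀ {x y : G}, x ∈ Subgroup.zpowers a → y ∈ Subgroup.zpowers b → Commute x y := by
    rintro _ _ ⟨i, rfl⟩ ⟨j, rfl⟩
    exact (h.zpow_left i).zpow_right j
  obtain ⟨i, hi⟩ := exists_orderOf_pPt (p := 2) a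
  obtain ⟨j, hj⟩ := exists_orderOf_pPt (p := 2) b
  have hc : Commute (pPt 2 a) (pPt 2 b) := hab (pPt_mem_zpowers a) (pPt_mem_zpowers b)
  obtain ⟨k, -, hk⟩ := (Nat.dvd_prime_pow Nat.prime_two).1 (show
      orderOf (pPt 2 a * pPt 2 b) ∣ 2 ^ (i + j) by
    rw [pow_add, ← hi, ← hj]; exact hc.orderOf_mul_dvd_mul_orderOf)
  refine (eq_pPt (y := pReg 2 a * pReg 2 b) ?_ ?_ hk fun hd => ?_).symm
  · rw [(hab (pReg_mem_zpowers a) (pPt_mem_zpowers b)).symm.mul_mul_mul_comm, pPt_mul_pReg,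
      pPt_mul_pReg]
  · exact ((pPt_commute_pReg a).mul_right (hab (pPt_mem_zpowers a) (pReg_mem_zpowers b))).mul_left
      ((hab (pReg_mem_zpowers a) (pPt_mem_zpowers b)).symm.mul_right (pPt_commute_pReg b))
  · exact (Nat.prime_two.dvd_mul.1 (hd.trans
      (hab (pReg_mem_zpowers a) (pReg_mem_zpowers b)).orderOf_mul_dvd_mul_orderOf)).elim
        (not_dvd_orderOf_pReg a) (not_dvd_orderOf_pReg b)

theorem pPt_of_two {u : G} (h : ∃ k : ℕ, orderOf u = 2 ^ k) : pPt 2 u = u := by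
  obtain ⟨k, hk⟩ := h
  exact (eq_pPt (mul_one u) (Commute.one_right u) hk (by rw [orderOf_one]; norm_num)).symm

theorem odd_pReg (x : G) : Odd (orderOf (pReg 2 x)) :=
  Nat.not_even_iff_odd.1 fun h => not_dvd_orderOf_pReg x (even_iff_two_dvd.1 h)

theorem pReg_conj (g x : G) : pReg 2 (x * g * x⁻¹) = x * pReg 2 g * x⁻¹ := by
  refine mul_left_cancel (a := pPt 2 (x * g * x⁻¹)) ?_
  rw [pPt_mul_pReg, pPt_conj]
  conv_lhs => rw [← pPt_mul_pReg (p := 2) g]
  group

namespace Ctx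

variable {S : Sylow 2 G} {E : Subgroup G} {t : G} (c : Ctx Kc S E t)
include c

theorem exists_conj_le {P : Subgroup G} (hP : IsPGroup 2 P) :
    ∃ y : G, ∀ p ∈ P, y * p * y⁻¹ ∈ (S : Subgroup G) := by
  obtain ⟨R, hR⟩ := hP.exists_le_sylow
  obtain ⟨y, hy⟩ := MulAction.exists_smul_eq G R S
  refine ⟨y, fun p hp => ?_⟩
  rw [← hy, Sylow.coe_subgroup_smul]
  exact ⟨p, hR hp, by simp [MulAut.smul_def]⟩

theorem exists_conj_mem {u : G} (hu : ∃ k : ℕ, orderOf u = 2 ^ k) :
    ∃ y : G, y * u * y⁻¹ ∈ (S : Subgroup G) := by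
  obtain ⟨k, hk⟩ := hu
  obtain ⟨y, hy⟩ := c.exists_conj_le (IsPGroup.of_card (n := k) (by rw [Nat.card_zpowers, hk]))
  exact ⟨y, hy u (Subgroup.mem_zpowers u)⟩

theorem orderOf_four {u : G} (hu : u ∈ (S : Subgroup G)) (huE : u ∉ E) : orderOf u = 4 :=
  orderOf_eq_prime_pow (p := 2) (n := 1)
    (fun h => huE (c.hs.invol u hu (by rwa [pow_one, pow_two] at h)))
    (by rw [show 2 ^ (1 + 1) = 2 * 2 from rfl, pow_mul, pow_two, pow_two, c.hs.esq _ (c.hs.sq u hu)])

theorem orderOf_two {u : G} (hu : u ∈ E) (h1 : u ≠ 1) : orderOf u = 2 :=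
  orderOf_eq_prime (by rw [pow_two]; exact c.hs.esq u hu) h1

theorem order_two_iff {u : G} (hu : u ∈ (S : Subgroup G)) :
    orderOf u = 2 ↔ u ∈ E ∧ u ≠ 1 := by
  refine ⟨fun h => ?_, fun h => c.orderOf_two h.1 h.2⟩
  refine ⟨by_contra fun hE => ?_, fun h1 => ?_⟩
  · rw [c.orderOf_four hu hE] at h; norm_num at h
  · rw [h1, orderOf_one] at h; norm_num at h

theorem order_four_iff {u : G} (hu : u ∈ (S : Subgroup G)) : orderOf u = 4 ↔ u ∉ E := by
  refine ⟨fun h hE => ?_, c.orderOf_four hu⟩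
  by_cases h1 : u = 1
  · rw [h1, orderOf_one] at h; norm_num at h
  · rw [c.orderOf_two hE h1] at h; norm_num at h

theorem order_cases {u : G} (hu : ∃ k : ℕ, orderOf u = 2 ^ k) :
    u = 1 ∨ orderOf u = 2 ∨ orderOf u = 4 := by
  obtain ⟨y, hy⟩ := c.exists_conj_mem hu
  rw [← orderOf_conj' y u]
  by_cases hE : y * u * y⁻¹ ∈ E
  · by_cases h1 : y * u * y⁻¹ = 1
    · exact Or.inl (conj_eq_one_iff.1 h1)
    · exact Or.inr (Or.inl (c.orderOf_two hE h1))
  · exact Or.inr (Or.inr (c.orderOf_four hy hE))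

theorem E_normalized {n : G} (hn : n ∈ Subgroup.normalizer ((S : Subgroup G) : Set G)) {e : G}
    (he : e ∈ E) : n * e * n⁻¹ ∈ E :=
  c.hs.invol _ ((Subgroup.mem_normalizer_iff.1 hn e).1 (c.hs.le he)) (by
    calc n * e * n⁻¹ * (n * e * n⁻¹) = n * (e * e) * n⁻¹ := by group
      _ = 1 := by rw [c.hs.esq e he]; group)

theorem not_E_normalized {n : G} (hn : n ∈ Subgroup.normalizer ((S : Subgroup G) : Set G)) {e : G}
    (he : e ∉ E) : n * e * n⁻¹ ∉ E := fun h => he (by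
  have := c.E_normalized (inv_mem hn) h
  rwa [inv_inv, show n⁻¹ * (n * e * n⁻¹) * n = e by group] at this)

theorem odd_trans {z : G} (hz : z ∈ E) (hz1 : z ≠ 1) :
    ∃ o ∈ Subgroup.normalizer ((S : Subgroup G) : Set G), Odd (orderOf o) ∧ o * z * o⁻¹ = t := by
  obtain ⟨n, hn, hnz⟩ := c.hs.trans z hz t c.ht hz1 c.ht1
  have ho : pReg 2 n ∈ Subgroup.normalizer ((S : Subgroup G) : Set G) :=
    Subgroup.zpowers_le.2 hn (pReg_mem_zpowers n)
  refine ⟨pReg 2 n, ho, odd_pReg n, ?_⟩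
  have hs : pPt 2 n ∈ (S : Subgroup G) :=
    mem_of_two_power (exists_orderOf_pPt n) (Subgroup.zpowers_le.2 hn (pPt_mem_zpowers n))
  rw [← hnz]
  conv_rhs => rw [← pPt_mul_pReg (p := 2) n]
  rw [show pPt 2 n * pReg 2 n * z * (pPt 2 n * pReg 2 n)⁻¹ =
      pPt 2 n * (pReg 2 n * z * (pReg 2 n)⁻¹) * (pPt 2 n)⁻¹ by group,
    ← (c.hs.central _ (c.E_normalized ho hz) _ hs).eq, mul_inv_cancel_right]

theorem exists_conj_t {u : G} (hu : orderOf u = 2) : ∃ y : G, y * u * y⁻¹ = t := by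
  obtain ⟨y, hy⟩ := c.exists_conj_mem ⟨1, by rw [hu, pow_one]⟩
  obtain ⟨hE, h1⟩ := (c.order_two_iff hy).1 (by rw [orderOf_conj', hu])
  obtain ⟨o, -, -, ho⟩ := c.odd_trans hE h1
  exact ⟨o * y, by rw [← ho]; group⟩

theorem orderOf_t : orderOf t = 2 := c.orderOf_two c.ht c.ht1

theorem tinv_two {x : G} (hx : pPt 2 x ≠ 1) : orderOf (tinv x) = 2 := by
  rw [tinv]
  rcases c.order_cases (exists_orderOf_pPt x) with h | h | h
  · exact absurd h hx
  · rwa [if_neg (by omega)]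
  · rw [if_pos h, orderOf_pow' _ (by norm_num : (2 : ℕ) ≠ 0), h]; norm_num

theorem tinv_commute (x : G) : Commute (tinv x) x := by
  have : Commute (pPt 2 x) x := by
    conv_rhs => rw [← pPt_mul_pReg (p := 2) x]
    exact (Commute.refl _).mul_right (pPt_commute_pReg x)
  rw [tinv]
  split_ifs
  · exact this.pow_left 2
  · exact this

theorem mem_Ct_of_tinv {x : G} (h : tinv x = t) : x ∈ Ct t :=
  mem_Ct.2 (h ▸ (c.tinv_commute x).symm)

/-- A 2-element commuting with an involution centralizes it modulo conjugation into `E`. -/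
theorem invol_comm_two {x z : G} (hx : orderOf x = 2) (hz : ∃ k : ℕ, orderOf z = 2 ^ k)
    (hn : x * z * x⁻¹ ∈ Subgroup.zpowers z) : Commute x z := by
  have hxx : x * x = 1 := by rw [← pow_two, ← hx, pow_orderOf_eq_one]
  obtain ⟨k, hk⟩ := hz
  have hZ : IsPGroup 2 (Subgroup.zpowers z) := IsPGroup.of_card (n := k) (by rw [Nat.card_zpowers, hk])
  have hX : IsPGroup 2 (Subgroup.zpowers x) := IsPGroup.of_card (n := 1) (by rw [Nat.card_zpowers, hx]; rfl)
  have hN : x ∈ Subgroup.normalizer ((Subgroup.zpowers z : Subgroup G) : Set G) := by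
    have key : ∀ w ∈ Subgroup.zpowers z, x * w * x⁻¹ ∈ Subgroup.zpowers z := by
      rintro _ ⟨i, rfl⟩
      show x * z ^ i * x⁻¹ ∈ _
      rw [← conj_zpow]; exact zpow_mem hn i
    rw [Subgroup.mem_normalizer_iff]
    refine fun w => ⟨key w, fun hw => ?_⟩
    have := key _ hw
    rwa [show x * (x * w * x⁻¹) * x⁻¹ = (x * x) * w * (x * x)⁻¹ by group, hxx, one_mul, inv_one,
      mul_one] at this
  obtain ⟨y, hy⟩ := c.exists_conj_le (IsPGroup.to_sup_of_normal_right' hX hZ (Subgroup.zpowers_le.2 hN))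
  have h1 := hy x (le_sup_left (b := Subgroup.zpowers z) (Subgroup.mem_zpowers x))
  have h2 := hy z (le_sup_right (a := Subgroup.zpowers x) (Subgroup.mem_zpowers z))
  have h3 := c.hs.central _ ((c.order_two_iff h1).1 (by rw [orderOf_conj', hx])).1 _ h2
  simpa [mul_assoc] using h3.map (MulAut.conj y⁻¹).toMonoidHom

/-- The product of two involutions. -/
theorem invol_product {x y : G} (hx : orderOf x = 2) (hy : orderOf y = 2) :
    pPt 2 (x * y) = 1 ∨ (orderOf (pPt 2 (x * y)) = 2 ∧ Commute x (pPt 2 (x * y)) ∧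
      x * pReg 2 (x * y) * x⁻¹ = (pReg 2 (x * y))⁻¹) := by
  have hxx : x * x = 1 := by rw [← pow_two, ← hx, pow_orderOf_eq_one]
  have hyy : y * y = 1 := by rw [← pow_two, ← hy, pow_orderOf_eq_one]
  have hconj : x * (x * y) * x⁻¹ = (x * y)⁻¹ := by
    rw [mul_inv_rev, inv_eq_of_mul_eq_one_right hxx, inv_eq_of_mul_eq_one_right hyy,
      show x * (x * y) * x = (x * x) * y * x by group, hxx, one_mul]
  set z := pPt 2 (x * y)
  have hz : x * z * x⁻¹ = z⁻¹ := by rw [← pPt_conj, hconj, pPt_inv]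
  have hc := c.invol_comm_two hx (exists_orderOf_pPt _) (by rw [hz]; exact inv_mem (Subgroup.mem_zpowers z))
  have hzz : z * z = 1 := by
    rw [hc.eq, mul_inv_cancel_right] at hz
    have hz' : z = z⁻¹ := hz
    nth_rw 1 [hz']; exact inv_mul_cancel z
  by_cases h1 : z = 1
  · exact Or.inl h1
  refine Or.inr ⟨orderOf_eq_prime (by rw [pow_two]; exact hzz) h1, hc, ?_⟩
  have h2 : x * z * x⁻¹ * (x * pReg 2 (x * y) * x⁻¹) = z⁻¹ * (pReg 2 (x * y))⁻¹ := by
    rw [← mul_inv_rev, ← (pPt_commute_pReg _).eq, pPt_mul_pReg, ← hconj]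
    conv_rhs => rw [← pPt_mul_pReg (p := 2) (x * y)]
    simp only [z]; group
  rw [hz] at h2
  exact mul_left_cancel h2

/-- An odd element inverted by an involution of `C(t)` and centralizing `t` lies in `L`. -/
theorem inverted_mem_lsub {x r : G} (hx : orderOf x = 2) (hxt : x ∈ Ct t) (hro : Odd (orderOf r)) (hr : r ∈ Ct t)
    (hinv : x * r * x⁻¹ = r⁻¹) : r ∈ lsub Kc S t :=
  le_sup_left (b := dsub S) (c.inverted x r hx hxt hro hr hinv)

/-- Some involution of `E` does not centralize the core of `C(t)`. -/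
theorem moves {π : Set ℕ} (hmin : Min π G) {s : G} (hs : s ∈ E) (hs1 : s ≠ 1) (hst : s ≠ t) :
    ∃ k ∈ Kc, ¬ Commute k s := by
  by_contra hcon
  push Not at hcon
  obtain ⟨a, b, d, ha, hb, hd, ha1, hb1, hd1, hab, had, hbd, hall⟩ := c.hs.exists_three
  have hts : ∀ e ∈ E, ∀ w : G, Commute w t → Commute w s → Commute w e := by
    intro e he w hwt hws
    have hst1 : s * t ≠ 1 := fun h => hst ((mul_eq_one_iff_eq_inv.1 h).trans (c.hs.inv_eq c.ht))
    have h3 : s * t ≠ s := fun h => c.ht1 (mul_eq_left.1 h)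
    have h4 : s * t ≠ t := fun h => hs1 (mul_eq_right.1 h)
    have : e = 1 ∨ e = t ∨ e = s ∨ e = s * t := by
      rcases hall e he with h | h | h | h <;>
      rcases hall t c.ht with h' | h' | h' | h' <;>
      rcases hall s hs with h'' | h'' | h'' | h'' <;>
      rcases hall (s * t) (mul_mem hs c.ht) with h5 | h5 | h5 | h5 <;>
      first
        | exact absurd h' c.ht1
        | exact absurd h'' hs1
        | exact absurd h5 hst1
        | exact absurd (h''.trans h'.symm) hst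
        | exact absurd (h5.trans h''.symm) h3
        | exact absurd (h5.trans h'.symm) h4
        | exact Or.inl h
        | exact Or.inr (Or.inl (h.trans h'.symm))
        | exact Or.inr (Or.inr (Or.inl (h.trans h''.symm)))
        | exact Or.inr (Or.inr (Or.inr (h.trans h5.symm)))
    rcases this with rfl | rfl | rfl | rfl
    exacts [Commute.one_right w, hwt, hws, hws.mul_right hwt]
  have hC : ∀ x ∈ Ct t, ∀ e ∈ E, Commute x e := by
    intro x hx
    obtain ⟨k, n, o, hk, hn, ho, hon, hot, rfl⟩ := c.decomp hx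
    intro e he
    exact ((hts e he k (mem_Ct.1 (c.sub hk)) (hcon k hk)).mul_left
      (c.hs.central e he n hn).symm).mul_left (c.odd_fix_E ho hon hot e he)
  set M := Subgroup.normalizer (E : Set G)
  have hSM : Subgroup.normalizer ((S : Subgroup G) : Set G) ≤ M := fun n hn => by
    rw [Subgroup.mem_normalizer_iff]
    refine fun e => ⟨c.E_normalized hn, fun h => ?_⟩
    have := c.E_normalized (inv_mem hn) h
    rwa [inv_inv, show n⁻¹ * (n * e * n⁻¹) * n = e by group] at this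
  have hM : M ≠ ⊤ := by
    refine hmin.normalizer_ne_top (fun h => ?_) (fun h => ?_)
    · exact c.ht1 (by have := c.ht; rw [h] at this; exact Subgroup.mem_bot.1 this)
    · refine hmin.noncomm ⟨⟨fun x y => ?_⟩⟩
      exact (c.hs.central x (h ▸ Subgroup.mem_top x) y (c.hs.le (h ▸ Subgroup.mem_top y))).eq
  have hEM : E ≤ M := Subgroup.le_normalizer
  have heven : Even (Nat.card M) :=
    Even.mono_dvd_aux (by rw [c.hs.cardE]; exact ⟨2, rfl⟩) (Subgroup.card_dvd_of_le hEM)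
  have hinvE : ∀ u ∈ M, orderOf u = 2 → u ∈ E := by
    intro u hu hu2
    have hle : (S : Subgroup G) ≤ M := Subgroup.le_normalizer.trans hSM
    obtain ⟨R, hR⟩ := (IsPGroup.of_card (p := 2) (n := 1) (by
      rw [Nat.card_zpowers, Subgroup.orderOf_mk, hu2]; rfl) :
        IsPGroup 2 (Subgroup.zpowers (⟨u, hu⟩ : M))).exists_le_sylow
    obtain ⟨m, hm⟩ := MulAction.exists_smul_eq M R (S.subtype hle)
    have h1 : m * ⟨u, hu⟩ * m⁻¹ ∈ (S.subtype hle : Subgroup M) := by
      rw [← hm, Sylow.coe_subgroup_smul]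
      exact ⟨⟨u, hu⟩, hR (Subgroup.mem_zpowers _), by simp [MulAut.smul_def]⟩
    rw [Sylow.coe_subtype, Subgroup.mem_subgroupOf] at h1
    have h2 := ((c.order_two_iff h1).1 (by
      rw [Subgroup.coe_mul, Subgroup.coe_mul, InvMemClass.coe_inv, orderOf_conj', hu2])).1
    simp only [Subgroup.coe_mul, InvMemClass.coe_inv] at h2
    exact (Subgroup.mem_normalizer_iff.1 m.2 u).2 h2
  refine hmin.not_stronglyEmbedded M ((Cfsg.Lib.Invol.stronglyEmbedded_iff hM heven).2 ?_)
  intro u hu hu2 g hg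
  have h1 := hinvE u hu hu2
  have hu1 : u ≠ 1 := fun h => by rw [h, orderOf_one] at hu2; norm_num at hu2
  have h2 := hinvE _ hg (by rw [orderOf_conj', hu2])
  obtain ⟨o1, ho1, -, e1⟩ := c.odd_trans h1 hu1
  obtain ⟨o2, ho2, -, e2⟩ := c.odd_trans h2 (fun h => hu1 (conj_eq_one_iff.1 h))
  have hx : o2 * g * o1⁻¹ ∈ Ct t := mem_Ct.2 (mul_inv_eq_iff_eq_mul.1 (by
    calc o2 * g * o1⁻¹ * t * (o2 * g * o1⁻¹)⁻¹ = o2 * (g * u * g⁻¹) * o2⁻¹ := by
          rw [← e1]; group
      _ = t := e2))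
  have hxM : o2 * g * o1⁻¹ ∈ M := Subgroup.centralizer_le_normalizer _
    (Subgroup.mem_centralizer_iff.2 fun e he => (hC _ hx e he).symm.eq)
  rw [show g = o2⁻¹ * (o2 * g * o1⁻¹) * o1 by group]
  exact mul_mem (mul_mem (inv_mem (hSM ho2)) hxM) (hSM ho1)
where
  Even.mono_dvd_aux {a b : ℕ} (ha : Even a) (h : a ∣ b) : Even b :=
    even_iff_two_dvd.2 ((even_iff_two_dvd.1 ha).trans h)

/-- The core of `C(t)` is nontrivial in a minimal counterexample. -/
theorem core_ne {π : Set ℕ} (hmin : Min π G) : Kc ≠ ⊥ := by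
  obtain ⟨s, hs, hs1, hst⟩ : ∃ s ∈ E, s ≠ 1 ∧ s ≠ t := by
    obtain ⟨a, b, d, ha, hb, hd, ha1, hb1, -, hab, -, -, -⟩ := c.hs.exists_three
    by_cases h : a = t
    · exact ⟨b, hb, hb1, fun e => hab (h.trans e.symm)⟩
    · exact ⟨a, ha, ha1, h⟩
  obtain ⟨k, hk, hks⟩ := c.moves hmin hs hs1 hst
  exact fun h => hks ((Subgroup.mem_bot.1 (h ▸ hk)) ▸ Commute.one_left s)

end Ctx

theorem inverted_of_min {π : Set ℕ} (hmin : Min π G) {t x r : G} (hx : orderOf x = 2) (hro : Odd (orderOf r))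
    (hr : r ∈ Ct t) (hinv : x * r * x⁻¹ = r⁻¹) : r ∈ core π (Ct t) := by
  refine mem_core_of hr fun p hp hpd hpi => ?_
  set y := r ^ (orderOf r / p)
  have hy : orderOf y = p := orderOf_pow_orderOf_div (orderOf_pos r).ne' hpd
  have hyi : x * y * x⁻¹ = y⁻¹ := by rw [← conj_pow, hinv, inv_pow]
  have hQ : PiGrp π (Subgroup.zpowers y) := fun q hq hqd => by
    rw [Nat.card_zpowers, hy] at hqd
    rwa [(Nat.prime_dvd_prime_iff_eq hq hp).1 hqd]
  have hxx : x * x = 1 := by rw [← pow_two, ← hx, pow_orderOf_eq_one]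
  have hn : x ∈ Subgroup.normalizer ((Subgroup.zpowers y : Subgroup G) : Set G) := by
    have key : ∀ w ∈ Subgroup.zpowers y, x * w * x⁻¹ ∈ Subgroup.zpowers y := by
      rintro _ ⟨i, rfl⟩
      show x * y ^ i * x⁻¹ ∈ _
      rw [← conj_zpow, hyi]
      exact zpow_mem (inv_mem (Subgroup.mem_zpowers y)) i
    rw [Subgroup.mem_normalizer_iff]
    refine fun w => ⟨key w, fun hw => ?_⟩
    have := key _ hw
    rwa [show x * (x * w * x⁻¹) * x⁻¹ = (x * x) * w * (x * x)⁻¹ by group, hxx, one_mul, inv_one,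
      mul_one] at this
  have hpodd : Odd p := hro.of_dvd_nat hpd
  have hc := Subgroup.mem_centralizer_iff.1 (hmin.toHyp.two_centralizes hQ
    (by rw [Nat.card_zpowers, hy]; exact hpodd) ⟨1, by rw [hx, pow_one]⟩ hn) y (Subgroup.mem_zpowers y)
  rw [← hc, mul_inv_cancel_right] at hyi
  have h2 : p ∣ 2 := hy ▸ orderOf_dvd_of_pow_eq_one (by rw [pow_two]; nth_rw 1 [hyi]; exact inv_mul_cancel y)
  rw [(Nat.prime_dvd_prime_iff_eq hp Nat.prime_two).1 h2] at hpodd
  exact absurd hpodd (by decide)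

/-- The standing data in a minimal counterexample. -/
theorem Ctx.of_min {π : Set ℕ} {S : Sylow 2 G} {E : Subgroup G} {t : G} (hmin : Min π G)
    (hs : Shape (S : Subgroup G) E) (ht : t ∈ E) (ht1 : t ≠ 1) : Ctx (core π (Ct t)) S E t := by
  have hne : Ct t ≠ ⊤ := by
    intro h
    haveI := hmin.simple
    have hc : t ∈ Subgroup.center G := Subgroup.mem_center_iff.2 fun g =>
      (mem_Ct.1 (h ▸ Subgroup.mem_top g)).eq
    rcases (Subgroup.center G).normal_of_characteristic.eq_bot_or_eq_top with h' | h'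
    · rw [h'] at hc; exact ht1 (Subgroup.mem_bot.1 hc)
    · exact hmin.noncomm ⟨⟨fun a b => by
        exact (Subgroup.mem_center_iff.1 (h' ▸ Subgroup.mem_top b) a)⟩⟩
  have hle : (S : Subgroup G) ≤ Ct t := fun x hx => mem_Ct.2 (hs.central t ht x hx).symm
  refine ⟨hmin.simple, hmin.noncomm, hs, ht, ht1, fun x hx => ?_, hmin.core_odd hne,
    fun _ _ hx _ => inverted_of_min hmin hx, core_le _, le_normalizer_core _⟩
  obtain ⟨k, hk, n, hn, hnn, rfl⟩ := hmin.exists_core_mul hne (S.subtype hle) hx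
  rw [Sylow.coe_subtype, Subgroup.map_subgroupOf_eq_of_le hle] at hnn
  exact ⟨k, hk, n, hn, hnn, rfl⟩

end Cfsg.Lib.PiHom.U34
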