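import Cfsg.Agent.Lib.PiHom.U34.Cent
import Mathlib.Data.ZMod.Basic
import Mathlib.FieldTheory.Finite.Basic

/-!
# The case of a nontrivial odd automorphism fixing the involutions

`C(t) / L S` is cyclic of order five; the index of an element is additive and invariant under the
normalizer of the Sylow subgroup on `C(E)`.
-/

set_option autoImplicit false
set_option linter.unusedSectionVars false
set_option linter.style.haveILetI false

namespace Cfsg.Lib.PiHom.U34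

open Cfsg.Lib

universe u

variable {G : Type u} [Group G] [Finite G] {Kc : Subgroup G}

namespace Ctx

variable {S : Sylow 2 G} {E : Subgroup G} {t : G} (c : Ctx Kc S E t)
include c

/-- An odd element of the form `l s` lies in `L`. -/
theorem lsub_of_odd {l s : G} (hl : l ∈ lsub Kc S t) (hs : s ∈ (S : Subgroup G))
    (ho : Odd (orderOf (l * s))) : l * s ∈ lsub Kc S t := by
  have key : ∀ n : ℕ, ∃ l' ∈ lsub Kc S t, (l * s) ^ n = l' * s ^ n := by
    intro n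
    induction n with
    | zero => exact ⟨1, one_mem _, by simp⟩
    | succ n ih =>
      obtain ⟨l', hl', e⟩ := ih
      refine ⟨l' * (s ^ n * l * (s ^ n)⁻¹),
        mul_mem hl' (c.lsub_conj (c.sylow_le_Ct (pow_mem hs n)) hl), ?_⟩
      rw [pow_succ, e, pow_succ]; group
  obtain ⟨l', hl', e⟩ := key (orderOf (l * s))
  rw [pow_orderOf_eq_one] at e
  have h1 : s ^ orderOf (l * s) = 1 :=
    c.lsub_inf (by rw [eq_inv_of_mul_eq_one_right e.symm]; exact inv_mem hl') (pow_mem hs _)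
  have h2 : s = 1 := by
    refine eq_one_of_odd_two (ho.of_dvd_nat (orderOf_dvd_of_pow_eq_one h1)) (c.pow_sylow hs)
  rwa [h2, mul_one]

end Ctx

/-- The standing data in case five. -/
structure Five (Kc : Subgroup G) (S : Sylow 2 G) (E : Subgroup G) (t g : G) : Prop extends Ctx Kc S E t where
  balance : ∀ m ∈ Subgroup.normalizer ((S : Subgroup G) : Set G), ∀ k ∈ Kc, (∀ e ∈ E, Commute k e) →
    m * k * m⁻¹ ∈ lsub Kc S t
  g_odd : Odd (orderOf g)
  g_norm : g ∈ Subgroup.normalizer ((S : Subgroup G) : Set G)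
  g_cent : g ∈ Ct t
  g_act : ¬ ∀ x ∈ (S : Subgroup G), Commute g x

/-- In a minimal counterexample the core is balanced on the centralizer of `E`. -/
theorem balance_of_min {π : Set ℕ} (hmin : Min π G) {S : Sylow 2 G} {E : Subgroup G} {t : G}
    (c : Ctx (core π (Ct t)) S E t) :
    ∀ m ∈ Subgroup.normalizer ((S : Subgroup G) : Set G), ∀ k ∈ core π (Ct t),
      (∀ e ∈ E, Commute k e) → m * k * m⁻¹ ∈ lsub (core π (Ct t)) S t := by
  intro m hm k hk hkE
  refine le_sup_left (b := dsub S) (mem_core_of (mem_Ct.2 ?_)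
    ((coPi_conj m k).2 ((hmin.mem_core c.Ct_ne_top).1 hk).2))
  have ht' : m⁻¹ * t * m ∈ E := by
    refine c.hs.invol _ ?_ ?_
    · have := (Subgroup.mem_normalizer_iff.1 (inv_mem hm) t).1 (c.hs.le c.ht)
      rwa [inv_inv] at this
    · rw [show m⁻¹ * t * m * (m⁻¹ * t * m) = m⁻¹ * (t * t) * m by group, c.hs.esq t c.ht]; group
  have := (hkE _ ht').map (MulAut.conj m).toMonoidHom
  simpa [mul_assoc] using this

namespace Five

variable {S : Sylow 2 G} {E : Subgroup G} {t g : G} (f : Five Kc S E t g)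
include f

theorem g_E : ∀ e ∈ E, Commute g e := f.toCtx.odd_fix_E f.g_odd f.g_norm f.g_cent

theorem g5 : g ^ 5 ∈ dsub S :=
  f.toCtx.mem_dsub.2 ⟨f.g_odd.of_dvd_nat (orderOf_pow_dvd 5),
    (f.hs.odd_action f.g_odd f.g_norm f.g_E).1⟩

theorem fix_g {x : G} (hx : x ∈ (S : Subgroup G)) (h : Commute g x) : x ∈ E :=
  ((f.hs.odd_action f.g_odd f.g_norm f.g_E).2.resolve_left f.g_act) x hx h

theorem fix_pow {k : ℕ} (hk : ¬ 5 ∣ k) {x : G} (hx : x ∈ (S : Subgroup G))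
    (h : Commute (g ^ k) x) : x ∈ E := by
  refine f.fix_g hx ?_
  obtain ⟨u, v, huv⟩ := Nat.isCoprime_iff_coprime.2
    ((Nat.Prime.coprime_iff_not_dvd (by norm_num : Nat.Prime 5)).2 hk)
  have : g = (g ^ 5) ^ u * (g ^ k) ^ v := by
    rw [← zpow_natCast g 5, ← zpow_natCast g k, ← zpow_mul, ← zpow_mul, ← zpow_add]
    conv_lhs => rw [← zpow_one g, ← huv]
    congr 1
    push_cast
    ring
  rw [this]
  exact (((f.toCtx.mem_dsub.1 f.g5).2 x hx).zpow_left u).mul_left (h.zpow_left v)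

theorem exists_outside : ∃ x ∈ (S : Subgroup G), x ∉ E := by
  by_contra h
  push Not at h
  have := Subgroup.card_le_of_le h
  rw [f.hs.cardS, f.hs.cardE] at this
  omega

/-- Conjugation by a power of `g` that fixes a coset outside `E` is trivial. -/
theorem five_dvd_of_fix {x z : G} {k : ℕ} (hx : x ∈ (S : Subgroup G)) (hxE : x ∉ E) (hz : z ∈ E)
    (h : g ^ k * x * (g ^ k)⁻¹ = x * z) : 5 ∣ k := by
  by_contra hk
  have := f.hs.fix_coset (f.g_odd.of_dvd_nat (orderOf_pow_dvd k)) hz ((f.g_E z hz).pow_left k) h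
  rw [this, mul_one] at h
  exact hxE (f.fix_pow hk hx (mul_inv_eq_iff_eq_mul.1 h))

theorem pow_eq_mul {k : ℕ} {l s : G} (hl : l ∈ lsub Kc S t) (hs : s ∈ (S : Subgroup G))
    (h : g ^ k = l * s) : 5 ∣ k := by
  obtain ⟨x, hx, hxE⟩ := f.exists_outside
  have hln : l ∈ Subgroup.normalizer ((S : Subgroup G) : Set G) := by
    have : l = g ^ k * s⁻¹ := by rw [h]; group
    rw [this]
    exact mul_mem (pow_mem f.g_norm k) (inv_mem (Subgroup.le_normalizer hs))
  refine f.five_dvd_of_fix hx hxE (f.hs.comm s hs x hx) (z := s * x * s⁻¹ * x⁻¹) ?_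
  rw [h, ((f.hs.central _ (f.hs.comm s hs x hx)) x hx).symm.eq]
  have hc : Commute l (s * x * s⁻¹) :=
    f.toCtx.lsub_centralizes hl hln (mul_mem (mul_mem hs hx) (inv_mem hs))
  calc l * s * x * (l * s)⁻¹ = (l * (s * x * s⁻¹)) * l⁻¹ := by group
    _ = s * x * s⁻¹ := by rw [hc.eq, mul_inv_cancel_right]
    _ = _ := by group

theorem odd_eq {o : G} (ho : Odd (orderOf o))
    (hn : o ∈ Subgroup.normalizer ((S : Subgroup G) : Set G)) (hot : o ∈ Ct t) :
    ∃ k : ℕ, ∃ s d : G, s ∈ (S : Subgroup G) ∧ d ∈ dsub S ∧ o = g ^ k * s * d := by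
  classical
  obtain ⟨x, hx, hxE⟩ := f.exists_outside
  have hx2 : x * x ≠ 1 := fun h => hxE (f.hs.invol x hx h)
  have hx2E := f.hs.sq x hx
  let y : Fin 5 × E → Fib (S : Subgroup G) (x * x) := fun p =>
    ⟨g ^ (p.1 : ℕ) * x * (g ^ (p.1 : ℕ))⁻¹ * (p.2 : G),
      mul_mem ((Subgroup.mem_normalizer_iff.1 (pow_mem f.g_norm _) x).1 hx) (f.hs.le p.2.2), by
      set w := g ^ (p.1 : ℕ) * x * (g ^ (p.1 : ℕ))⁻¹ with hw
      have hwS : w ∈ (S : Subgroup G) := (Subgroup.mem_normalizer_iff.1 (pow_mem f.g_norm _) x).1 hx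
      calc w * p.2 * (w * p.2) = w * ((p.2 : G) * w) * p.2 := by group
        _ = w * w * ((p.2 : G) * p.2) := by rw [(f.hs.central _ p.2.2 w hwS).eq]; group
        _ = g ^ (p.1 : ℕ) * (x * x) * (g ^ (p.1 : ℕ))⁻¹ := by
          rw [f.hs.esq _ p.2.2, hw]; group
        _ = x * x := by rw [((f.g_E _ hx2E).pow_left _).eq, mul_inv_cancel_right]⟩
  have hinj : Function.Injective y := by
    rintro ⟨i, z⟩ ⟨j, w⟩ hij
    wlog hle : (j : ℕ) ≤ (i : ℕ) generalizing i j z w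
    · exact (this j w i z hij.symm (le_of_not_ge hle)).symm
    have h1 := congrArg Subtype.val hij
    simp only [y] at h1
    have hz : (w : G) * (z : G)⁻¹ ∈ E := mul_mem w.2 (inv_mem z.2)
    have h2 : g ^ ((i : ℕ) - j) * x * (g ^ ((i : ℕ) - j))⁻¹ = x * ((w : G) * (z : G)⁻¹) := by
      have hc := ((f.g_E _ hz).pow_left (j : ℕ))
      refine (MulAut.conj (g ^ (j : ℕ))).injective ?_
      show g ^ (j : ℕ) * _ * (g ^ (j : ℕ))⁻¹ = g ^ (j : ℕ) * _ * (g ^ (j : ℕ))⁻¹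
      calc g ^ (j : ℕ) * (g ^ ((i : ℕ) - j) * x * (g ^ ((i : ℕ) - j))⁻¹) * (g ^ (j : ℕ))⁻¹
          = (g ^ (j : ℕ) * g ^ ((i : ℕ) - j)) * x * (g ^ (j : ℕ) * g ^ ((i : ℕ) - j))⁻¹ := by group
        _ = g ^ (i : ℕ) * x * (g ^ (i : ℕ))⁻¹ := by rw [← pow_add, Nat.add_sub_cancel' hle]
        _ = g ^ (j : ℕ) * x * (g ^ (j : ℕ))⁻¹ * ((w : G) * (z : G)⁻¹) := by
          rw [← mul_assoc, ← h1, mul_inv_cancel_right]
        _ = g ^ (j : ℕ) * x * (((w : G) * (z : G)⁻¹) * (g ^ (j : ℕ))⁻¹) := by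
          rw [mul_assoc, ← hc.inv_left.eq]
        _ = _ := by group
    have h5 := f.five_dvd_of_fix hx hxE hz h2
    have : (i : ℕ) = j := by
      have := i.2; have := j.2
      obtain ⟨q, hq⟩ := h5
      omega
    obtain rfl := Fin.ext this
    exact Prod.ext rfl (Subtype.ext (mul_left_cancel h1))
  haveI := Fintype.ofFinite E
  have hbij : Function.Bijective y := by
    refine (Nat.bijective_iff_injective_and_card y).2 ⟨hinj, ?_⟩
    rw [Nat.card_prod, f.hs.card_fib hx2E hx2, f.hs.cardE, Nat.card_fin]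
  have hoE := f.toCtx.odd_fix_E ho hn hot
  obtain ⟨⟨i, z⟩, hiz⟩ := hbij.2 ⟨o * x * o⁻¹, (Subgroup.mem_normalizer_iff.1 hn x).1 hx, by
    calc o * x * o⁻¹ * (o * x * o⁻¹) = o * (x * x) * o⁻¹ := by group
      _ = x * x := by rw [(hoE _ hx2E).eq, mul_inv_cancel_right]⟩
  have hiz' : g ^ (i : ℕ) * x * (g ^ (i : ℕ))⁻¹ * z = o * x * o⁻¹ := congrArg Subtype.val hiz
  set n := (g ^ (i : ℕ))⁻¹ * o with hn'
  have hnn : n ∈ Subgroup.normalizer ((S : Subgroup G) : Set G) :=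
    mul_mem (inv_mem (pow_mem f.g_norm _)) hn
  have hnt : n ∈ Ct t := mul_mem (inv_mem (pow_mem f.g_cent _)) hot
  obtain ⟨s, d, hs, hd, hdn, hdt, hsd⟩ := f.toCtx.exists_two_odd hnn hnt
  have hdE := f.toCtx.odd_fix_E hd hdn hdt
  have hnx : n * x * n⁻¹ = x * z := by
    calc n * x * n⁻¹ = (g ^ (i : ℕ))⁻¹ * (o * x * o⁻¹) * g ^ (i : ℕ) := by rw [hn']; group
      _ = x * ((g ^ (i : ℕ))⁻¹ * (z : G) * g ^ (i : ℕ)) := by rw [← hiz']; group
      _ = x * z := by
        rw [mul_assoc ((g ^ (i : ℕ))⁻¹), ← ((f.g_E z z.2).pow_left (i : ℕ)).eq, inv_mul_cancel_left]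
  set w := x * z
  have hwS : w ∈ (S : Subgroup G) := mul_mem hx (f.hs.le z.2)
  have hdx : d * x * d⁻¹ = x * ((z : G) * (s⁻¹ * w * s * w⁻¹)) := by
    calc d * x * d⁻¹ = s⁻¹ * (n * x * n⁻¹) * s := by rw [hsd]; group
      _ = s⁻¹ * w * s * w⁻¹ * w := by rw [hnx]; group
      _ = _ := by
        have hzc : Commute (s⁻¹ * w * s * w⁻¹) w := f.hs.central _ (by
          have := f.hs.comm s⁻¹ (inv_mem hs) w hwS; rwa [inv_inv] at this) w hwS
        rw [hzc.eq, ← mul_assoc x]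
  have hzE : (z : G) * (s⁻¹ * w * s * w⁻¹) ∈ E := mul_mem z.2 (by
    have := f.hs.comm s⁻¹ (inv_mem hs) w hwS; rwa [inv_inv] at this)
  have h0 := f.hs.fix_coset hd hzE (hdE _ hzE) hdx
  rw [h0, mul_one] at hdx
  have hdd : d ∈ dsub S := f.toCtx.mem_dsub.2 ⟨hd,
    ((f.hs.odd_action hd hdn hdE).2.resolve_right fun h => hxE
      (h x hx (mul_inv_eq_iff_eq_mul.1 hdx)))⟩
  refine ⟨i, s, d, hs, hdd, ?_⟩
  rw [mul_assoc, ← hsd, hn', mul_inv_cancel_left]

theorem decomp_five {x : G} (hx : x ∈ Ct t) :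
    ∃ l s : G, ∃ k : ℕ, l ∈ lsub Kc S t ∧ s ∈ (S : Subgroup G) ∧ x = l * s * g ^ k := by
  obtain ⟨k0, s0, o, hk, hs0, ho, hon, hot, rfl⟩ := f.toCtx.decomp hx
  obtain ⟨k, s, d, hs, hd, rfl⟩ := f.odd_eq ho hon hot
  set gk := g ^ k
  have hgkn : gk ∈ Subgroup.normalizer ((S : Subgroup G) : Set G) := pow_mem f.g_norm k
  have hd' : gk * d * gk⁻¹ ∈ dsub S := f.toCtx.dsub_normalized hgkn hd
  have hs' : gk * s * gk⁻¹ ∈ (S : Subgroup G) := (Subgroup.mem_normalizer_iff.1 hgkn s).1 hs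
  refine ⟨k0 * (gk * d * gk⁻¹), s0 * (gk * s * gk⁻¹), k, mul_mem (le_sup_left (b := dsub S) hk)
    (le_sup_right (a := Kc) hd'), mul_mem hs0 hs', ?_⟩
  have hc := (f.toCtx.mem_dsub.1 hd').2 _ (mul_mem hs0 hs')
  calc k0 * s0 * (gk * s * d) = k0 * ((s0 * (gk * s * gk⁻¹)) * (gk * d * gk⁻¹)) * gk := by group
    _ = _ := by rw [← hc.eq]; simp only [gk, mul_assoc]

theorem unique {l l' s s' : G} {a b : ℕ} (hl : l ∈ lsub Kc S t) (hl' : l' ∈ lsub Kc S t)
    (hs : s ∈ (S : Subgroup G)) (hs' : s' ∈ (S : Subgroup G))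
    (h : l * s * g ^ a = l' * s' * g ^ b) : (a : ZMod 5) = b := by
  wlog hle : b ≤ a generalizing a b l l' s s'
  · exact (this hl' hl hs' hs h.symm (le_of_not_ge hle)).symm
  obtain ⟨d, rfl⟩ := Nat.exists_eq_add_of_le hle
  have h1 : g ^ d = (s⁻¹ * (l⁻¹ * l') * s) * (s⁻¹ * s') := by
    refine mul_right_cancel (b := g ^ b) (mul_left_cancel (a := l * s) ?_)
    show l * s * (g ^ d * g ^ b) = _
    rw [← pow_add, add_comm d b]
    rw [h]
    group
  have := f.pow_eq_mul (by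
    have := f.toCtx.lsub_conj (f.toCtx.sylow_le_Ct (inv_mem hs)) (mul_mem (inv_mem hl) hl')
    rwa [inv_inv] at this) (mul_mem (inv_mem hs) hs') h1
  rw [Nat.cast_add, (ZMod.natCast_eq_zero_iff _ _).2 this]; simp

end Five

/-- A residue modulo five with an odd power equal to one is one. -/
theorem eq_one_of_odd_pow (a : ZMod 5) (j : ℕ) (h : a ^ (2 * j + 1) = 1) : a = 1 := by
  rw [pow_succ, pow_mul, _root_.sq] at h
  have h6 : ∀ b : ZMod 5, b * b = 0 ∨ b * b = 1 ∨ b * b = 4 := by decide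
  have h4 := h6 a
  have h5 : ∀ b : ZMod 5, b * b = 4 → (b = 1 → False) ∧ (4 * b = 1 → False) := by decide
  rcases h4 with h4 | h4 | h4
  · rcases Nat.eq_zero_or_pos j with rfl | hj
    · simpa using h
    · rw [h4, zero_pow hj.ne', zero_mul] at h; exact absurd h (by decide)
  · rw [h4, one_pow, one_mul] at h; exact h
  · rw [h4] at h
    rcases Nat.even_or_odd j with ⟨i, rfl⟩ | ⟨i, rfl⟩
    · rw [← two_mul, pow_mul, show (4 : ZMod 5) ^ 2 = 1 from by decide, one_pow, one_mul] at h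
      exact h
    · rw [pow_succ, pow_mul, show (4 : ZMod 5) ^ 2 = 1 from by decide, one_pow, one_mul] at h
      exact ((h5 a h4).2 h).elim

/-- The index of an element of `C(t)` in the cyclic factor. -/
noncomputable def kidx (Kc : Subgroup G) (S : Sylow 2 G) (t g x : G) : ZMod 5 :=
  haveI := Classical.dec (∃ l s : G, ∃ k : ℕ, l ∈ lsub Kc S t ∧ s ∈ (S : Subgroup G) ∧ x = l * s * g ^ k)
  if h : ∃ l s : G, ∃ k : ℕ, l ∈ lsub Kc S t ∧ s ∈ (S : Subgroup G) ∧ x = l * s * g ^ k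
    then (h.choose_spec.choose_spec.choose : ZMod 5) else 0

namespace Five

variable {S : Sylow 2 G} {E : Subgroup G} {t g : G} (f : Five Kc S E t g)
include f

theorem kidx_eq {x l s : G} {k : ℕ} (hl : l ∈ lsub Kc S t) (hs : s ∈ (S : Subgroup G))
    (h : x = l * s * g ^ k) : kidx Kc S t g x = k := by
  have he : ∃ l s : G, ∃ k : ℕ, l ∈ lsub Kc S t ∧ s ∈ (S : Subgroup G) ∧ x = l * s * g ^ k :=
    ⟨l, s, k, hl, hs, h⟩
  rw [kidx, dif_pos he]
  obtain ⟨h1, h2, h3⟩ := he.choose_spec.choose_spec.choose_spec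
  exact f.unique h1 hl h2 hs (h3.symm.trans h)

theorem kidx_mul {x y : G} (hx : x ∈ Ct t) (hy : y ∈ Ct t) :
    kidx Kc S t g (x * y) = kidx Kc S t g x + kidx Kc S t g y := by
  obtain ⟨l, s, a, hl, hs, rfl⟩ := f.decomp_five hx
  obtain ⟨l', s', b, hl', hs', rfl⟩ := f.decomp_five hy
  rw [f.kidx_eq hl hs rfl, f.kidx_eq hl' hs' rfl, ← Nat.cast_add]
  refine f.kidx_eq (l := l * ((s * g ^ a) * l' * (s * g ^ a)⁻¹)) (s := s * (g ^ a * s' * (g ^ a)⁻¹))
    (mul_mem hl (f.toCtx.lsub_conj (mul_mem (f.toCtx.sylow_le_Ct hs) (pow_mem f.g_cent a)) hl'))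
    (mul_mem hs ((Subgroup.mem_normalizer_iff.1 (pow_mem f.g_norm a) s').1 hs')) ?_
  rw [pow_add]; group

theorem kidx_lsub {l : G} (hl : l ∈ lsub Kc S t) : kidx Kc S t g l = 0 := by
  rw [f.kidx_eq hl (one_mem _) (k := 0) (by simp), Nat.cast_zero]

theorem kidx_sylow {s : G} (hs : s ∈ (S : Subgroup G)) : kidx Kc S t g s = 0 := by
  rw [f.kidx_eq (one_mem _) hs (k := 0) (by simp), Nat.cast_zero]

theorem kidx_pow (k : ℕ) : kidx Kc S t g (g ^ k) = k :=
  f.kidx_eq (one_mem _) (one_mem _) (by simp)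

theorem kidx_inv {x : G} (hx : x ∈ Ct t) : kidx Kc S t g x⁻¹ = - kidx Kc S t g x := by
  have := f.kidx_mul hx (inv_mem hx)
  rw [mul_inv_cancel, f.kidx_lsub (one_mem _)] at this
  exact (neg_eq_of_add_eq_zero_right this.symm).symm

theorem kidx_conj {x y : G} (hx : x ∈ Ct t) (hy : y ∈ Ct t) :
    kidx Kc S t g (x * y * x⁻¹) = kidx Kc S t g y := by
  rw [f.kidx_mul (mul_mem hx hy) (inv_mem hx), f.kidx_mul hx hy, f.kidx_inv hx]
  abel

theorem eq_mul_of_kidx {x : G} (hx : x ∈ Ct t) (h : kidx Kc S t g x = 0) :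
    ∃ l s : G, l ∈ lsub Kc S t ∧ s ∈ (S : Subgroup G) ∧ x = l * s := by
  obtain ⟨l, s, k, hl, hs, rfl⟩ := f.decomp_five hx
  rw [f.kidx_eq hl hs rfl] at h
  obtain ⟨q, rfl⟩ := (ZMod.natCast_eq_zero_iff k 5).1 h
  have hd : g ^ (5 * q) ∈ dsub S := by rw [pow_mul]; exact pow_mem f.g5 q
  refine ⟨l * g ^ (5 * q), s, mul_mem hl (le_sup_right (a := Kc) hd), hs, ?_⟩
  rw [mul_assoc, mul_assoc, ((f.toCtx.mem_dsub.1 hd).2 s hs).eq]

theorem odd_kidx_zero {x : G} (hx : x ∈ Ct t) (ho : Odd (orderOf x)) (h : kidx Kc S t g x = 0) :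
    x ∈ lsub Kc S t := by
  obtain ⟨l, s, hl, hs, rfl⟩ := f.eq_mul_of_kidx hx h
  exact f.toCtx.lsub_of_odd hl hs ho

/-- An element of `C(t)` commuting with an element of `S` outside `E` has index zero. -/
theorem kidx_comm {x y : G} (hx : x ∈ (S : Subgroup G)) (hxE : x ∉ E) (hy : y ∈ Ct t)
    (h : Commute y x) : kidx Kc S t g y = 0 := by
  obtain ⟨l, s, k, hl, hs, rfl⟩ := f.decomp_five hy
  rw [f.kidx_eq hl hs rfl]
  refine (ZMod.natCast_eq_zero_iff k 5).2 ?_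
  set gk := g ^ k
  set x' := gk * x * gk⁻¹
  have hx' : x' ∈ (S : Subgroup G) := (Subgroup.mem_normalizer_iff.1 (pow_mem f.g_norm k) x).1 hx
  set x'' := s * x' * s⁻¹
  have hx'' : x'' ∈ (S : Subgroup G) := mul_mem (mul_mem hs hx') (inv_mem hs)
  have h1 : l * x'' * l⁻¹ = x := by
    calc l * x'' * l⁻¹ = (l * s * gk) * x * (l * s * gk)⁻¹ := by
          simp only [x'', x']; group
      _ = x := by rw [h.eq, mul_inv_cancel_right]
  have h2 : l * x'' * l⁻¹ * x''⁻¹ = 1 := f.toCtx.lsub_inf (by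
      rw [show l * x'' * l⁻¹ * x''⁻¹ = l * (x'' * l⁻¹ * x''⁻¹) by group]
      exact mul_mem hl (f.toCtx.lsub_conj (f.toCtx.sylow_le_Ct hx'') (inv_mem hl)))
    (by rw [h1]; exact mul_mem hx (inv_mem hx''))
  rw [h1, mul_inv_eq_one] at h2
  refine f.five_dvd_of_fix hx hxE (f.hs.comm s⁻¹ (inv_mem hs) x hx) (z := s⁻¹ * x * s⁻¹⁻¹ * x⁻¹) ?_
  show x' = _
  rw [((f.hs.central _ (f.hs.comm s⁻¹ (inv_mem hs) x hx)) x hx).symm.eq, inv_inv, inv_mul_cancel_right]
  conv_rhs => rw [h2]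
  simp only [x'']; group

/-- The index on `C(E)` is invariant under odd elements of the normalizer. -/
theorem kidx_equivariant {n q : G} (hn : n ∈ Subgroup.normalizer ((S : Subgroup G) : Set G))
    (hno : Odd (orderOf n)) (hq : ∀ e ∈ E, Commute q e) :
    kidx Kc S t g (n * q * n⁻¹) = kidx Kc S t g q := by
  have hmapE : ∀ {m : G}, m ∈ Subgroup.normalizer ((S : Subgroup G) : Set G) →
      ∀ e ∈ E, m * e * m⁻¹ ∈ E := fun {m} hm e he =>
    f.hs.invol _ ((Subgroup.mem_normalizer_iff.1 hm e).1 (f.hs.le he)) (by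
      calc m * e * m⁻¹ * (m * e * m⁻¹) = m * (e * e) * m⁻¹ := by group
        _ = 1 := by rw [f.hs.esq e he]; group)
  have hconjE : ∀ {m p : G}, m ∈ Subgroup.normalizer ((S : Subgroup G) : Set G) →
      (∀ e ∈ E, Commute p e) → ∀ e ∈ E, Commute (m * p * m⁻¹) e := fun {m p} hm hp e he => by
    have h1 := hp _ (by have := hmapE (inv_mem hm) e he; rwa [inv_inv] at this)
    have := h1.map (MulAut.conj m).toMonoidHom
    simpa [mul_assoc] using this
  have hCt : ∀ {p : G}, (∀ e ∈ E, Commute p e) → p ∈ Ct t := fun {p} hp => mem_Ct.2 (hp t f.ht)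
  -- index zero is preserved
  have hzero : ∀ {m p : G}, m ∈ Subgroup.normalizer ((S : Subgroup G) : Set G) →
      (∀ e ∈ E, Commute p e) → kidx Kc S t g p = 0 → kidx Kc S t g (m * p * m⁻¹) = 0 := by
    intro m p hm hp h0
    obtain ⟨l, s, hl, hs, rfl⟩ := f.eq_mul_of_kidx (hCt hp) h0
    obtain ⟨k, hk, d, hd, rfl⟩ := f.toCtx.mem_lsub.1 hl
    have hkE : ∀ e ∈ E, Commute k e := fun e he => by
      have h1 : Commute (d * s) e :=
        ((f.toCtx.mem_dsub.1 hd).2 e (f.hs.le he)).mul_left (f.hs.central e he s hs).symm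
      have h2 := (hp e he).mul_left h1.inv_left
      rwa [show k * d * s * (d * s)⁻¹ = k by group] at h2
    have hk' : m * k * m⁻¹ ∈ lsub Kc S t := f.balance m hm k hk hkE
    rw [f.kidx_eq (x := m * (k * d * s) * m⁻¹) (l := m * k * m⁻¹ * (m * d * m⁻¹)) (s := m * s * m⁻¹)
      (k := 0) (mul_mem hk'
        (le_sup_right (a := Kc) (f.toCtx.dsub_normalized hm hd)))
      ((Subgroup.mem_normalizer_iff.1 hm s).1 hs) (by rw [pow_zero, mul_one]; group), Nat.cast_zero]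
  have hlin : ∀ {m p : G}, m ∈ Subgroup.normalizer ((S : Subgroup G) : Set G) →
      (∀ e ∈ E, Commute p e) →
      kidx Kc S t g (m * p * m⁻¹) = kidx Kc S t g p * kidx Kc S t g (m * g * m⁻¹) := by
    intro m p hm hp
    obtain ⟨k, hk⟩ : ∃ k : ℕ, kidx Kc S t g p = k := ⟨_, (ZMod.natCast_rightInverse _).symm⟩
    set p' := p * (g ^ k)⁻¹ with hp'
    have hgk : ∀ e ∈ E, Commute (g ^ k) e := fun e he => (f.g_E e he).pow_left k
    have hp'E : ∀ e ∈ E, Commute p' e := fun e he => (hp e he).mul_left (hgk e he).inv_left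
    have h0 : kidx Kc S t g p' = 0 := by
      rw [hp', f.kidx_mul (hCt hp) (inv_mem (hCt hgk)), f.kidx_inv (hCt hgk), f.kidx_pow, hk]
      simp
    have hpow : ∀ j : ℕ, kidx Kc S t g (m * g ^ j * m⁻¹) = j * kidx Kc S t g (m * g * m⁻¹) := by
      intro j
      induction j with
      | zero => rw [pow_zero, mul_one, mul_inv_cancel, f.kidx_lsub (one_mem _)]; simp
      | succ j ih =>
        rw [show m * g ^ (j + 1) * m⁻¹ = (m * g ^ j * m⁻¹) * (m * g * m⁻¹) by rw [pow_succ]; group,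
          f.kidx_mul (hCt (hconjE hm fun e he => (f.g_E e he).pow_left j)) (hCt (hconjE hm f.g_E)), ih]
        push_cast; ring
    rw [show m * p * m⁻¹ = (m * p' * m⁻¹) * (m * g ^ k * m⁻¹) by rw [hp']; group,
      f.kidx_mul (hCt (hconjE hm hp'E)) (hCt (hconjE hm hgk)), hzero hm hp'E h0, zero_add, hpow, hk]
  set a := kidx Kc S t g (n * g * n⁻¹)
  have hiter : ∀ i : ℕ, kidx Kc S t g (n ^ i * g * (n ^ i)⁻¹) = a ^ i := by
    intro i
    induction i with
    | zero => rw [pow_zero, one_mul, inv_one, mul_one, pow_zero, show kidx Kc S t g g = 1 by simpa using f.kidx_pow 1]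
    | succ i ih =>
      rw [show n ^ (i + 1) * g * (n ^ (i + 1))⁻¹ = n * (n ^ i * g * (n ^ i)⁻¹) * n⁻¹ by
          rw [pow_succ']; group,
        hlin hn (hconjE (pow_mem hn i) f.g_E), ih, pow_succ]
  have ha : a = 1 := by
    have h1 := hiter (orderOf n)
    rw [pow_orderOf_eq_one, one_mul, inv_one, mul_one] at h1
    rw [show kidx Kc S t g g = 1 by simpa using f.kidx_pow 1] at h1
    obtain ⟨j, hj⟩ := hno
    rw [hj] at h1
    exact eq_one_of_odd_pow a j h1.symm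
  rw [hlin hn hq]
  show _ * a = _
  rw [ha, mul_one]

end Five

end Cfsg.Lib.PiHom.U34
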