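import Cfsg.Agent.Lib.PiHom.U34.FiveValues
import Cfsg.Agent.Lib.PiHom.U34.Arith
import Cfsg.Agent.Lib.Char.InvolutionSetSum
import Cfsg.Agent.Lib.Block.RegInt
import Mathlib.Data.Rat.Cast.CharZero

/-!
# Case five is impossible

The class multiplication of the involutions contradicts the arithmetical certificate.
-/

set_option autoImplicit false
set_option linter.unusedSectionVars false
set_option linter.style.haveILetI false

namespace Cfsg.Lib.PiHom.U34

open Cfsg Cfsg.Lib Cfsg.Lib.Block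
open scoped ComplexConjugate Classical

universe u

variable {G : Type u} [Group G] [Fintype G] {Kc : Subgroup G}

/-- The Gram matrix of the six basic generalized characters away from the trivial character. -/
def gmat : Fin 6 → Fin 6 → ℤ :=
  ![![4, 1, 1, 1, 1, 3], ![1, 5, 1, 1, 1, 4], ![1, 1, 5, 1, 1, 4], ![1, 1, 1, 5, 1, 4],
    ![1, 1, 1, 1, 5, 4], ![3, 4, 4, 4, 4, 15]]

theorem sum_bilinear {ι : Type*} (P : Finset ι) (r : ι → Fin 6 → ℤ) {A : Fin 6 → Fin 6 → ℤ}
    (hA : ∀ u v, ∑ i ∈ P, r i u * r i v = A u v) (c c' : Fin 6 → ℤ) :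
    ∑ i ∈ P, (∑ u, c u * r i u) * (∑ v, c' v * r i v) = ∑ u, ∑ v, c u * c' v * A u v := by
  rw [Finset.sum_congr rfl fun i _ => Finset.sum_mul_sum _ _ _ _, Finset.sum_comm]
  refine Finset.sum_congr rfl fun u _ => ?_
  rw [Finset.sum_comm]
  refine Finset.sum_congr rfl fun v _ => ?_
  rw [← hA, Finset.mul_sum]
  exact Finset.sum_congr rfl fun i _ => by ring

/-- The quadratic form of a row. -/
def rowQ (r : Fin 6 → ℤ) : ℤ :=
  qnorm (r 0) (r 1 + r 2 + r 3 + r 4) (r 5) (r 1 * r 1 + r 2 * r 2 + r 3 * r 3 + r 4 * r 4)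

/-- The certificate form of a row. -/
def rowP (r : Fin 6 → ℤ) : ℤ := cert (r 0) (r 1 + r 2 + r 3 + r 4) (r 5)

/-- Cauchy's inequality for the rows. -/
theorem rowQ_bound {ι : Type*} [DecidableEq ι] {P : Finset ι} {r : ι → Fin 6 → ℤ}
    (hG : ∀ u v, ∑ i ∈ P, r i u * r i v = gmat u v) {i : ι} (hi : i ∈ P) :
    rowQ (r i) ≤ 188 ∧ ∀ k ∈ P, k ≠ i → r k = r i → 2 * rowQ (r i) ≤ 188 := by
  set v := r i with hv
  set s := v 1 + v 2 + v 3 + v 4 with hs
  set c : Fin 6 → ℤ :=
    ![56 * v 0 - 3 * s - 8 * v 5, 47 * v 1 + s - 3 * v 0 - 13 * v 5,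
      47 * v 2 + s - 3 * v 0 - 13 * v 5, 47 * v 3 + s - 3 * v 0 - 13 * v 5,
      47 * v 4 + s - 3 * v 0 - 13 * v 5, 28 * v 5 - 8 * v 0 - 13 * s] with hc
  have hval : ∑ u, c u * v u = rowQ v := by
    simp only [Fin.sum_univ_six, hc, rowQ, qnorm, hs]
    simp only [Matrix.cons_val_zero, Matrix.cons_val_one, Matrix.cons_val]
    ring
  have htot : ∑ k ∈ P, (∑ u, c u * r k u) * (∑ u, c u * r k u) = 188 * rowQ v := by
    rw [sum_bilinear P r hG c c]
    simp only [Fin.sum_univ_six, hc, gmat, rowQ, qnorm, hs]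
    simp only [Matrix.cons_val_zero, Matrix.cons_val_one, Matrix.cons_val]
    ring
  have hnn : ∀ k ∈ P, 0 ≤ (∑ u, c u * r k u) * (∑ u, c u * r k u) := fun k _ => mul_self_nonneg _
  have h1 := Finset.single_le_sum hnn hi
  rw [htot, ← hv, hval] at h1
  refine ⟨?_, fun k hk hki he => ?_⟩
  · by_contra hcon
    have := mul_lt_mul_of_pos_right (lt_of_not_ge hcon) (by omega : (0 : ℤ) < rowQ v)
    linarith
  · have h2 : ∑ j ∈ ({i, k} : Finset ι), (∑ u, c u * r j u) * (∑ u, c u * r j u) ≤ 188 * rowQ v :=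
      htot ▸ Finset.sum_le_sum_of_subset_of_nonneg (by
        intro j hj
        rcases Finset.mem_insert.1 hj with rfl | hj
        · exact hi
        · rw [Finset.mem_singleton.1 hj]; exact hk) (fun j hj _ => hnn j hj)
    rw [Finset.sum_pair (Ne.symm hki), he, ← hv, hval] at h2
    by_contra hcon
    have := mul_lt_mul_of_pos_right (lt_of_not_ge hcon) (by omega : (0 : ℤ) < rowQ v)
    linarith

theorem rowP_sum {ι : Type*} {P : Finset ι} {r : ι → Fin 6 → ℤ}
    (hG : ∀ u v, ∑ i ∈ P, r i u * r i v = gmat u v) : ∑ i ∈ P, rowP (r i) = 112 := by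
  set eb : Fin 6 → ℤ := ![1, 0, 0, 0, 0, 0] with heb
  set es : Fin 6 → ℤ := ![0, 1, 1, 1, 1, 0] with hes
  set ea : Fin 6 → ℤ := ![0, 0, 0, 0, 0, 1] with hea
  have hv : ∀ i, rowP (r i) =
      11 * ((∑ u, eb u * r i u) * (∑ u, eb u * r i u)) + 8 * ((∑ u, eb u * r i u) * (∑ u, es u * r i u))
      + 4 * ((∑ u, es u * r i u) * (∑ u, es u * r i u)) - 12 * ((∑ u, eb u * r i u) * (∑ u, ea u * r i u))
      - 11 * ((∑ u, es u * r i u) * (∑ u, ea u * r i u))
      + 8 * ((∑ u, ea u * r i u) * (∑ u, ea u * r i u)) := by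
    intro i
    simp only [rowP, cert, Fin.sum_univ_six, heb, hes, hea]
    simp only [Matrix.cons_val_zero, Matrix.cons_val_one, Matrix.cons_val]
    ring
  simp only [hv, Finset.sum_add_distrib, Finset.sum_sub_distrib, ← Finset.mul_sum, sum_bilinear P r hG]
  simp only [Fin.sum_univ_six, heb, hes, hea, gmat]
  simp only [Matrix.cons_val_zero, Matrix.cons_val_one, Matrix.cons_val]
  norm_num

namespace Five

variable {S : Sylow 2 G} {E : Subgroup G} {t g : G} (f : Five Kc S E t g)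
include f

/-- The six basic generalized characters. -/
noncomputable def basis (f : Five Kc S E t g) : Fin 6 → G → ℂ :=
  ![f.betaF 0, f.betaF 1, f.betaF 2, f.betaF 3, f.betaF 4, f.alphaF]

theorem basis_virtual (u : Fin 6) : IsGeneralizedCharacter G (f.basis u) := by
  fin_cases u <;> first | exact f.alphaF_virtual | exact f.betaF_virtual _

/-- The row of a character. -/
theorem exists_rows : ∃ r : IrrCharacter G → Fin 6 → ℤ,
    ∀ (χ : IrrCharacter G) u, classInner (f.basis u) (χ : G → ℂ) = r χ u := by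
  choose r hr using fun (χ : IrrCharacter G) (u : Fin 6) =>
    (Char.isGeneralizedCharacter_iff.1 (f.basis_virtual u)).2 _ χ.2
  exact ⟨r, hr⟩

theorem rows_gram {r : IrrCharacter G → Fin 6 → ℤ}
    (hr : ∀ (χ : IrrCharacter G) u, classInner (f.basis u) (χ : G → ℂ) = r χ u) :
    r (trivChar G) = ![1, 0, 0, 0, 0, 1] ∧
      ∀ u v, ∑ χ ∈ Finset.univ.erase (trivChar G), r χ u * r χ v = gmat u v := by
  have htriv : r (trivChar G) = ![1, 0, 0, 0, 0, 1] := by
    funext u
    have e : ((r (trivChar G) u : ℤ) : ℂ) = classInner (f.basis u) (fun _ => (1 : ℂ)) := by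
      rw [← hr, trivChar_coe]
    fin_cases u <;> simp only [basis, Fin.zero_eta, Fin.mk_one, Fin.reduceFinMk, Matrix.cons_val_zero,
      Matrix.cons_val_one, Matrix.cons_val, f.gram_a1, f.gram_b1] at e ⊢ <;> simp (config := {decide := true}) at e ⊢ <;>
      exact_mod_cast e
  refine ⟨htriv, fun u v => ?_⟩
  have hall : ∀ u v : Fin 6, classInner (f.basis u) (f.basis v) =
      ((![1, 0, 0, 0, 0, 1] : Fin 6 → ℤ) u * (![1, 0, 0, 0, 0, 1] : Fin 6 → ℤ) v + gmat u v : ℤ) := by
    intro u v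
    fin_cases u <;> fin_cases v <;>
      simp only [basis, gmat, Fin.zero_eta, Fin.mk_one, Fin.reduceFinMk, Matrix.cons_val_zero,
        Matrix.cons_val_one, Matrix.cons_val, f.gram_aa, f.gram_ab, f.gram_ba, f.gram_bb] <;>
      simp (config := {decide := true}) <;> norm_num
  have h := Char.classInner_eq_sum (f' := f.basis v) (f.basis_virtual u).isClassFunction
  have hterm : ∀ χ : IrrCharacter G,
      classInner (f.basis u) (χ : G → ℂ) * conj (classInner (f.basis v) (χ : G → ℂ)) =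
        ((r χ u * r χ v : ℤ) : ℂ) := fun χ => by
    rw [hr, hr, map_intCast]
    push_cast; rfl
  rw [Finset.sum_congr rfl fun χ _ => hterm χ, ← Int.cast_sum, hall, Int.cast_inj,
    ← Finset.add_sum_erase Finset.univ _ (Finset.mem_univ (trivChar G)), htriv] at h
  omega

set_option maxHeartbeats 2000000 in
/-- Case five is impossible. -/
theorem false_five {π : Set ℕ} (hmin : Min π G) (hKc : Kc = core π (Ct t)) : False := by
  obtain ⟨M, hM⟩ := exists_isPModular (q := 2) Nat.prime_two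
  obtain ⟨r, hr⟩ := f.exists_rows
  obtain ⟨htriv, hG⟩ := f.rows_gram hr
  set P := Finset.univ.erase (trivChar G)
  -- the class function vanishing at products of involutions
  set F : G → ℂ := (4 : ℂ) • f.betaF 0 + (2 : ℂ) • f.alphaF -
    (f.betaF 1 + f.betaF 2 + f.betaF 3 + f.betaF 4) with hF
  set T : IrrCharacter G → ℤ := fun χ =>
    4 * r χ 0 + 2 * r χ 5 - (r χ 1 + r χ 2 + r χ 3 + r χ 4) with hT
  have hFc : ∀ χ : IrrCharacter G, classInner F (χ : G → ℂ) = (T χ : ℂ) := by
    intro χ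
    have e : ∀ u, classInner (f.basis u) (χ : G → ℂ) = r χ u := hr χ
    have e0 := e 0; have e1 := e 1; have e2 := e 2; have e3 := e 3; have e4 := e 4; have e5 := e 5
    simp only [basis, Matrix.cons_val_zero, Matrix.cons_val_one, Matrix.cons_val] at e0 e1 e2 e3 e4 e5
    simp only [hF, hT, Char.classInner_sub_left, Char.classInner_add_left, Char.classInner_smul_left,
      e0, e1, e2, e3, e4, e5]
    push_cast; ring
  have hFzero : ∀ x y : G, orderOf x = 2 → orderOf y = 2 → F (x * y) = 0 := by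
    intro x y hx hy
    rcases f.toCtx.invol_product hx hy with h | ⟨h2, hc', hinv⟩
    · simp [hF, alphaF, betaF, f.toCtx.theta_one h]
    · obtain ⟨z, hz⟩ := f.toCtx.exists_conj_t h2
      have hl : z * pReg 2 (x * y) * z⁻¹ ∈ lsub Kc S t :=
        f.toCtx.inverted_mem_lsub (x := z * x * z⁻¹) (by rw [orderOf_conj', hx])
          (mem_Ct.2 (by
            have := hc'.map (MulAut.conj z).toMonoidHom
            simp only [MulEquiv.toMonoidHom_eq_coe, MonoidHom.coe_coe, MulAut.conj_apply] at this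
            rwa [hz] at this))
          (by rw [orderOf_conj']; exact odd_pReg _)
          (mem_Ct.2 (by
            have := ((pPt_commute_pReg (p := 2) (x * y)).symm).map (MulAut.conj z).toMonoidHom
            simp only [MulEquiv.toMonoidHom_eq_coe, MonoidHom.coe_coe, MulAut.conj_apply] at this
            rwa [hz] at this))
          (by rw [show z * x * z⁻¹ * (z * pReg 2 (x * y) * z⁻¹) * (z * x * z⁻¹)⁻¹ =
              z * (x * pReg 2 (x * y) * x⁻¹) * z⁻¹ by group, hinv]; group)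
      simp only [hF, alphaF, betaF, Pi.sub_apply, Pi.add_apply, Pi.smul_apply, smul_eq_mul,
        f.toCtx.theta_two (f.inv_const _ _) hz, f.kidx_lsub hl, psi_f2_zero]
      norm_num
  set I : Finset G := Finset.univ.filter fun x => orderOf x = 2 with hI
  have hIc : Char.ConjClosed I := fun k x hx => by
    simp only [hI, Finset.mem_filter, Finset.mem_univ, true_and] at hx ⊢
    rwa [orderOf_conj']
  have hFcl : IsClassFunction G F := fun x k => by
    simp only [hF, Pi.sub_apply, Pi.add_apply, Pi.smul_apply, f.alphaF_class x k, f.betaF_class _ x k]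
  have hsum := Char.sum_conjClosed_pair_eq (I := I) hIc hFcl
  rw [Finset.sum_eq_zero (fun x hx => Finset.sum_eq_zero fun y hy =>
    hFzero x y (Finset.mem_filter.1 hx).2 (Finset.mem_filter.1 hy).2)] at hsum
  have hIsum : ∀ χ : IrrCharacter G, ∑ x ∈ I, (χ : G → ℂ) x = (I.card : ℂ) * (χ : G → ℂ) t := by
    intro χ
    rw [Finset.sum_congr rfl fun x hx => by
      obtain ⟨y, hy⟩ := f.toCtx.exists_conj_t (Finset.mem_filter.1 hx).2
      rw [← χ.2.isClassFunction x y, hy], Finset.sum_const, nsmul_eq_mul]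
  have hI0 : (I.card : ℂ) ≠ 0 :=
    Nat.cast_ne_zero.2 (Finset.card_ne_zero_of_mem (Finset.mem_filter.2 ⟨Finset.mem_univ t, f.toCtx.orderOf_t⟩))
  have heq : ∑ χ : IrrCharacter G, (T χ : ℂ) * ((χ : G → ℂ) t * (χ : G → ℂ) t) / (χ : G → ℂ) 1 = 0 := by
    have e : ∑ χ : IrrCharacter G, (I.card : ℂ) * (I.card : ℂ) *
        ((T χ : ℂ) * ((χ : G → ℂ) t * (χ : G → ℂ) t) / (χ : G → ℂ) 1) = 0 := by
      rw [hsum]
      refine Finset.sum_congr rfl fun χ _ => ?_
      rw [hFc, hIsum]; ring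
    rw [← Finset.mul_sum] at e
    exact (mul_eq_zero.1 e).resolve_left (mul_ne_zero hI0 hI0)
  -- the bound for each nontrivial character
  have key : ∀ χ ∈ P, ∃ X : ℚ,
      (T χ : ℂ) * ((χ : G → ℂ) t * (χ : G → ℂ) t) / (χ : G → ℂ) 1 = (X : ℂ) ∧
      -113 * X ≤ 6 * (rowP (r χ) : ℚ) := by
    intro χ hχP
    by_cases hB : χ ∈ principalBlock M G
    swap
    · obtain ⟨h1, h2⟩ := f.row_zero hM hB
      have h0 : ∀ u, r χ u = 0 := fun u => by
        have e := hr χ u
        fin_cases u <;> simp only [basis, Fin.zero_eta, Fin.mk_one, Fin.reduceFinMk, Matrix.cons_val_zero,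
          Matrix.cons_val_one, Matrix.cons_val, h1, h2] at e ⊢ <;> exact_mod_cast e.symm
      exact ⟨0, by simp [hT, h0], by simp [rowP, cert, h0]⟩
    set b := r χ 0 with hb
    set s := r χ 1 + r χ 2 + r χ 3 + r χ 4 with hs
    set a := r χ 5 with ha
    obtain ⟨a', ha', hav⟩ := f.value_four hM hB
    have haa : a' = a := by
      have e := hr χ 5
      simp only [basis, Matrix.cons_val] at e
      rw [ha'] at e; exact_mod_cast e
    subst haa
    set e := 5 * a - 4 * (b + s) with he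
    have het : (χ : G → ℂ) t = (e : ℂ) := by
      rw [f.value_t hM hB (a := a) (b := ![r χ 0, r χ 1, r χ 2, r χ 3, r χ 4]) ha' (fun j => by
        have e0 := hr χ 0; have e1 := hr χ 1; have e2 := hr χ 2; have e3 := hr χ 3; have e4 := hr χ 4
        simp only [basis, Matrix.cons_val_zero, Matrix.cons_val_one, Matrix.cons_val] at e0 e1 e2 e3 e4
        fin_cases j
        exacts [e0, e1, e2, e3, e4])]
      rw [he, hb, hs, show (∑ j : ZMod 5, (![r χ 0, r χ 1, r χ 2, r χ 3, r χ 4] : Fin 5 → ℤ) j) =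
          r χ 0 + r χ 1 + r χ 2 + r χ 3 + r χ 4 from Fin.sum_univ_five _]
      push_cast; ring
    have hval := f.values_ks hM hB hav het
    have hconstK : ∀ k ∈ Kc, ∀ x ∈ (S : Subgroup G), x ≠ 1 →
        (χ : G → ℂ) (k * x) = (χ : G → ℂ) x := fun k hk x hx hx1 => by
      rw [hval k (le_sup_left (b := dsub S) hk) x hx hx1, ← hval 1 (one_mem _) x hx hx1, one_mul]
    obtain ⟨d0, hd0, ⟨h1, hh1⟩, ⟨h2, hh2⟩, ⟨h3, hh3⟩⟩ := f.toCtx.congr_three χ.2.isCharacter
      (e := e) (a := a)
      (fun x hx hx1 => by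
        have := hval 1 (one_mem _) x (f.hs.le hx) hx1
        rwa [one_mul, if_pos hx] at this)
      (fun x hx hxE => hav x (by
        rw [pPt_of_two ⟨2, by rw [f.toCtx.orderOf_four hx hxE]; rfl⟩, f.toCtx.orderOf_four hx hxE]))
      hconstK
    have hne : (χ : G → ℂ) ≠ fun _ => 1 := fun h =>
      (Finset.mem_erase.1 hχP).1 (Subtype.ext h)
    obtain ⟨H, hKH, hSH, hn, hcop, hidx, hexp, hdecH⟩ := f.toCtx.hall
    set KH := (Kc).subgroupOf H with hKHdef
    haveI := hn
    haveI := Fintype.ofFinite H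
    haveI := Fintype.ofFinite KH
    have hχH : IsCharacter H (fun x => (χ : G → ℂ) x) := χ.2.isCharacter.comp H.subtype
    have hcH : ∀ x : H, x ∉ KH → ∀ k ∈ KH, (χ : G → ℂ) ((x * k : H) : G) = (χ : G → ℂ) (x : G) := by
      intro x hx k hk
      obtain ⟨k0, hk0, x0, hx0, hk0x⟩ := hdecH _ x.2
      have hx1 : x0 ≠ 1 := fun h => hx (Subgroup.mem_subgroupOf.2 (by rw [← hk0x, h, mul_one]; exact hk0))
      have hconj : x0 * (k : G) * x0⁻¹ ∈ Kc :=
        f.toCtx.core_conj (f.toCtx.sylow_le_Ct hx0) (Subgroup.mem_subgroupOf.1 hk)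
      rw [Subgroup.coe_mul, ← hk0x, show k0 * x0 * (k : G) = k0 * (x0 * (k : G) * x0⁻¹) * x0 by group,
        hconstK _ (mul_mem hk0 hconj) x0 hx0 hx1, hconstK _ hk0 x0 hx0 hx1]
    obtain ⟨kk, hkk, hkkne⟩ := f.toCtx.faithful (f.toCtx.core_ne hmin) hne
    obtain ⟨d0', n, hd0', hn0, hdeg⟩ := degree_mod KH hcop hχH hcH
      ⟨⟨kk, hKH hkk⟩, Subgroup.mem_subgroupOf.2 hkk, hkkne⟩
    have hdd : d0' = d0 := by
      have e1 : classInner (fun x : KH => (χ : G → ℂ) ((x : H) : G)) (fun _ => (1 : ℂ)) =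
          classInner (fun k : Kc => (χ : G → ℂ) k) (fun _ => (1 : ℂ)) :=
        (Char.classInner_comp_equiv (Subgroup.subgroupOfEquivOfLe hKH)
          (fun k : Kc => (χ : G → ℂ) k) (fun _ => (1 : ℂ)))
      rw [hd0', hd0] at e1
      exact_mod_cast e1
    subst hdd
    rw [hidx] at hdeg
    have hq : qnorm b s a (∑ i, (![r χ 1, r χ 2, r χ 3, r χ 4] : Fin 4 → ℤ) i *
        (![r χ 1, r χ 2, r χ 3, r χ 4] : Fin 4 → ℤ) i) = rowQ (r χ) := by
      simp [rowQ, Fin.sum_univ_four, hb, hs, ha]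
    obtain ⟨hq1, hq2⟩ := rowQ_bound hG hχP
    have hm3 : 188 < 2 * rowQ (r χ) → 3 ≤ n := by
      intro hbig
      by_contra hlt
      obtain ⟨j, hjN, hj20, k, hk⟩ := exists_twist KH hcop hχH hcH (by
          intro p hp hd
          rw [Nat.card_congr (Subgroup.subgroupOfEquivOfLe hKH).toEquiv] at hd
          exact f.core_primes hmin hKc p hp hd)
        hexp hd0' hn0 (by omega) (by rw [hidx]; exact hdeg) (N := 20 * Nat.card G)
        (Nat.mul_ne_zero (by norm_num) Nat.card_pos.ne')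
        (((Subgroup.card_subgroup_dvd_card KH).trans (Subgroup.card_subgroup_dvd_card H)).trans
          (Dvd.intro_left _ rfl)) (Dvd.intro _ rfl)
      have hjG : j.Coprime (Nat.card G) := hjN.coprime_dvd_right (Dvd.intro_left _ rfl)
      set χ' : IrrCharacter G := ⟨fun x => (χ : G → ℂ) (x ^ j), Char.isIrrCharacter_comp_pow hjG χ.2⟩
      have hne' : χ' ≠ χ := fun h => hk (by
        have := congrFun (congrArg Subtype.val h) ((k : H) : G)
        simpa [χ'] using this)
      have hP' : χ' ∈ P := Finset.mem_erase.2 ⟨fun h => hne (by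
        funext x
        obtain ⟨y, rfl⟩ := (Char.powBij_of_coprime hjG).2 x
        exact congrFun (congrArg Subtype.val h) y), Finset.mem_univ _⟩
      have hrow : r χ' = r χ := by
        funext u
        have hA : classInner f.alphaF (χ' : G → ℂ) = classInner f.alphaF (χ : G → ℂ) :=
          f.classInner_pow (a := 16) (f2 := fun _ => 0) hjG hj20 (χ : G → ℂ)
        have hB' : ∀ i, classInner (f.betaF i) (χ' : G → ℂ) = classInner (f.betaF i) (χ : G → ℂ) :=
          fun i => f.classInner_pow (a := 4) (f2 := fun k => 4 * (psi i k - ∑ m, psi m k)) hjG hj20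
            (χ : G → ℂ)
        have e : classInner (f.basis u) (χ' : G → ℂ) = classInner (f.basis u) (χ : G → ℂ) := by
          fin_cases u
          exacts [hB' 0, hB' 1, hB' 2, hB' 3, hB' 4, hA]
        exact Int.cast_inj.1 ((hr χ' u).symm.trans (e.trans (hr χ u)))
      have := hq2 χ' hP' hne' hrow
      omega
    have hh : 0 ≤ (h2 : ℤ) := Int.natCast_nonneg _
    have hcert := cert_bound (b := b) (s := s) (a := a) (d := ((d0' + 64 * n : ℕ) : ℤ)) (h := (h2 : ℤ))
      (m := (n : ℤ)) (c := ![r χ 1, r χ 2, r χ 3, r χ 4]) (by simp [Fin.sum_univ_four, hs])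
      (by rw [hq]; exact hq1) hh (by omega) (by omega) (by omega) (by omega)
      (fun hbig => by rw [hq] at hbig; exact_mod_cast hm3 hbig) (by push_cast; omega)
    obtain ⟨hd, -, hineq⟩ := hcert
    refine ⟨((T χ * (e * e) : ℤ) : ℚ) / ((d0' + 64 * n : ℕ) : ℚ), ?_, ?_⟩
    · simp only [OneMemClass.coe_one] at hdeg
      rw [het, hdeg]; push_cast; ring
    · have hd' : (0 : ℚ) < ((d0' + 64 * n : ℕ) : ℚ) := by exact_mod_cast hd
      rw [mul_div_assoc', div_le_iff₀ hd']
      have : -113 * (T χ * (e * e)) ≤ 6 * rowP (r χ) * ((d0' + 64 * n : ℕ) : ℤ) := by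
        have eT : T χ = 5 * b - (b + s) + 2 * a := by simp only [hT, hb, hs, ha]; ring
        rw [eT, he]
        simp only [rowP, ← hb, ← hs, ← ha]
        linarith [hineq]
      exact_mod_cast this
  choose X hX1 hX2 using key
  have hsumX : ∑ χ : P, X χ χ.2 = -6 := by
    rw [← Finset.add_sum_erase Finset.univ _ (Finset.mem_univ (trivChar G))] at heq
    rw [← Finset.sum_coe_sort P, Finset.sum_congr rfl fun (χ : P) _ => hX1 χ χ.2] at heq
    have hT1 : T (trivChar G) = 6 := by simp [hT, htriv]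
    rw [hT1, trivChar_coe] at heq
    push_cast at heq
    have : ((∑ χ : P, X χ χ.2 : ℚ) : ℂ) = ((-6 : ℚ) : ℂ) := by
      push_cast
      linear_combination heq
    exact_mod_cast this
  have hle : ∑ χ : P, -113 * X χ χ.2 ≤ ∑ χ : P, 6 * (rowP (r χ) : ℚ) :=
    Finset.sum_le_sum fun χ _ => hX2 χ χ.2
  rw [← Finset.mul_sum, hsumX, ← Finset.mul_sum, ← Int.cast_sum,
    Finset.sum_coe_sort P (fun χ => rowP (r χ)), rowP_sum hG] at hle
  norm_num at hle

end Five

end Cfsg.Lib.PiHom.U34
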