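import Cfsg.Agent.Lib.PiHom.U34.Elem
import Cfsg.Agent.Lib.PiHom.U34.Cosets
import Cfsg.Agent.Lib.PiHom.U34.Degree
import Cfsg.Agent.Lib.Char.Linear
import Cfsg.Agent.Lib.Char.Orthogonality

/-!
# The core of `C(t)` extended by the Sylow subgroup

A character constant on the cosets `K s`, `s ≠ 1`, gives linear congruences and a degree formula.
-/

set_option autoImplicit false
set_option linter.unusedSectionVars false
set_option linter.style.haveILetI false

namespace Cfsg.Lib.PiHom.U34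

open Cfsg Cfsg.Lib Cfsg.Lib.Block
open scoped ComplexConjugate Classical Pointwise

universe u

variable {G : Type u} [Group G] [Fintype G] {Kc : Subgroup G}

namespace Ctx

variable {S : Sylow 2 G} {E : Subgroup G} {t : G} (c : Ctx Kc S E t)
include c

theorem ks_normalize {T : Subgroup G} (hT : T ≤ (S : Subgroup G)) :
    T ≤ Subgroup.normalizer (Kc : Set G) :=
  (hT.trans c.sylow_le_Ct).trans c.normal

theorem core_inf {x : G} (hx : x ∈ Kc) (hxS : x ∈ (S : Subgroup G)) : x = 1 :=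
  c.lsub_inf (le_sup_left (b := dsub S) hx) hxS

theorem mem_ks {T : Subgroup G} (hT : T ≤ (S : Subgroup G)) {x : G} :
    x ∈ Kc ⊔ T ↔ ∃ k ∈ Kc, ∃ s ∈ T, k * s = x := by
  rw [← SetLike.mem_coe, Subgroup.coe_mul_of_right_le_normalizer_left _ _ (c.ks_normalize hT)]
  simp [Set.mem_mul]

theorem ks_unique {k k' s s' : G} (hk : k ∈ Kc) (hk' : k' ∈ Kc)
    (hs : s ∈ (S : Subgroup G)) (hs' : s' ∈ (S : Subgroup G)) (h : k * s = k' * s') :
    k = k' ∧ s = s' :=
  c.ls_unique (le_sup_left (b := dsub S) hk) (le_sup_left (b := dsub S) hk') hs hs' h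

/-- A linear character of a subgroup of `S` against a character constant on the cosets. -/
theorem linear_congr {T : Subgroup G} (hT : T ≤ (S : Subgroup G)) (μ : T →* ℂˣ) {χ : G → ℂ}
    (hχ : IsCharacter G χ)
    (hc : ∀ k ∈ Kc, ∀ s ∈ (S : Subgroup G), s ≠ 1 → χ (k * s) = χ s) :
    ∃ h : ℕ, classInner (fun k : Kc => χ k) (fun _ => 1) +
      ∑ s ∈ Finset.univ.filter (fun s : T => s ≠ 1), χ s * conj (μ s : ℂ) =
        (Nat.card T : ℂ) * h := by
  set K := Kc
  set H := K ⊔ T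
  have hmem : ∀ x : H, ∃ p : K × T, (p.1 : G) * (p.2 : G) = x := fun x => by
    obtain ⟨k, hk, s, hs, e⟩ := (c.mem_ks hT).1 x.2
    exact ⟨(⟨k, hk⟩, ⟨s, hs⟩), e⟩
  let φ : K × T → H := fun p => ⟨(p.1 : G) * p.2, (c.mem_ks hT).2 ⟨_, p.1.2, _, p.2.2, rfl⟩⟩
  have hinj : Function.Injective φ := fun p q h => by
    obtain ⟨h1, h2⟩ := c.ks_unique p.1.2 q.1.2 (hT p.2.2) (hT q.2.2) (congrArg Subtype.val h)
    exact Prod.ext (Subtype.ext h1) (Subtype.ext h2)
  have hsurj : Function.Surjective φ := fun x => by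
    obtain ⟨p, hp⟩ := hmem x
    exact ⟨p, Subtype.ext hp⟩
  choose dec hdec using hmem
  have hdec' : ∀ (k : K) (s : T), dec (φ (k, s)) = (k, s) := fun k s =>
    hinj (Subtype.ext (hdec _))
  let ν : H →* ℂˣ :=
    { toFun := fun x => μ (dec x).2
      map_one' := by
        rw [show (1 : H) = φ (1, 1) from Subtype.ext (by simp [φ]), hdec', map_one]
      map_mul' := fun x y => by
        have hconj : ((dec x).2 : G) * ((dec y).1 : G) * ((dec x).2 : G)⁻¹ ∈ K :=
          (Subgroup.mem_normalizer_iff.1 (c.ks_normalize hT (dec x).2.2) _).1 (dec y).1.2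
        rw [show x * y = φ (⟨((dec x).1 : G) * (((dec x).2 : G) * ((dec y).1 : G) * ((dec x).2 : G)⁻¹),
          mul_mem (dec x).1.2 hconj⟩, (dec x).2 * (dec y).2) from Subtype.ext (by
            simp only [φ, Subgroup.coe_mul]
            conv_lhs => rw [← hdec x, ← hdec y]
            group), hdec', map_mul] }
  obtain ⟨h, hh⟩ := (hχ.comp H.subtype).exists_nat_classInner (Char.isIrrCharacter_linear ν).isCharacter
  refine ⟨h, ?_⟩
  have hcard : Nat.card H = Nat.card K * Nat.card T := by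
    rw [← Nat.card_congr (Equiv.ofBijective φ ⟨hinj, hsurj⟩), Nat.card_prod]
  have hK : (Nat.card K : ℂ) ≠ 0 := Char.card_cast_ne_zero
  have hTn : (Nat.card T : ℂ) ≠ 0 := Char.card_cast_ne_zero
  have hν : ∀ p : K × T, (ν (φ p) : ℂ) = μ p.2 := fun p => by
    show ((μ (dec (φ (p.1, p.2))).2 : ℂˣ) : ℂ) = _
    rw [hdec']
  rw [classInner, ← Fintype.sum_equiv (Equiv.ofBijective φ ⟨hinj, hsurj⟩)
    (fun p : K × T => χ ((p.1 : G) * p.2) * conj (μ p.2 : ℂ)) _ (fun p => by
      show _ = χ ((p.1 : G) * p.2) * conj (ν (φ p) : ℂ)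
      rw [hν]),
    Fintype.sum_prod_type_right, hcard,
    ← Finset.sum_filter_add_sum_filter_not Finset.univ (fun s : T => s = 1),
    Finset.filter_eq', if_pos (Finset.mem_univ _), Finset.sum_singleton,
    Finset.sum_congr rfl (fun s hs => Finset.sum_congr rfl fun k _ => by
      rw [hc k k.2 s (hT s.2) (fun e => (Finset.mem_filter.1 hs).2 (Subtype.ext e))])] at hh
  simp only [OneMemClass.coe_one, mul_one, map_one, Units.val_one, Finset.sum_const, Finset.card_univ,
    ← Finset.smul_sum, nsmul_eq_mul, ← Nat.card_eq_fintype_card] at hh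
  simp only [classInner, map_one, mul_one]
  rw [← hh]
  push_cast
  field_simp
  simp only [ne_eq, Finset.mul_sum, mul_assoc]

theorem core_card_odd : ¬ 2 ∣ Nat.card (Kc) := fun h =>
  Nat.not_even_iff_odd.2 c.core_odd (even_iff_two_dvd.2 h)

theorem pi_three {π : Set ℕ} (hmin : Min π G) : 3 ∈ π := by
  obtain ⟨a, b, d, ha, hb, hd, ha1, hb1, -, hab, -, -, -⟩ := c.hs.exists_three
  obtain ⟨s, hs, hs1, hst⟩ : ∃ s ∈ E, s ≠ 1 ∧ s ≠ t := by
    by_cases h : a = t
    · exact ⟨b, hb, hb1, fun e => hab (h.trans e.symm)⟩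
    · exact ⟨a, ha, ha1, h⟩
  obtain ⟨o, hon, hoo, hot⟩ := c.odd_trans hs hs1
  by_contra hn
  set o3 := o ^ (orderOf o / 3 ^ (orderOf o).factorization 3)
  have hord : orderOf o3 = 3 ^ (orderOf o).factorization 3 :=
    orderOf_pow_orderOf_div (orderOf_pos o).ne' (Nat.ordProj_dvd _ _)
  have hco : CoPi π o3 := fun p hp hd => by
    rw [hord] at hd
    rwa [(Nat.prime_dvd_prime_iff_eq hp (by norm_num)).1 (hp.dvd_of_dvd_pow hd)]
  have hcen := Subgroup.mem_centralizer_iff.1 (hmin.toHyp.coPi_centralizes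
    (piGrp_of_two hmin.toHyp.two S.isPGroup') hco (pow_mem hon _)) s (c.hs.le hs)
  -- some power of `o` of order prime to three moves `s` to `t`
  set m := orderOf o / 3 ^ (orderOf o).factorization 3
  have hm3 : ¬ 3 ∣ m := Nat.not_dvd_ordCompl (by norm_num) (orderOf_pos o).ne'
  have hfix : ∀ x ∈ E, Commute o3 x := fun x hx =>
    (Subgroup.mem_centralizer_iff.1 (hmin.toHyp.coPi_centralizes
      (piGrp_of_two hmin.toHyp.two S.isPGroup') hco (pow_mem hon _)) x (c.hs.le hx)).symm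
  let σ : Equiv.Perm E := Equiv.ofBijective (fun x => ⟨o * (x : G) * o⁻¹, c.E_normalized hon x.2⟩)
    (Finite.injective_iff_bijective.1 fun x y h =>
      Subtype.ext (mul_left_cancel (mul_right_cancel (congrArg Subtype.val h))))
  have hσ : ∀ (n : ℕ) (x : E), ((σ ^ n) x : G) = o ^ n * (x : G) * (o ^ n)⁻¹ := by
    intro n
    induction n with
    | zero => simp
    | succ n ih =>
      intro x
      rw [pow_succ, Equiv.Perm.mul_apply, ih]
      show o ^ n * (o * (x : G) * o⁻¹) * (o ^ n)⁻¹ = _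
      rw [pow_succ]; group
  have hd1 : orderOf σ ∣ m := orderOf_dvd_of_pow_eq_one (Equiv.ext fun x => Subtype.ext (by
    rw [hσ, Equiv.Perm.one_apply]
    show o3 * (x : G) * o3⁻¹ = x
    rw [(hfix x x.2).eq, mul_inv_cancel_right]))
  have hd2 : orderOf σ ∣ 24 := by
    refine (orderOf_dvd_natCard σ).trans ?_
    rw [Nat.card_perm, c.hs.cardE]
    decide
  have hd3 : Odd (orderOf σ) := hoo.of_dvd_nat (orderOf_dvd_of_pow_eq_one (Equiv.ext fun x =>
    Subtype.ext (by rw [hσ, pow_orderOf_eq_one, one_mul, inv_one, mul_one, Equiv.Perm.one_apply])))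
  have h1 : orderOf σ = 1 := by
    have hn3 : ¬ 3 ∣ orderOf σ := fun h => hm3 (h.trans hd1)
    have hle := Nat.le_of_dvd (by norm_num) hd2
    interval_cases horder : orderOf σ <;> first | omega | (rw [Nat.odd_iff] at hd3; omega)
  have := hσ 1 ⟨s, hs⟩
  rw [orderOf_eq_one_iff.1 h1, one_pow, Equiv.Perm.one_apply, pow_one, hot] at this
  exact hst this

/-- The Hall subgroup inside `K S`. -/
theorem hall :
    ∃ (H : Subgroup G) (_ : Kc ≤ H), (S : Subgroup G) ≤ H ∧
      ((Kc).subgroupOf H).Normal ∧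
      (Nat.card ((Kc).subgroupOf H)).Coprime ((Kc).subgroupOf H).index ∧
      ((Kc).subgroupOf H).index = 64 ∧
      (∀ x : H, x ^ 4 ∈ (Kc).subgroupOf H) ∧
      (∀ x ∈ H, ∃ k ∈ Kc, ∃ s ∈ (S : Subgroup G), k * s = x) := by
  set K := Kc
  set H := K ⊔ (S : Subgroup G)
  have hn : (K.subgroupOf H).Normal := Subgroup.normal_subgroupOf_of_le_normalizer
    (sup_le Subgroup.le_normalizer (c.ks_normalize le_rfl))
  let φ : K × (S : Subgroup G) → H := fun p =>
    ⟨(p.1 : G) * p.2, (c.mem_ks le_rfl).2 ⟨_, p.1.2, _, p.2.2, rfl⟩⟩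
  have hb : Function.Bijective φ := by
    refine ⟨fun p q h => ?_, fun x => ?_⟩
    · obtain ⟨h1, h2⟩ := c.ks_unique p.1.2 q.1.2 p.2.2 q.2.2 (congrArg Subtype.val h)
      exact Prod.ext (Subtype.ext h1) (Subtype.ext h2)
    · obtain ⟨k, hk, s, hs, e⟩ := (c.mem_ks le_rfl).1 x.2
      exact ⟨(⟨k, hk⟩, ⟨s, hs⟩), Subtype.ext e⟩
  have hcardK : Nat.card (K.subgroupOf H) = Nat.card K :=
    Nat.card_congr (Subgroup.subgroupOfEquivOfLe le_sup_left).toEquiv
  have hidx : (K.subgroupOf H).index = 64 := by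
    have h := (K.subgroupOf H).card_mul_index
    rw [← Nat.card_congr (Equiv.ofBijective φ hb), Nat.card_prod, hcardK, c.hs.cardS] at h
    exact Nat.eq_of_mul_eq_mul_left Nat.card_pos h
  refine ⟨H, le_sup_left, le_sup_right, hn, ?_, hidx, fun x => ?_, fun x hx => (c.mem_ks le_rfl).1 hx⟩
  · rw [hidx, hcardK, show (64 : ℕ) = 2 ^ 6 from rfl]
    exact (((Nat.Prime.coprime_iff_not_dvd Nat.prime_two).2 c.core_card_odd).symm).pow_right 6
  · rw [Subgroup.mem_subgroupOf, SubmonoidClass.coe_pow]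
    obtain ⟨k, hk, s, hs, e⟩ := (c.mem_ks le_rfl).1 x.2
    have key : ∀ n : ℕ, ∃ k' ∈ K, (k * s) ^ n = k' * s ^ n := by
      intro n
      induction n with
      | zero => exact ⟨1, one_mem _, by simp⟩
      | succ n ih =>
        obtain ⟨k', hk', e⟩ := ih
        refine ⟨k' * (s ^ n * k * (s ^ n)⁻¹), mul_mem hk'
          (c.core_conj (c.sylow_le_Ct (pow_mem hs n)) hk), ?_⟩
        rw [pow_succ, e, pow_succ]; group
    obtain ⟨k', hk', e'⟩ := key 4
    rw [← e, e', show s ^ 4 = (s * s) * (s * s) by simp only [pow_succ, pow_zero, one_mul, mul_assoc],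
      c.hs.esq _ (c.hs.sq s hs), mul_one]
    exact hk'

end Ctx

end Cfsg.Lib.PiHom.U34
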