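import Cfsg.Agent.Lib.PiHom.U34.Gram
import Cfsg.Agent.Lib.PiHom.U34.Hall

/-!
# Characters of the principal block in case five

Values on the cosets of the core, the degree formula and the Galois twist.
-/

set_option autoImplicit false
set_option linter.unusedSectionVars false
set_option linter.style.haveILetI false

namespace Cfsg.Lib.PiHom.U34

open Cfsg Cfsg.Lib Cfsg.Lib.Block
open scoped ComplexConjugate Classical

universe u

variable {G : Type u} [Group G] [Fintype G] {Kc : Subgroup G}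

theorem theta_linear (S : Sylow 2 G) (t g : G) (a b : ℂ) (f4 h4 : G → ℂ) (f2 h2 : ZMod 5 → ℂ) :
    a • theta Kc S t g f4 f2 + b • theta Kc S t g h4 h2 =
      theta Kc S t g (fun x => a * f4 x + b * h4 x) (fun k => a * f2 k + b * h2 k) := by
  funext x
  simp only [Pi.add_apply, Pi.smul_apply, smul_eq_mul, theta]
  split_ifs <;> ring

/-- A nontrivial linear character of a commutative quotient. -/
theorem exists_linear {T : Type u} [Group T] [Finite T] (N : Subgroup T) [N.Normal]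
    (hc : ∀ a b : T, a * b * a⁻¹ * b⁻¹ ∈ N) (hN : 2 ≤ N.index) :
    ∃ μ : T →* ℂˣ, (∀ x ∈ N, μ x = 1) ∧ μ ≠ 1 := by
  letI : CommGroup (T ⧸ N) :=
    { (inferInstance : Group (T ⧸ N)) with
      mul_comm := fun x y => by
        obtain ⟨a, rfl⟩ := QuotientGroup.mk_surjective x
        obtain ⟨b, rfl⟩ := QuotientGroup.mk_surjective y
        rw [← QuotientGroup.mk_mul, ← QuotientGroup.mk_mul, QuotientGroup.eq]
        have := hc b⁻¹ a⁻¹
        simpa [mul_assoc] using this }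
  have hcard : 1 < Nat.card ((T ⧸ N) →* ℂˣ) := by
    rw [Char.card_monoidHom_units, ← Subgroup.index_eq_card]; omega
  haveI := Finite.one_lt_card_iff_nontrivial.1 hcard
  obtain ⟨ψ, hψ⟩ := exists_ne (1 : (T ⧸ N) →* ℂˣ)
  refine ⟨ψ.comp (QuotientGroup.mk' N), fun x hx => ?_, fun h => hψ ?_⟩
  · rw [MonoidHom.comp_apply, QuotientGroup.mk'_apply, (QuotientGroup.eq_one_iff x).2 hx, map_one]
  · refine MonoidHom.ext fun q => ?_
    obtain ⟨x, rfl⟩ := QuotientGroup.mk_surjective q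
    exact DFunLike.congr_fun h x

theorem sum_conj_hom {T : Type u} [Group T] [Fintype T] (μ : T →* ℂˣ) (h : μ ≠ 1) :
    ∑ x : T, conj (μ x : ℂ) = 0 := by
  rw [← map_sum]
  obtain ⟨y, hy⟩ : ∃ y, μ y ≠ 1 := by
    by_contra hcon
    push Not at hcon
    exact h (MonoidHom.ext hcon)
  have h1 : (μ y : ℂ) * ∑ x : T, (μ x : ℂ) = ∑ x : T, (μ x : ℂ) := by
    rw [Finset.mul_sum]
    exact Fintype.sum_equiv (Equiv.mulLeft y) _ _ fun x => by
      rw [Equiv.coe_mulLeft, map_mul, Units.val_mul]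
  have h2 : ((μ y : ℂ) - 1) * ∑ x : T, (μ x : ℂ) = 0 := by linear_combination h1
  rw [(mul_eq_zero.1 h2).resolve_left (sub_ne_zero.2 fun e => hy (Units.ext e)), map_zero]

namespace Ctx

variable {S : Sylow 2 G} {E : Subgroup G} {t : G} (c : Ctx Kc S E t)
include c

/-- The two congruences from the linear characters of `S` and the one from those of `E`. -/
theorem congr_three {χ : G → ℂ} (hχ : IsCharacter G χ) {e a : ℤ}
    (he : ∀ s ∈ E, s ≠ 1 → χ s = e) (ha : ∀ s ∈ (S : Subgroup G), s ∉ E → χ s = a)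
    (hc : ∀ k ∈ Kc, ∀ s ∈ (S : Subgroup G), s ≠ 1 → χ (k * s) = χ s) :
    ∃ d0 : ℕ, classInner (fun k : Kc => χ k) (fun _ => 1) = d0 ∧
      (∃ h : ℕ, (d0 : ℤ) + 3 * e + 60 * a = 64 * h) ∧
      (∃ h : ℕ, (d0 : ℤ) + 3 * e - 4 * a = 64 * h) ∧
      ∃ h : ℕ, (d0 : ℤ) - e = 4 * h := by
  obtain ⟨d0, hd0⟩ := (hχ.comp (Kc).subtype).exists_nat_classInner
    (Char.isCharacter_one (G := Kc))
  refine ⟨d0, hd0, ?_⟩
  replace hd0 : classInner (fun k : Kc => χ k) (fun _ => 1) = (d0 : ℂ) := hd0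
  set Z := E.subgroupOf (S : Subgroup G)
  haveI : Z.Normal := ⟨fun z hz x => Subgroup.mem_subgroupOf.2 (by
    simp only [Subgroup.coe_mul, InvMemClass.coe_inv]
    rw [← (c.hs.central _ (Subgroup.mem_subgroupOf.1 hz) _ x.2).eq, mul_inv_cancel_right]
    exact Subgroup.mem_subgroupOf.1 hz)⟩
  have hcardZ : Nat.card Z = 4 := by
    rw [Nat.card_congr (Subgroup.subgroupOfEquivOfLe c.hs.le).toEquiv, c.hs.cardE]
  have hidx : Z.index = 16 := by
    have := Z.card_mul_index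
    rw [hcardZ, c.hs.cardS] at this
    omega
  have hsplit : ∀ μ : (S : Subgroup G) →* ℂˣ, (∀ z ∈ Z, μ z = 1) →
      ∑ s ∈ Finset.univ.filter (fun s : (S : Subgroup G) => s ≠ 1), χ s * conj (μ s : ℂ) =
        3 * (e : ℂ) + (a : ℂ) * (∑ s, conj (μ s : ℂ) - 4) := by
    intro μ hμ
    have h1 : ∑ s : (S : Subgroup G), conj (μ s : ℂ) =
        ∑ s ∈ Finset.univ.filter (fun s => s ∉ Z), conj (μ s : ℂ) + 4 := by
      rw [← Finset.sum_filter_add_sum_filter_not Finset.univ (fun s => s ∉ Z)]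
      congr 1
      rw [Finset.sum_congr rfl fun s hs => by
        rw [hμ s (not_not.1 (Finset.mem_filter.1 hs).2), Units.val_one, map_one], Finset.sum_const,
        nsmul_eq_mul, mul_one]
      have : (Finset.univ.filter fun s => ¬ s ∉ Z).card = 4 := by
        rw [← Fintype.card_subtype, ← Nat.card_eq_fintype_card, ← hcardZ]
        exact Nat.card_congr (Equiv.subtypeEquivRight fun s => not_not)
      rw [this]; norm_num
    rw [h1, add_sub_cancel_right, ← Finset.sum_filter_add_sum_filter_not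
      (Finset.univ.filter fun s : (S : Subgroup G) => s ≠ 1) (fun s => s ∈ Z), Finset.filter_filter,
      Finset.filter_filter]
    congr 1
    · rw [Finset.sum_congr rfl fun s hs => by
        obtain ⟨-, hs1, hsZ⟩ := Finset.mem_filter.1 hs
        rw [he s (Subgroup.mem_subgroupOf.1 hsZ) (fun h => hs1 (Subtype.ext h)), hμ s hsZ, Units.val_one,
          map_one, mul_one], Finset.sum_const, nsmul_eq_mul]
      have : (Finset.univ.filter fun s : (S : Subgroup G) => s ≠ 1 ∧ s ∈ Z).card = 3 := by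
        rw [show (Finset.univ.filter fun s : (S : Subgroup G) => s ≠ 1 ∧ s ∈ Z) =
          (Finset.univ.filter fun s => s ∈ Z).erase 1 by ext; simp, Finset.card_erase_of_mem
            (by simp [one_mem]), ← Fintype.card_subtype, ← Nat.card_eq_fintype_card, hcardZ]
      rw [this]; norm_num
    · rw [Finset.mul_sum]
      refine Finset.sum_congr (Finset.filter_congr fun s _ =>
        ⟨fun h => h.2, fun h => ⟨fun h1 => h (by rw [h1]; exact one_mem _), h⟩⟩) fun s hs => ?_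
      rw [ha s s.2 fun h => (Finset.mem_filter.1 hs).2 (Subgroup.mem_subgroupOf.2 h)]
  obtain ⟨h1, hh1⟩ := c.linear_congr le_rfl (1 : (S : Subgroup G) →* ℂˣ) hχ hc
  obtain ⟨μ, hμ, hμ1⟩ := exists_linear Z
    (fun x y => Subgroup.mem_subgroupOf.2 (c.hs.comm _ x.2 _ y.2)) (by omega)
  obtain ⟨h2, hh2⟩ := c.linear_congr le_rfl μ hχ hc
  obtain ⟨ν, -, hν1⟩ := exists_linear (⊥ : Subgroup E)
    (fun x y => Subgroup.mem_bot.2 (Subtype.ext (by
      show (x : G) * y * (x : G)⁻¹ * (y : G)⁻¹ = 1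
      rw [(c.hs.central _ x.2 _ (c.hs.le y.2)).eq, mul_inv_cancel_right, mul_inv_cancel])))
    (by rw [Subgroup.index_bot, c.hs.cardE]; norm_num)
  obtain ⟨h3, hh3⟩ := c.linear_congr c.hs.le ν hχ hc
  rw [hd0, hsplit 1 (fun _ _ => rfl), c.hs.cardS] at hh1
  rw [hd0, hsplit μ hμ, sum_conj_hom μ hμ1, c.hs.cardS] at hh2
  have hsum3 : ∑ s ∈ Finset.univ.filter (fun s : E => s ≠ 1), χ s * conj (ν s : ℂ) = -(e : ℂ) := by
    have h0 := sum_conj_hom ν hν1
    rw [← Finset.add_sum_erase Finset.univ _ (Finset.mem_univ (1 : E)), map_one, Units.val_one, map_one,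
      ← Finset.filter_ne'] at h0
    rw [Finset.sum_congr rfl fun (s : E) hs => by
      rw [he s s.2 (fun h => (Finset.mem_filter.1 hs).2 (Subtype.ext h))], ← Finset.mul_sum]
    linear_combination (e : ℂ) * h0
  rw [hd0, hsum3, c.hs.cardE] at hh3
  refine ⟨⟨h1, ?_⟩, ⟨h2, ?_⟩, ⟨h3, ?_⟩⟩
  · have hs : ∑ s : (S : Subgroup G), conj (((1 : (S : Subgroup G) →* ℂˣ) s : ℂˣ) : ℂ) = 64 := by
      simp [← Nat.card_eq_fintype_card, c.hs.cardS]
    rw [hs] at hh1
    have : (((d0 : ℤ) + 3 * e + 60 * a : ℤ) : ℂ) = ((64 * h1 : ℤ) : ℂ) := by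
      push_cast; push_cast at hh1; linear_combination hh1
    exact_mod_cast this
  · have : (((d0 : ℤ) + 3 * e - 4 * a : ℤ) : ℂ) = ((64 * h2 : ℤ) : ℂ) := by
      push_cast; push_cast at hh2; linear_combination hh2
    exact_mod_cast this
  · have : (((d0 : ℤ) - e : ℤ) : ℂ) = ((4 * h3 : ℤ) : ℂ) := by
      push_cast; push_cast at hh3; linear_combination hh3
    exact_mod_cast this

theorem faithful (hK : Kc ≠ ⊥) {χ : IrrCharacter G} (hχ : (χ : G → ℂ) ≠ fun _ => 1) :
    ∃ k ∈ Kc, (χ : G → ℂ) k ≠ (χ : G → ℂ) 1 := by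
  obtain ⟨k, hk, hk1⟩ := (Subgroup.bot_or_exists_ne_one _).resolve_left hK
  refine ⟨k, hk, fun h => ?_⟩
  haveI := c.simple
  have hmem : k ∈ Char.charKer χ.2.isCharacter := (Char.mem_charKer χ.2.isCharacter).2 h
  rcases (Char.charKer_normal χ.2.isCharacter).eq_bot_or_eq_top with hb | ht
  · rw [hb, Subgroup.mem_bot] at hmem
    exact hk1 hmem
  · have hconst : ∀ x, (χ : G → ℂ) x = (χ : G → ℂ) 1 := fun x =>
      (Char.mem_charKer χ.2.isCharacter).1 (ht ▸ Subgroup.mem_top x)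
    have h0 := Char.classInner_irr_ne χ.2 Char.isIrrCharacter_one hχ
    rw [classInner, Finset.sum_congr rfl fun x _ => by rw [hconst x]] at h0
    simp [Char.card_cast_ne_zero, χ.2.apply_one_ne_zero] at h0

end Ctx

namespace Five

variable {S : Sylow 2 G} {E : Subgroup G} {t g : G} (f : Five Kc S E t g)
include f

theorem theta_pow {a : ℂ} {f2 : ZMod 5 → ℂ} {j : ℕ} (hj : j.Coprime (Nat.card G))
    (hj20 : j ≡ 1 [MOD 20]) (x : G) :
    theta Kc S t g (fun _ => a) f2 (x ^ j) = theta Kc S t g (fun _ => a) f2 x := by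
  have hi := f.inv_const a f2
  have h4 : j ≡ 1 [MOD 4] := hj20.of_dvd (by norm_num)
  have hp : pPt 2 x ^ j = pPt 2 x := by
    conv_rhs => rw [← pow_one (pPt 2 x)]
    rw [pow_eq_pow_iff_modEq]
    rcases f.toCtx.order_cases (exists_orderOf_pPt (p := 2) x) with h | h | h
    · rw [h, orderOf_one]; exact Nat.modEq_one
    · rw [h]; exact h4.of_dvd (by norm_num)
    · rw [h]; exact h4
  have hP : pPt 2 (x ^ j) = pPt 2 x := by
    obtain ⟨k, hk⟩ := exists_orderOf_pPt (p := 2) x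
    refine (eq_pPt (y := pReg 2 x ^ j) ?_ ?_ hk ?_).symm
    · conv_lhs => rw [← hp, ← (pPt_commute_pReg x).mul_pow, pPt_mul_pReg]
    · exact (pPt_commute_pReg x).pow_right j
    · exact fun h => not_dvd_orderOf_pReg x (h.trans (orderOf_pow_dvd j))
  have hR : pReg 2 (x ^ j) = pReg 2 x ^ j := by
    refine mul_left_cancel (a := pPt 2 (x ^ j)) ?_
    rw [pPt_mul_pReg, hP]
    conv_rhs => rw [← hp, ← (pPt_commute_pReg x).mul_pow, pPt_mul_pReg]
  rcases f.toCtx.order_cases (exists_orderOf_pPt (p := 2) x) with h | h | h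
  · rw [f.toCtx.theta_one (hP.trans h), f.toCtx.theta_one h]
  · obtain ⟨y, hy⟩ := f.toCtx.exists_conj_t h
    rw [f.toCtx.theta_two hi (x := x ^ j) (y := y) (by rw [hP]; exact hy), f.toCtx.theta_two hi hy, hR,
      ← conj_pow]
    congr 1
    have hr : y * pReg 2 x * y⁻¹ ∈ Ct t := mem_Ct.2 (by
      have := ((pPt_commute_pReg (p := 2) x).symm).map (MulAut.conj y).toMonoidHom
      simp only [MulEquiv.toMonoidHom_eq_coe, MonoidHom.coe_coe, MulAut.conj_apply] at this
      rwa [hy] at this)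
    have key : ∀ n : ℕ, kidx Kc S t g ((y * pReg 2 x * y⁻¹) ^ n) =
        n * kidx Kc S t g (y * pReg 2 x * y⁻¹) := by
      intro n
      induction n with
      | zero => rw [pow_zero, f.kidx_lsub (one_mem _)]; simp
      | succ n ih => rw [pow_succ, f.kidx_mul (pow_mem hr n) hr, ih]; push_cast; ring
    rw [key, (ZMod.natCast_eq_natCast_iff j 1 5).2 (hj20.of_dvd (by norm_num)), Nat.cast_one, one_mul]
  · obtain ⟨y, hy⟩ := f.toCtx.exists_conj_mem (exists_orderOf_pPt (p := 2) x)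
    rw [f.toCtx.theta_four hi (x := x ^ j) (y := y) (by rw [hP]; exact h) (by rw [hP]; exact hy),
      f.toCtx.theta_four hi h hy]

theorem classInner_pow {a : ℂ} {f2 : ZMod 5 → ℂ} {j : ℕ} (hj : j.Coprime (Nat.card G))
    (hj20 : j ≡ 1 [MOD 20]) (χ : G → ℂ) :
    classInner (theta Kc S t g (fun _ => a) f2) (fun x => χ (x ^ j)) =
      classInner (theta Kc S t g (fun _ => a) f2) χ := by
  simp only [classInner]
  congr 1
  exact Fintype.sum_bijective _ (Char.powBij_of_coprime hj) _ _ fun x => by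
    rw [f.theta_pow hj hj20 x]

theorem pi_five {π : Set ℕ} (hmin : Min π G) : 5 ∈ π := by
  by_contra h5
  set m := orderOf g / 5 ^ (orderOf g).factorization 5
  have hord : orderOf (g ^ m) = 5 ^ (orderOf g).factorization 5 :=
    orderOf_pow_orderOf_div (orderOf_pos g).ne' (Nat.ordProj_dvd _ _)
  have hco : CoPi π (g ^ m) := fun p hp hd => by
    rw [hord] at hd
    rwa [(Nat.prime_dvd_prime_iff_eq hp (by norm_num)).1 (hp.dvd_of_dvd_pow hd)]
  have hm : ¬ 5 ∣ m := Nat.not_dvd_ordCompl (by norm_num) (orderOf_pos g).ne'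
  obtain ⟨x, hx, hxE⟩ := f.exists_outside
  exact hxE (f.fix_pow hm hx (Subgroup.mem_centralizer_iff.1 (hmin.toHyp.coPi_centralizes
    (piGrp_of_two hmin.toHyp.two S.isPGroup') hco (pow_mem f.g_norm m)) x hx).symm)

theorem core_primes {π : Set ℕ} (hmin : Min π G) (hKc : Kc = core π (Ct t)) : ∀ p : ℕ, p.Prime → p ∣ Nat.card (Kc) → p ≠ 2 ∧ p ≠ 3 ∧ p ≠ 5 := by
  intro p hp hd
  rw [hKc] at hd
  haveI := Fact.mk hp
  obtain ⟨x, hx⟩ := exists_prime_orderOf_dvd_card' p hd
  have hpi := ((hmin.mem_core f.toCtx.Ct_ne_top).1 x.2).2 p hp (by rw [Subgroup.orderOf_coe, hx])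
  exact ⟨fun h => hpi (h ▸ hmin.toHyp.two), fun h => hpi (h ▸ f.toCtx.pi_three hmin),
    fun h => hpi (h ▸ f.pi_five hmin)⟩

variable {M : Ideal AlgInt} (hM : IsPModular 2 M)
include hM

/-- The values on the cosets of the core. -/
theorem values_ks {χ : IrrCharacter G} (hχ : χ ∈ principalBlock M G) {a e : ℤ}
    (ha : ∀ x : G, orderOf (pPt 2 x) = 4 → (χ : G → ℂ) x = a) (he : (χ : G → ℂ) t = e) :
    ∀ l ∈ lsub Kc S t, ∀ s ∈ (S : Subgroup G), s ≠ 1 →
      (χ : G → ℂ) (l * s) = if s ∈ E then (e : ℂ) else a := by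
  intro l hl s hs hs1
  obtain ⟨⟨m, hm, hw⟩, hr⟩ := f.toCtx.pPt_ls hl hs
  by_cases hsE : s ∈ E
  swap
  · rw [if_neg hsE, ha _ (by rw [hw, orderOf_conj', f.toCtx.orderOf_four hs hsE])]
  rw [if_pos hsE, ← he]
  obtain ⟨o, hon, hoo, hot⟩ := f.toCtx.odd_trans hsE hs1
  set q := m⁻¹ * pReg 2 (l * s) * m with hq
  have hqL : q ∈ lsub Kc S t := mul_mem (mul_mem (inv_mem hm) hr) hm
  have hqs : Commute q s := by
    have := ((pPt_commute_pReg (p := 2) (l * s)).symm).map (MulAut.conj m⁻¹).toMonoidHom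
    simpa [hw, hq, mul_assoc] using this
  have hqo : o * q * o⁻¹ ∈ lsub Kc S t := by
    by_cases hst : s = t
    · have hoC : o ∈ Ct t := mem_Ct.2 (mul_inv_eq_iff_eq_mul.1 (hst ▸ hot))
      exact f.toCtx.lsub_conj hoC hqL
    · have hqE : ∀ x ∈ E, Commute q x := f.toCtx.commute_E hsE f.ht hs1 f.ht1 hst hqs
        (mem_Ct.1 (f.toCtx.lsub_le hqL))
      refine f.odd_kidx_zero (mem_Ct.2 ?_) (by rw [orderOf_conj']; exact f.toCtx.lsub_odd hqL)
        (by rw [f.kidx_equivariant hon hoo hqE, f.kidx_lsub hqL])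
      have h1 := (hqs.map (MulAut.conj o).toMonoidHom)
      simp only [MulEquiv.toMonoidHom_eq_coe, MonoidHom.coe_coe, MulAut.conj_apply] at h1
      rwa [hot] at h1
  have e1 : l * s = m * (o⁻¹ * (t * (o * q * o⁻¹)) * o⁻¹⁻¹) * m⁻¹ := by
    conv_lhs => rw [← pPt_mul_pReg (p := 2) (l * s), hw]
    rw [← hot, hq]; group
  rw [e1, χ.2.isClassFunction, χ.2.isClassFunction, f.toCtx.principal_t hM hχ hqo]

end Five

end Cfsg.Lib.PiHom.U34
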