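import Cfsg.Agent.Lib.Char.AbelianInertia
import Cfsg.Agent.Lib.Char.InvolutionSetSum

/-!
# General character facts

A character constant on the cosets of a normal Hall subgroup `K` outside `K` has, over each nontrivial
orbit of irreducible characters of `K`, a multiple of the index of `K` as total multiplicity.
-/

set_option autoImplicit false
set_option linter.unusedSectionVars false
set_option linter.style.haveILetI false

namespace Cfsg.Lib.PiHom.U34

open Cfsg Cfsg.Lib
open scoped ComplexConjugate

universe u

variable {G : Type u} [Group G] [Fintype G]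

/-- An irreducible character restricting to a nontrivial irreducible one sums to zero on cosets. -/
theorem coset_sum_eq_zero (N : Subgroup G) [N.Normal] [Fintype N] {η : G → ℂ}
    (hη : IsIrrCharacter G η) (h0 : ∑ n : N, η n = 0) (g : G) : ∑ n : N, η (g * n) = 0 := by
  classical
  have h := Char.sum_conjClosed_char (I := Finset.univ.filter (· ∈ N))
    (fun k x hx => by
      rw [Finset.mem_filter] at hx ⊢
      exact ⟨Finset.mem_univ _, Subgroup.Normal.conj_mem inferInstance x hx.2 k⟩) hη g
  rw [Finset.sum_subtype (F := ‹Fintype N›) _ (fun x => by simp),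
    Finset.sum_subtype (F := ‹Fintype N›) _ (fun x => by simp), h0, mul_zero, zero_div] at h
  exact h

/-- The total multiplicity over an orbit is a multiple of the index. -/
theorem free_dvd (K : Subgroup G) [K.Normal] [Fintype K] (hcop : (Nat.card K).Coprime K.index)
    {χ : G → ℂ} (hχ : IsCharacter G χ) (hconst : ∀ g : G, g ∉ K → ∀ k ∈ K, χ (g * k) = χ g)
    {φ : K → ℂ} (hφ : IsIrrCharacter K φ) (hφ1 : φ ≠ fun _ => 1) {m : ℕ}
    (hm : classInner (fun x : K => χ x) φ = m) :
    K.index ∣ m * (Char.twistOrbit K φ).card := by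
  classical
  obtain ⟨I, hI⟩ : ∃ I, I = Char.inertia K φ := ⟨_, rfl⟩
  have hKI : K ≤ I := hI ▸ Char.le_inertia K hφ.isClassFunction
  haveI := Fintype.ofFinite I
  set N := K.subgroupOf I with hN
  haveI : N.Normal := ‹K.Normal›.subgroupOf _
  haveI := Fintype.ofFinite N
  let e : N ≃* K := Subgroup.subgroupOfEquivOfLe hKI
  have hφ' : IsIrrCharacter N (fun x => φ (e x)) := Char.isIrrCharacter_comp_equiv e hφ
  have hinv : ∀ g : I, Char.conjTwist N (fun x => φ (e x)) g = fun x => φ (e x) := by
    intro g
    funext x
    have := congrFun (show Char.conjTwist K φ (g : G) = φ from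
      (Char.mem_inertia K).1 (hI ▸ g.2)) (e x)
    rw [Char.conjTwist_apply] at this ⊢
    exact Eq.trans (congrArg φ (Subtype.ext rfl)) this
  have hcardN : Nat.card N = Nat.card K := Nat.card_congr e.toEquiv
  have hindex : N.index * I.index = K.index := by
    rw [hN]; exact Subgroup.relIndex_mul_index hKI
  have hcop' : (Nat.card N).Coprime N.index := by
    rw [hcardN]; exact hcop.coprime_dvd_right ⟨_, hindex.symm⟩
  obtain ⟨η, hη, hres⟩ := Char.exists_extension_of_coprime N hφ' hinv hcop'
  have hsum0 : ∑ n : N, η n = 0 := by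
    have h1 : ∑ n : N, η n = ∑ k : K, φ k :=
      Fintype.sum_equiv e.toEquiv _ _ fun n => congrFun hres n
    have h2 := Char.classInner_irr_ne hφ Char.isIrrCharacter_one hφ1
    simp only [classInner, map_one, mul_one, mul_eq_zero, inv_eq_zero, Char.card_cast_ne_zero,
      false_or] at h2
    rw [h1, h2]
  obtain ⟨j, hj⟩ := (hχ.comp I.subtype).exists_nat_classInner hη.isCharacter
  have hkey : (Nat.card I : ℂ) * j = (Nat.card K : ℂ) * m := by
    rw [← hj, ← hm]
    simp only [classInner, ← mul_assoc, mul_inv_cancel₀ Char.card_cast_ne_zero, one_mul,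
      Subgroup.coe_subtype, Function.comp_apply]
    set F : I → ℂ := fun x => χ x * conj (η x) with hF
    have hout : ∑ g ∈ Finset.univ.filter (fun g : I => g ∉ N), F g = 0 := by
      set s := Finset.univ.filter (fun g : I => g ∉ N)
      have hsh : ∀ n : N, ∑ g ∈ s, F (g * n) = ∑ g ∈ s, F g := fun n => by
        refine Finset.sum_nbij' (fun g => g * (n : I)) (fun g => g * (n : I)⁻¹) ?_ ?_ ?_ ?_ ?_
        · intro g hg
          simp only [s, Finset.mem_filter, Finset.mem_univ, true_and, Finset.mem_coe] at hg ⊢
          exact fun hh => hg (by simpa using mul_mem hh (inv_mem n.2))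
        · intro g hg
          simp only [s, Finset.mem_filter, Finset.mem_univ, true_and, Finset.mem_coe] at hg ⊢
          exact fun hh => hg (by simpa using mul_mem hh n.2)
        · intro g _; simp
        · intro g _; simp
        · intro g _; rfl
      have h2 : (Nat.card N : ℂ) * ∑ g ∈ s, F g = ∑ g ∈ s, ∑ n : N, F (g * n) := by
        rw [Finset.sum_comm, Finset.sum_congr rfl fun n _ => hsh n, Finset.sum_const,
          Finset.card_univ, nsmul_eq_mul, Nat.card_eq_fintype_card]
      have h3 : ∀ g ∈ s, ∑ n : N, F (g * n) = 0 := by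
        intro g hg
        simp only [s, Finset.mem_filter, Finset.mem_univ, true_and] at hg
        have h4 : ∀ n : N, F (g * n) = χ g * conj (η (g * n)) := fun n => by
          simp only [hF, Subgroup.coe_mul]
          rw [hconst g (fun hh => hg (Subgroup.mem_subgroupOf.2 hh)) _ (Subgroup.mem_subgroupOf.1 n.2)]
        rw [Finset.sum_congr rfl fun n _ => h4 n, ← Finset.mul_sum, ← map_sum,
          coset_sum_eq_zero N hη hsum0 g, map_zero, mul_zero]
      rw [Finset.sum_eq_zero h3] at h2
      exact (mul_eq_zero.1 h2).resolve_left Char.card_cast_ne_zero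
    rw [← Finset.sum_filter_add_sum_filter_not Finset.univ (fun g : I => g ∈ N), hout, add_zero,
      Finset.sum_subtype (F := ‹Fintype N›) _ (fun x => by simp)]
    refine Fintype.sum_equiv e.toEquiv _ _ fun n => ?_
    rw [show η n = φ (e n) from congrFun hres n]
    rfl
  rw [← N.card_mul_index, hcardN] at hkey
  have hm' : m = N.index * j := by
    have : (Nat.card K : ℂ) * ((N.index * j : ℕ) : ℂ) = (Nat.card K : ℂ) * m := by
      rw [← hkey]; push_cast; ring
    exact_mod_cast (mul_left_cancel₀ Char.card_cast_ne_zero this).symm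
  rw [Char.card_twistOrbit, ← hI, hm', ← hindex]
  exact ⟨j, by ring⟩

end Cfsg.Lib.PiHom.U34
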