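import Cfsg.Agent.Lib.PiHom.U34.Elem
import Cfsg.Agent.Lib.PiHom.U34.Five
import Cfsg.Prelude.Def_Characters

/-!
# Class functions on the singular elements

`theta f₄ f₂` takes the value `f₄` at elements with 2-part of order four and the value `f₂` of the
index at elements with 2-part an involution.
-/

set_option autoImplicit false
set_option linter.unusedSectionVars false
set_option linter.style.haveILetI false

namespace Cfsg.Lib.PiHom.U34

open Cfsg Cfsg.Lib Cfsg.Lib.Block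

universe u

variable {G : Type u} [Group G] [Finite G] {Kc : Subgroup G}

open Classical in
/-- The class function with given values on the singular sections. -/
noncomputable def theta (Kc : Subgroup G) (S : Sylow 2 G) (t g : G) (f4 : G → ℂ) (f2 : ZMod 5 → ℂ)
    (x : G) : ℂ :=
  if orderOf (pPt 2 x) = 4 then
    (if h : ∃ y : G, y * pPt 2 x * y⁻¹ ∈ (S : Subgroup G) then f4 (h.choose * pPt 2 x * h.choose⁻¹)
      else 0)
  else if orderOf (pPt 2 x) = 2 then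
    (if h : ∃ y : G, y * pPt 2 x * y⁻¹ = t then f2 (kidx Kc S t g (h.choose * pReg 2 x * h.choose⁻¹))
      else 0)
  else 0

/-- The values are invariant. -/
structure Inv (Kc : Subgroup G) (S : Sylow 2 G) (E : Subgroup G) (t g : G) (f4 : G → ℂ)
    (f2 : ZMod 5 → ℂ) : Prop where
  inv4 : ∀ n ∈ Subgroup.normalizer ((S : Subgroup G) : Set G), ∀ u ∈ (S : Subgroup G), u ∉ E →
    f4 (n * u * n⁻¹) = f4 u
  inv2 : ∀ x ∈ Ct t, ∀ r ∈ Ct t, f2 (kidx Kc S t g (x * r * x⁻¹)) = f2 (kidx Kc S t g r)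

namespace Ctx

variable {S : Sylow 2 G} {E : Subgroup G} {t : G} (c : Ctx Kc S E t)
include c

theorem conj_mem_sylow {u y y' : G} (h : y * u * y⁻¹ ∈ (S : Subgroup G))
    (h' : y' * u * y'⁻¹ ∈ (S : Subgroup G)) :
    ∃ n ∈ Subgroup.normalizer ((S : Subgroup G) : Set G),
      n * (y * u * y⁻¹) * n⁻¹ = y' * u * y'⁻¹ := by
  set u0 := y * u * y⁻¹ with hu0
  set u1 := y' * u * y'⁻¹ with hu1
  set g := y' * y⁻¹ with hg
  have hgu : g * u0 * g⁻¹ = u1 := by simp only [hg, hu0, hu1]; group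
  by_cases h1 : u0 = 1
  · exact ⟨1, one_mem _, by rw [← hgu, h1]; group⟩
  have hord : orderOf u1 = orderOf u0 := by rw [← hgu, orderOf_conj']
  by_cases hE : u0 ∈ E
  · obtain ⟨hE1, h11⟩ := (c.order_two_iff h').1 (hord.trans (c.orderOf_two hE h1))
    exact c.hs.trans u0 hE u1 hE1 h1 h11
  have hE1 : u1 ∉ E := (c.order_four_iff h').1 (hord.trans (c.orderOf_four h hE))
  obtain ⟨n1, hn1, -, ha⟩ := c.odd_trans (c.hs.sq u0 h) fun e => hE (c.hs.invol u0 h e)
  obtain ⟨n2, hn2, -, hb⟩ := c.odd_trans (c.hs.sq u1 h') fun e => hE1 (c.hs.invol u1 h' e)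
  have hc : n2 * g * n1⁻¹ ∈ Ct t := mem_Ct.2 (mul_inv_eq_iff_eq_mul.1 (by
    calc n2 * g * n1⁻¹ * t * (n2 * g * n1⁻¹)⁻¹ = n2 * ((g * u0 * g⁻¹) * (g * u0 * g⁻¹)) * n2⁻¹ := by
          rw [← ha]; group
      _ = t := by rw [hgu, hb]))
  obtain ⟨k, hk, n, -, hn, e⟩ := c.split _ hc
  set v := n * (n1 * u0 * n1⁻¹) * n⁻¹ with hv
  have hvS : v ∈ (S : Subgroup G) :=
    (Subgroup.mem_normalizer_iff.1 hn _).1 ((Subgroup.mem_normalizer_iff.1 hn1 _).1 h)
  have hkv : k * v * k⁻¹ = n2 * u1 * n2⁻¹ := by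
    rw [hv, ← hgu, show n2 * (g * u0 * g⁻¹) * n2⁻¹ =
      (n2 * g * n1⁻¹) * (n1 * u0 * n1⁻¹) * (n2 * g * n1⁻¹)⁻¹ by group, e]
    group
  have hk1 : k * v * k⁻¹ * v⁻¹ = 1 := c.lsub_inf
    (le_sup_left (b := dsub S) (by
      rw [show k * v * k⁻¹ * v⁻¹ = k * (v * k⁻¹ * v⁻¹) by group]
      exact mul_mem hk (c.core_conj (c.sylow_le_Ct hvS) (inv_mem hk))))
    (mul_mem (by rw [hkv]; exact (Subgroup.mem_normalizer_iff.1 hn2 _).1 h') (inv_mem hvS))
  refine ⟨n2⁻¹ * n * n1, mul_mem (mul_mem (inv_mem hn2) hn) hn1, ?_⟩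
  rw [mul_inv_eq_one.1 hk1] at hkv
  calc n2⁻¹ * n * n1 * u0 * (n2⁻¹ * n * n1)⁻¹ = n2⁻¹ * v * n2 := by rw [hv]; group
    _ = u1 := by rw [hkv]; group

variable {g : G} {f4 : G → ℂ} {f2 : ZMod 5 → ℂ}

theorem theta_four (hi : Inv Kc S E t g f4 f2) {x y : G} (ho : orderOf (pPt 2 x) = 4)
    (hy : y * pPt 2 x * y⁻¹ ∈ (S : Subgroup G)) :
    theta Kc S t g f4 f2 x = f4 (y * pPt 2 x * y⁻¹) := by
  classical
  rw [theta, if_pos ho, dif_pos ⟨y, hy⟩]
  have he : ∃ y : G, y * pPt 2 x * y⁻¹ ∈ (S : Subgroup G) := ⟨y, hy⟩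
  obtain ⟨n, hn, hne⟩ := c.conj_mem_sylow he.choose_spec hy
  rw [← hne, hi.inv4 n hn _ he.choose_spec ((c.order_four_iff he.choose_spec).1
    (by rw [orderOf_conj']; exact ho))]

theorem theta_two (hi : Inv Kc S E t g f4 f2) {x y : G} (hy : y * pPt 2 x * y⁻¹ = t) :
    theta Kc S t g f4 f2 x = f2 (kidx Kc S t g (y * pReg 2 x * y⁻¹)) := by
  classical
  have ho : orderOf (pPt 2 x) = 2 := by rw [← orderOf_conj' y, hy, c.orderOf_t]
  rw [theta, if_neg (by omega), if_pos ho, dif_pos ⟨y, hy⟩]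
  have he : ∃ y : G, y * pPt 2 x * y⁻¹ = t := ⟨y, hy⟩
  have h1 := he.choose_spec
  set z := he.choose
  have hm : y * z⁻¹ ∈ Ct t := mem_Ct.2 (mul_inv_eq_iff_eq_mul.1 (by
    calc y * z⁻¹ * t * (y * z⁻¹)⁻¹ = y * pPt 2 x * y⁻¹ := by rw [← h1]; group
      _ = t := hy))
  have hr : z * pReg 2 x * z⁻¹ ∈ Ct t := mem_Ct.2 (by
    have := ((pPt_commute_pReg (p := 2) x).symm).map (MulAut.conj z).toMonoidHom
    simp only [MulEquiv.toMonoidHom_eq_coe, MonoidHom.coe_coe, MulAut.conj_apply] at this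
    rwa [h1] at this)
  rw [← hi.inv2 _ hm _ hr, show y * z⁻¹ * (z * pReg 2 x * z⁻¹) * (y * z⁻¹)⁻¹ =
    y * pReg 2 x * y⁻¹ by group]

theorem theta_one {x : G} (hx : pPt 2 x = 1) : theta Kc S t g f4 f2 x = 0 := by
  rw [theta, if_neg (by rw [hx, orderOf_one]; norm_num), if_neg (by rw [hx, orderOf_one]; norm_num)]

theorem theta_class (hi : Inv Kc S E t g f4 f2) : IsClassFunction G (theta Kc S t g f4 f2) := by
  intro x h
  rcases c.order_cases (exists_orderOf_pPt x) with h1 | h2 | h4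
  · rw [c.theta_one h1, c.theta_one (by rw [pPt_conj, h1, mul_one, mul_inv_cancel])]
  · obtain ⟨y, hy⟩ := c.exists_conj_t h2
    rw [c.theta_two hi hy, c.theta_two hi (x := h * x * h⁻¹) (y := y * h⁻¹)
      (by rw [pPt_conj, ← hy]; group), pReg_conj]
    congr 2
    group
  · obtain ⟨y, hy⟩ := c.exists_conj_mem (exists_orderOf_pPt x)
    have e : y * h⁻¹ * pPt 2 (h * x * h⁻¹) * (y * h⁻¹)⁻¹ = y * pPt 2 x * y⁻¹ := by
      rw [pPt_conj]; group
    rw [c.theta_four hi h4 hy, c.theta_four hi (x := h * x * h⁻¹) (y := y * h⁻¹)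
      (by rw [pPt_conj, orderOf_conj']; exact h4) (by rw [e]; exact hy), e]

/-- At a product of two involutions the class function is determined by the value at index zero. -/
theorem theta_product (hi : Inv Kc S E t g f4 f2) (h0 : f2 0 = 0)
    (hk : ∀ l ∈ lsub Kc S t, kidx Kc S t g l = 0 ∨ ∀ k, f2 k = 0) {x y : G} (hx : orderOf x = 2)
    (hy : orderOf y = 2) : theta Kc S t g f4 f2 (x * y) = 0 := by
  rcases c.invol_product hx hy with h | ⟨h2, hc, hinv⟩
  · exact c.theta_one h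
  obtain ⟨z, hz⟩ := c.exists_conj_t h2
  rw [c.theta_two hi hz]
  have hl : z * pReg 2 (x * y) * z⁻¹ ∈ lsub Kc S t :=
    c.inverted_mem_lsub (x := z * x * z⁻¹) (by rw [orderOf_conj', hx])
      (mem_Ct.2 (by
        have := hc.map (MulAut.conj z).toMonoidHom
        simp only [MulEquiv.toMonoidHom_eq_coe, MonoidHom.coe_coe, MulAut.conj_apply] at this
        rwa [hz] at this))
      (by rw [orderOf_conj']; exact odd_pReg _)
      (mem_Ct.2 (by
        have := ((pPt_commute_pReg (p := 2) (x * y)).symm).map (MulAut.conj z).toMonoidHom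
        simp only [MulEquiv.toMonoidHom_eq_coe, MonoidHom.coe_coe, MulAut.conj_apply] at this
        rwa [hz] at this))
      (by rw [show z * x * z⁻¹ * (z * pReg 2 (x * y) * z⁻¹) * (z * x * z⁻¹)⁻¹ =
          z * (x * pReg 2 (x * y) * x⁻¹) * z⁻¹ by group, hinv]; group)
  rcases hk _ hl with h | h
  · rw [h, h0]
  · exact h _

end Ctx

end Cfsg.Lib.PiHom.U34
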