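import Cfsg.Agent.Lib.PiHom.U34.Parts
import Cfsg.Agent.Lib.PiHom.U34.Theta
import Cfsg.Agent.Lib.Char.BrauerInduction

/-!
# The class functions are generalized characters

By Brauer's characterisation it is enough to look at elementary subgroups.
-/

set_option autoImplicit false
set_option linter.unusedSectionVars false
set_option linter.style.haveILetI false

namespace Cfsg.Lib.PiHom.U34

open Cfsg Cfsg.Lib Cfsg.Lib.Block
open scoped Classical

universe u

variable {G : Type u} [Group G] [Fintype G] {Kc : Subgroup G}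

namespace Ctx

variable {S : Sylow 2 G} {E : Subgroup G} {t : G} (c : Ctx Kc S E t)
include c

theorem commute_E {a b w : G} (ha : a ∈ E) (hb : b ∈ E) (ha1 : a ≠ 1) (hb1 : b ≠ 1) (hab : a ≠ b)
    (hwa : Commute w a) (hwb : Commute w b) : ∀ e ∈ E, Commute w e := by
  set H := E ⊓ Subgroup.centralizer ({w} : Set G)
  have hm : ∀ {x : G}, x ∈ E → Commute w x → x ∈ H := fun hx hc =>
    ⟨hx, Subgroup.mem_centralizer_singleton_iff.2 hc.symm.eq⟩
  have hd : Nat.card H ∣ 4 := c.hs.cardE ▸ Subgroup.card_dvd_of_le inf_le_left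
  have h3 : 3 ≤ Nat.card H := by
    rw [Nat.card_eq_fintype_card]
    exact Fintype.two_lt_card_iff.2 ⟨⟨1, one_mem _⟩, ⟨a, hm ha hwa⟩, ⟨b, hm hb hwb⟩,
      fun e => ha1 (congrArg Subtype.val e).symm, fun e => hb1 (congrArg Subtype.val e).symm,
      fun e => hab (congrArg Subtype.val e)⟩
  have h4 : Nat.card H = 4 := by
    have := Nat.le_of_dvd (by norm_num) hd
    interval_cases hn : Nat.card H <;> omega
  have hHE : H = E := Subgroup.eq_of_le_of_card_ge inf_le_left (by rw [h4, c.hs.cardE])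
  intro e he
  rw [← hHE] at he
  exact Commute.symm (Subgroup.mem_centralizer_singleton_iff.1 he.2)

theorem exists_conj_range {A : Subgroup G} {P : A →* G} (hP : ∀ a : A, P a = pPt 2 (a : G)) :
    ∃ y : G, ∀ a : A, y * P a * y⁻¹ ∈ (S : Subgroup G) := by
  have h2 : IsPGroup 2 P.range := by
    refine IsPGroup.iff_orderOf.2 ?_
    rintro ⟨_, a, rfl⟩
    rw [← Subgroup.orderOf_coe]
    show ∃ k, orderOf (P a) = 2 ^ k
    rw [hP]
    exact exists_orderOf_pPt _
  obtain ⟨y, hy⟩ := c.exists_conj_le h2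
  exact ⟨y, fun a => hy _ ⟨a, rfl⟩⟩

variable {g : G} {f4 : G → ℂ} {f2 : ZMod 5 → ℂ}

/-- Brauer's criterion for `theta`. -/
theorem theta_virtual (hi : Inv Kc S E t g f4 f2) {φ : ↥(S : Subgroup G) → ℂ}
    (hφ : IsGeneralizedCharacter (S : Subgroup G) φ) (hφ1 : φ 1 = 0)
    (hφ4 : ∀ s : (S : Subgroup G), (s : G) ∉ E → φ s = f4 s)
    (hφ2 : ∀ s : (S : Subgroup G), (s : G) ∈ E → s ≠ 1 → φ s = f2 0)
    (hidx : ∀ x ∈ (S : Subgroup G), x ∉ E → ∀ r ∈ Ct t, Commute r x →
      f2 (kidx Kc S t g r) = f2 0)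
    (hsmall : ∀ (A : Subgroup G) (P Q : A →* G), (∀ a : A, P a = pPt 2 (a : G)) →
      (∀ a : A, Q a = pReg 2 (a : G)) → (∀ a b : A, Commute (P a) (Q b)) →
      (∀ a : A, orderOf (P a) ≠ 4) →
      IsGeneralizedCharacter A (fun a : A => theta Kc S t g f4 f2 a)) :
    IsGeneralizedCharacter G (theta Kc S t g f4 f2) := by
  refine Char.isGeneralizedCharacter_of_elementary (c.theta_class hi) fun A p hp hA => ?_
  obtain ⟨P, Q, hP, hQ, hPQ⟩ := elementary_parts hp hA
  by_cases h4 : ∀ a : A, orderOf (P a) ≠ 4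
  · exact hsmall A P Q hP hQ hPQ h4
  push Not at h4
  obtain ⟨a0, ha0⟩ := h4
  obtain ⟨y, hy⟩ := c.exists_conj_range hP
  let f : A →* (S : Subgroup G) :=
    ((MulAut.conj y).toMonoidHom.comp P).codRestrict (S : Subgroup G) fun a => hy a
  have hfv : ∀ a : A, (f a : G) = y * P a * y⁻¹ := fun a => rfl
  have hx0 : y * P a0 * y⁻¹ ∉ E := (c.order_four_iff (hy a0)).1 (by rw [orderOf_conj']; exact ha0)
  convert hφ.comp f using 1
  funext a
  have hpa := hP a
  rcases c.order_cases (exists_orderOf_pPt (p := 2) (a : G)) with h | h | h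
  · rw [c.theta_one h, show f a = 1 from Subtype.ext (by rw [hfv, hpa, h]; simp), hφ1]
  · have ho : orderOf (y * P a * y⁻¹) = 2 := by rw [orderOf_conj', hpa, h]
    obtain ⟨hE, h1⟩ := (c.order_two_iff (hy a)).1 ho
    obtain ⟨o, hon, -, ho'⟩ := c.odd_trans hE h1
    have hz : (o * y) * pPt 2 (a : G) * (o * y)⁻¹ = t := by rw [← ho', hpa]; group
    rw [c.theta_two hi hz, hφ2 (f a) hE (fun e => h1 (congrArg Subtype.val e))]
    refine hidx (o * (y * P a0 * y⁻¹) * o⁻¹) ((Subgroup.mem_normalizer_iff.1 hon _).1 (hy a0))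
      (c.not_E_normalized hon hx0) _ (mem_Ct.2 ?_) ?_
    · have := ((hPQ a a).symm).map (MulAut.conj (o * y)).toMonoidHom
      simp only [MulEquiv.toMonoidHom_eq_coe, MonoidHom.coe_coe, MulAut.conj_apply] at this
      rw [hpa, hQ, hz] at this
      exact this
    · have := ((hPQ a0 a).symm).map (MulAut.conj (o * y)).toMonoidHom
      simp only [MulEquiv.toMonoidHom_eq_coe, MonoidHom.coe_coe, MulAut.conj_apply] at this
      rw [hQ a] at this
      rwa [show o * (y * P a0 * y⁻¹) * o⁻¹ = o * y * P a0 * (o * y)⁻¹ by group]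
  · have hm : y * pPt 2 (a : G) * y⁻¹ ∈ (S : Subgroup G) := hpa ▸ hy a
    have hnE : (f a : G) ∉ E := (c.order_four_iff (hy a)).1 (by rw [orderOf_conj', hpa, h])
    rw [c.theta_four hi h hm, hφ4 (f a) hnE, hfv, hpa]

end Ctx

namespace Five

variable {S : Sylow 2 G} {E : Subgroup G} {t g : G} (f : Five Kc S E t g)
include f

theorem inv_const (a : ℂ) (f2 : ZMod 5 → ℂ) : Inv Kc S E t g (fun _ => a) f2 :=
  ⟨fun _ _ _ _ _ => rfl, fun x hx r hr => by rw [f.kidx_conj hx hr]⟩

theorem small_five {f4 : G → ℂ} {h : ZMod 5 → ℂ}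
    (hi : Inv Kc S E t g f4 (fun k => 4 * h k))
    (hh : ∀ (A : Subgroup G) (k : A → ZMod 5), (∀ a b, k (a * b) = k a + k b) →
      IsGeneralizedCharacter A (fun a : A => h (k a)))
    (A : Subgroup G) (P Q : A →* G) (hP : ∀ a : A, P a = pPt 2 (a : G))
    (hQ : ∀ a : A, Q a = pReg 2 (a : G)) (hPQ : ∀ a b : A, Commute (P a) (Q b))
    (h4 : ∀ a : A, orderOf (P a) ≠ 4) :
    IsGeneralizedCharacter A (fun a : A => theta Kc S t g f4 (fun k => 4 * h k) a) := by
  by_cases h1 : ∀ a : A, P a = 1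
  · convert Char.isGeneralizedCharacter_zero (G := A) using 1
    funext a
    rw [f.toCtx.theta_one (by rw [← hP]; exact h1 a)]
    rfl
  push Not at h1
  obtain ⟨a0, ha0⟩ := h1
  obtain ⟨y, hy⟩ := f.toCtx.exists_conj_range hP
  have hEy : ∀ a : A, y * P a * y⁻¹ ∈ E := fun a => by
    by_contra hne
    exact h4 a (by rw [← orderOf_conj' y]; exact f.toCtx.orderOf_four (hy a) hne)
  have hne : ∀ a : A, P a ≠ 1 → y * P a * y⁻¹ ≠ 1 := fun a ha e => ha (conj_eq_one_iff.1 e)
  obtain ⟨o, hon, hoo, ho⟩ := f.toCtx.odd_trans (hEy a0) (hne a0 ha0)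
  set z := o * y with hzdef
  have hzt : z * P a0 * z⁻¹ = t := by rw [hzdef, ← ho]; group
  have hQC : ∀ a : A, z * Q a * z⁻¹ ∈ Ct t := fun a => mem_Ct.2 (by
    have := ((hPQ a0 a).symm).map (MulAut.conj z).toMonoidHom
    simp only [MulEquiv.toMonoidHom_eq_coe, MonoidHom.coe_coe, MulAut.conj_apply] at this
    rwa [hzt] at this)
  set k : A → ZMod 5 := fun a => kidx Kc S t g (z * Q a * z⁻¹)
  have hk : ∀ a b, k (a * b) = k a + k b := fun a b => by
    simp only [k]
    rw [map_mul, show z * (Q a * Q b) * z⁻¹ = (z * Q a * z⁻¹) * (z * Q b * z⁻¹) by group,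
      f.kidx_mul (hQC a) (hQC b)]
  have hval : ∀ a : A, P a ≠ 1 →
      theta Kc S t g f4 (fun k => 4 * h k) a = 4 * h (k a) := by
    intro a ha
    by_cases he : y * P a * y⁻¹ = y * P a0 * y⁻¹
    · have e : P a = P a0 := mul_left_cancel (mul_right_cancel he)
      rw [f.toCtx.theta_two hi (y := z) (by rw [← hP, e]; exact hzt), ← hQ]
    · obtain ⟨o', hon', hoo', ho'⟩ := f.toCtx.odd_trans (hEy a) (hne a ha)
      rw [f.toCtx.theta_two hi (y := o' * y) (by rw [← hP, ← ho']; group), ← hQ]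
      have hconj : ∀ b : A, Commute (y * Q a * y⁻¹) (y * P b * y⁻¹) := fun b =>
        ((hPQ b a).symm).map (MulAut.conj y).toMonoidHom
      have hall := f.toCtx.commute_E (hEy a) (hEy a0) (hne a ha) (hne a0 ha0) he (hconj a) (hconj a0)
      have e1 := f.kidx_equivariant hon hoo hall
      have e2 := f.kidx_equivariant hon' hoo' hall
      simp only [k]
      rw [show z * Q a * z⁻¹ = o * (y * Q a * y⁻¹) * o⁻¹ by rw [hzdef]; group, e1,
        show o' * y * Q a * (o' * y)⁻¹ = o' * (y * Q a * y⁻¹) * o'⁻¹ by group, e2]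
  obtain ⟨m, hm⟩ : Nat.card P.range ∣ 4 := by
    rw [← f.hs.cardE, ← Subgroup.card_map_of_injective (f := (MulAut.conj y).toMonoidHom) (K := P.range) (MulAut.conj y).injective]
    exact Subgroup.card_dvd_of_le (by rintro _ ⟨_, ⟨a, rfl⟩, rfl⟩; exact hEy a)
  have hgen := ((isGen_natCast (A := A) 4).sub ((isGen_kernel P).intCast_smul (m : ℤ))).mul (hh A k hk)
  convert hgen using 1
  funext a
  simp only [Pi.mul_apply, Pi.sub_apply, Pi.smul_apply, smul_eq_mul, Int.cast_natCast, Nat.cast_ofNat]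
  by_cases ha : P a = 1
  · have hm' : (m : ℂ) * (Nat.card P.range : ℂ) = 4 := by
      rw [mul_comm]; exact_mod_cast hm.symm
    rw [if_pos ha, f.toCtx.theta_one (by rw [← hP]; exact ha), hm', sub_self, zero_mul]
  · rw [if_neg ha, mul_zero, sub_zero, hval a ha]

theorem hidx_five (F : ZMod 5 → ℂ) :
    ∀ x ∈ (S : Subgroup G), x ∉ E → ∀ r ∈ Ct t, Commute r x → F (kidx Kc S t g r) = F 0 :=
  fun x hx hxE r hr hc => by rw [f.kidx_comm hx hxE hr hc]

theorem isGen_E :
    IsGeneralizedCharacter (S : Subgroup G) (fun s => if (s : G) ∈ E then (16 : ℂ) else 0) := by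
  set Z := E.subgroupOf (S : Subgroup G)
  haveI : Z.Normal := ⟨fun z hz x => Subgroup.mem_subgroupOf.2 (by
    simp only [Subgroup.coe_mul, InvMemClass.coe_inv]
    rw [← (f.hs.central _ (Subgroup.mem_subgroupOf.1 hz) _ x.2).eq, mul_inv_cancel_right]
    exact Subgroup.mem_subgroupOf.1 hz)⟩
  have h := isGen_kernel (QuotientGroup.mk' Z)
  convert h using 1
  funext s
  have hr : Nat.card (QuotientGroup.mk' Z).range = 16 := by
    rw [MonoidHom.range_eq_top.2 (QuotientGroup.mk'_surjective Z), Subgroup.card_top,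
      ← Subgroup.index_eq_card]
    have := Z.card_mul_index
    rw [Nat.card_congr (Subgroup.subgroupOfEquivOfLe f.hs.le).toEquiv, f.hs.cardE, f.hs.cardS] at this
    omega
  rw [hr]
  have hiff : QuotientGroup.mk' Z s = 1 ↔ (s : G) ∈ E := by
    rw [QuotientGroup.mk'_apply, QuotientGroup.eq_one_iff]
    exact Subgroup.mem_subgroupOf
  by_cases hs : (s : G) ∈ E
  · rw [if_pos hs, if_pos (hiff.2 hs)]; norm_num
  · rw [if_neg hs, if_neg (mt hiff.1 hs)]

theorem isGen_psiS :
    IsGeneralizedCharacter (S : Subgroup G)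
      (fun s => if s = 1 then 12 else if (s : G) ∈ E then (-4 : ℂ) else 0) := by
  have h := isGen_psi64 f.hs.cardS (E.subgroupOf (S : Subgroup G))
    (by rw [Nat.card_congr (Subgroup.subgroupOfEquivOfLe f.hs.le).toEquiv, f.hs.cardE])
    (fun z hz x => Subtype.ext (f.hs.central _ (Subgroup.mem_subgroupOf.1 hz) _ x.2).eq)
    (fun x hx z hz => by
      obtain ⟨w, hw, he⟩ := f.hs.coset x x.2 hx z (Subgroup.mem_subgroupOf.1 hz)
      exact ⟨⟨w, hw⟩, Subtype.ext he⟩)
  convert h using 1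
  funext s
  simp [Subgroup.mem_subgroupOf]

/-- The class function with value `16` on the elements with 2-part of order four. -/
noncomputable def alphaF (_f : Five Kc S E t g) : G → ℂ := theta Kc S t g (fun _ => 16) (fun _ => 0)

/-- The class functions with the values of the linear characters of the index. -/
noncomputable def betaF (_f : Five Kc S E t g) (j : ZMod 5) : G → ℂ :=
  theta Kc S t g (fun _ => 4) (fun k => 4 * (psi j k - ∑ i, psi i k))

theorem alphaF_virtual : IsGeneralizedCharacter G f.alphaF := by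
  refine f.toCtx.theta_virtual (f.inv_const 16 _)
    (φ := (fun _ : ↥(S : Subgroup G) => ((16 : ℕ) : ℂ)) - fun s : ↥(S : Subgroup G) => if (s : G) ∈ E then (16 : ℂ) else 0)
    ((isGen_natCast 16).sub f.isGen_E) ?_ ?_ ?_ (f.hidx_five (fun _ => 0)) ?_
  · simp [one_mem]
  · intro s hs; simp [hs]
  · intro s hs _; simp [hs]
  · have h0 : (fun _ : ZMod 5 => (0 : ℂ)) = fun k : ZMod 5 => 4 * (0 : ℂ) := by simp
    rw [h0]
    exact f.small_five (h := fun _ => 0) (f.inv_const 16 _)
      fun A k _ => Char.isGeneralizedCharacter_zero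

theorem betaF_virtual (j : ZMod 5) : IsGeneralizedCharacter G (f.betaF j) := by
  refine f.toCtx.theta_virtual (f.inv_const 4 _)
    (φ := ((fun _ : ↥(S : Subgroup G) => ((4 : ℕ) : ℂ)) - fun s : ↥(S : Subgroup G) => if (s : G) ∈ E then (16 : ℂ) else 0) +
      fun s : ↥(S : Subgroup G) => if s = 1 then 12 else if (s : G) ∈ E then (-4 : ℂ) else 0)
    (((isGen_natCast 4).sub f.isGen_E).add f.isGen_psiS) ?_ ?_ ?_ (f.hidx_five (fun k => 4 * (psi j k - ∑ i, psi i k))) ?_
  · simp [one_mem]; norm_num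
  · intro s hs
    have h1 : s ≠ 1 := fun e => hs (by rw [e]; exact one_mem _)
    simp [hs, h1]
  · intro s hs h1
    simp only [Pi.add_apply, Pi.sub_apply, if_pos hs, if_neg h1, psi_zero, psi_sum, if_true]
    norm_num
  · refine f.small_five (h := fun k => psi j k - ∑ i, psi i k) (f.inv_const 4 _) fun A k hk => ?_
    have hsum : IsGeneralizedCharacter A (∑ i, fun a : A => psi i (k a)) :=
      IsGeneralizedCharacter.sum Finset.univ _ fun i _ =>
        isGen_addChar ZMod.stdAddChar (fun a => i * k a) (fun a b => by rw [hk, mul_add])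
    convert (isGen_addChar ZMod.stdAddChar (fun a => j * k a)
      (fun a b => by rw [hk, mul_add])).sub hsum using 1
    funext a
    simp [psi, Finset.sum_apply]

end Five

end Cfsg.Lib.PiHom.U34
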