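import Cfsg.Agent.Lib.PiHom.U34.Inner
import Cfsg.Agent.Lib.PiHom.U34.Virtual
import Cfsg.Agent.Lib.PiHom.U34.Blocks

/-!
# The Gram matrix and the values of the principal block

Inner products of the six basic generalized characters, and the values of a character of the principal
block on the singular elements in terms of its row.
-/

set_option autoImplicit false
set_option linter.unusedSectionVars false
set_option linter.style.haveILetI false

namespace Cfsg.Lib.PiHom.U34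

open Cfsg Cfsg.Lib Cfsg.Lib.Block
open scoped ComplexConjugate Classical

universe u

variable {G : Type u} [Group G] [Fintype G] {Kc : Subgroup G}

theorem psi_f2_zero (j : ZMod 5) : (4 : ℂ) * (psi j 0 - ∑ i, psi i 0) = -16 := by
  rw [psi_zero, psi_sum, if_pos rfl]; norm_num

theorem psi_f2_ne (j : ZMod 5) (i : Fin 4) :
    (4 : ℂ) * (psi j ((i : ℕ) + 1 : ℕ) - ∑ m, psi m ((i : ℕ) + 1 : ℕ)) =
      4 * psi j ((i : ℕ) + 1 : ℕ) := by
  rw [psi_sum, if_neg, sub_zero]
  revert i; decide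

theorem psi_total (i : Fin 4) : ∑ j, psi j ((i : ℕ) + 1 : ℕ) = 0 := by
  rw [psi_sum, if_neg]
  revert i; decide

namespace Five

variable {S : Sylow 2 G} {E : Subgroup G} {t g : G} (f : Five Kc S E t g)
include f

theorem alphaF_class : IsClassFunction G f.alphaF := f.toCtx.theta_class (f.inv_const 16 _)

theorem betaF_class (j : ZMod 5) : IsClassFunction G (f.betaF j) := f.toCtx.theta_class (f.inv_const 4 _)

/-- The inner product against a class function with known values on the singular elements. -/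
theorem inner_five {a : ℂ} {f2 : ZMod 5 → ℂ} {F' : G → ℂ} (hF' : IsClassFunction G F') {b : ℂ}
    {h2 : ZMod 5 → ℂ}
    (hb : ∀ l ∈ lsub Kc S t, ∀ s ∈ (S : Subgroup G), s ∉ E → s * s = t → a * conj (F' (l * s)) = a * b)
    (h0 : ∀ l ∈ lsub Kc S t, f2 0 * conj (F' (l * t)) = f2 0 * h2 0)
    (hk : ∀ l ∈ lsub Kc S t, ∀ s ∈ (S : Subgroup G), ∀ k : ℕ, ¬ 5 ∣ k → f.eps k s = t →
      f2 k * conj (F' (l * s * g ^ k)) = f2 k * h2 k) :
    classInner (theta Kc S t g (fun _ => a) f2) F' =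
      (20 * (a * b) + f2 0 * h2 0 +
        16 * ∑ i : Fin 4, f2 ((i : ℕ) + 1 : ℕ) * h2 ((i : ℕ) + 1 : ℕ)) / 320 := by
  have hi := f.inv_const a f2
  have hsum := f.sum_five (H := fun x => theta Kc S t g (fun _ => a) f2 x * conj (F' x))
    (v4 := fun _ => a * b) (v2 := fun k => f2 k * h2 k)
    (fun l hl s hs hsE hst => by rw [f.toCtx.theta_ls_four hi hl hs hsE, hb l hl s hs hsE hst])
    (fun l hl => by
      rw [f.toCtx.theta_lt hi hl (fun r hr => Or.inl (f.kidx_lsub hr)), h0 l hl])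
    (fun l hl s hs k hk5 he => by rw [f.theta_five hi hl hs hk5 he, hk l hl s hs k hk5 he])
  rw [f.toCtx.classInner_local (f.toCtx.theta_class hi) hF' (fun x hx => f.toCtx.theta_one hx)
    f.card_Ct_five hsum]
  have hcard : (Finset.univ.filter fun s : G => s ∈ Fib (S : Subgroup G) t).card = 20 := by
    rw [← Fintype.card_subtype, ← Nat.card_eq_fintype_card]
    exact f.hs.card_fib f.ht f.ht1
  rw [Finset.sum_const, hcard, nsmul_eq_mul]
  have hL : (Nat.card (lsub Kc S t) : ℂ) ≠ 0 := Char.card_cast_ne_zero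
  push_cast
  field_simp

/-- The inner product of two of the class functions. -/
theorem inner_theta (a b : ℂ) (f2 h2 : ZMod 5 → ℂ) :
    classInner (theta Kc S t g (fun _ => a) f2) (theta Kc S t g (fun _ => b) h2) =
      (20 * (a * conj b) + f2 0 * conj (h2 0) +
        16 * ∑ i : Fin 4, f2 ((i : ℕ) + 1 : ℕ) * conj (h2 ((i : ℕ) + 1 : ℕ))) / 320 := by
  have hi := f.inv_const b h2
  exact f.inner_five (b := conj b) (h2 := fun k => conj (h2 k)) (f.toCtx.theta_class hi)
    (fun l hl s hs hsE _ => by rw [f.toCtx.theta_ls_four hi hl hs hsE])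
    (fun l hl => by rw [f.toCtx.theta_lt hi hl (fun r hr => Or.inl (f.kidx_lsub hr))])
    (fun l hl s hs k hk he => by rw [f.theta_five hi hl hs hk he])

theorem inner_one (a : ℂ) (f2 : ZMod 5 → ℂ) :
    classInner (theta Kc S t g (fun _ => a) f2) (fun _ => (1 : ℂ)) =
      (20 * a + f2 0 + 16 * ∑ i : Fin 4, f2 ((i : ℕ) + 1 : ℕ)) / 320 := by
  have h := f.inner_five (a := a) (f2 := f2) (F' := fun _ => (1 : ℂ)) (b := 1) (h2 := fun _ => 1)
    (fun _ _ => rfl) (fun l _ s _ _ _ => by simp) (fun l _ => by simp) (fun l _ s _ k _ _ => by simp)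
  simpa using h

theorem gram_aa : classInner f.alphaF f.alphaF = 16 := by
  rw [alphaF, f.inner_theta]
  simp only [map_zero, mul_zero, Finset.sum_const_zero, zero_mul]
  rw [map_ofNat]; norm_num

theorem gram_ab (j : ZMod 5) : classInner f.alphaF (f.betaF j) = 4 := by
  rw [alphaF, betaF, f.inner_theta]
  simp only [zero_mul, Finset.sum_const_zero, mul_zero]
  rw [map_ofNat]; norm_num

theorem gram_ba (j : ZMod 5) : classInner (f.betaF j) f.alphaF = 4 := by
  rw [← Char.classInner_conj_symm, f.gram_ab, map_ofNat]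

theorem gram_bb (i j : ZMod 5) : classInner (f.betaF i) (f.betaF j) = if i = j then 5 else 1 := by
  rw [betaF, betaF, f.inner_theta]
  simp only [psi_f2_zero, psi_f2_ne, map_neg, map_ofNat, map_mul, psi_conj]
  rw [Finset.sum_congr rfl fun (k : Fin 4) _ =>
    show 4 * psi i ((k : ℕ) + 1 : ℕ) * (4 * psi (-j) ((k : ℕ) + 1 : ℕ)) =
      16 * psi (i + -j) ((k : ℕ) + 1 : ℕ) by rw [← psi_mul]; ring, ← Finset.mul_sum, psi_sum_ne]
  by_cases h : i = j
  · rw [if_pos h, if_pos (by rw [h, add_neg_cancel])]; norm_num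
  · rw [if_neg h, if_neg fun e => h (add_neg_eq_zero.1 e)]; norm_num

theorem gram_a1 : classInner f.alphaF (fun _ => (1 : ℂ)) = 1 := by
  rw [alphaF, f.inner_one]; norm_num

theorem gram_b1 (j : ZMod 5) :
    classInner (f.betaF j) (fun _ => (1 : ℂ)) = if j = 0 then 1 else 0 := by
  rw [betaF, f.inner_one]
  simp only [psi_f2_zero, psi_f2_ne]
  rw [← Finset.mul_sum, psi_sum_ne]
  split_ifs <;> norm_num

/-- The elements of `S` outside `E` are conjugate. -/
theorem conj_four {u v : G} (hu : u ∈ (S : Subgroup G)) (huE : u ∉ E) (hv : v ∈ (S : Subgroup G))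
    (hvE : v ∉ E) : ∃ c : G, c * u * c⁻¹ = v := by
  have key : ∀ x ∈ (S : Subgroup G), x * x = t → ∀ y ∈ (S : Subgroup G), y * y = t →
      ∃ c : G, c * x * c⁻¹ = y := by
    intro x hx hxt y hy hyt
    have hxE : x ∉ E := fun h => f.ht1 (by rw [← hxt, f.hs.esq x h])
    have hg : ∀ i : ℕ, g ^ i * x * (g ^ i)⁻¹ ∈ (S : Subgroup G) := fun i => f.g_pow_conj hx i
    let φ : Fin 5 × E → Fib (S : Subgroup G) t := fun p =>
      ⟨g ^ (p.1 : ℕ) * (x * (p.2 : G)) * (g ^ (p.1 : ℕ))⁻¹,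
        f.g_pow_conj (mul_mem hx (f.hs.le p.2.2)) _, by
          calc g ^ (p.1 : ℕ) * (x * (p.2 : G)) * (g ^ (p.1 : ℕ))⁻¹ *
              (g ^ (p.1 : ℕ) * (x * (p.2 : G)) * (g ^ (p.1 : ℕ))⁻¹)
              = g ^ (p.1 : ℕ) * (x * ((p.2 : G) * x) * p.2) * (g ^ (p.1 : ℕ))⁻¹ := by group
            _ = g ^ (p.1 : ℕ) * ((x * x) * ((p.2 : G) * p.2)) * (g ^ (p.1 : ℕ))⁻¹ := by
              rw [(f.hs.central _ p.2.2 x hx).eq]; group
            _ = t := by
              rw [f.hs.esq _ p.2.2, hxt, mul_one, (((f.g_E t f.ht).pow_left (p.1 : ℕ))).eq,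
                mul_inv_cancel_right]⟩
    have hinj : Function.Injective φ := by
      rintro ⟨i, z⟩ ⟨j, w⟩ hij
      wlog hle : (j : ℕ) ≤ (i : ℕ) generalizing i j z w
      · exact (this j w i z hij.symm (le_of_not_ge hle)).symm
      have h1 : g ^ (i : ℕ) * (x * (z : G)) * (g ^ (i : ℕ))⁻¹ =
          g ^ (j : ℕ) * (x * (w : G)) * (g ^ (j : ℕ))⁻¹ := congrArg Subtype.val hij
      obtain ⟨d, hd⟩ := Nat.exists_eq_add_of_le hle
      rw [hd, pow_add] at h1
      have h2 : g ^ d * (x * (z : G)) * (g ^ d)⁻¹ = x * (w : G) := by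
        refine (MulAut.conj (g ^ (j : ℕ))).injective ?_
        show g ^ (j : ℕ) * _ * (g ^ (j : ℕ))⁻¹ = g ^ (j : ℕ) * _ * (g ^ (j : ℕ))⁻¹
        rw [← h1]; group
      have hc : Commute (g ^ d) (z : G) := (f.g_E z z.2).pow_left d
      have hwz : (w : G) * (z : G)⁻¹ ∈ E := mul_mem w.2 (inv_mem z.2)
      have h3 : g ^ d * x * (g ^ d)⁻¹ = x * ((w : G) * (z : G)⁻¹) := by
        calc g ^ d * x * (g ^ d)⁻¹ =
            g ^ d * (x * (z : G)) * (g ^ d)⁻¹ * (g ^ d * (z : G)⁻¹ * (g ^ d)⁻¹) := by group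
          _ = _ := by rw [h2, hc.inv_right.eq, mul_inv_cancel_right, mul_assoc]
      have h5 := f.five_dvd_of_fix hx hxE hwz h3
      have hd0 : d = 0 := by
        have := i.2; have := j.2
        obtain ⟨q, hq⟩ := h5
        omega
      obtain rfl : i = j := Fin.ext (by omega)
      rw [hd0, pow_zero, one_mul, inv_one, mul_one] at h2
      exact Prod.ext rfl (Subtype.ext (mul_left_cancel h2))
    haveI := Fintype.ofFinite E
    have hbij : Function.Bijective φ := by
      refine (Nat.bijective_iff_injective_and_card φ).2 ⟨hinj, ?_⟩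
      rw [Nat.card_prod, f.hs.card_fib f.ht f.ht1, f.hs.cardE, Nat.card_fin]
    obtain ⟨⟨i, z⟩, he⟩ := hbij.2 ⟨y, hy, hyt⟩
    obtain ⟨w, hw, hwx⟩ := f.hs.coset x hx hxE z z.2
    refine ⟨g ^ (i : ℕ) * w, ?_⟩
    calc g ^ (i : ℕ) * w * x * (g ^ (i : ℕ) * w)⁻¹ = g ^ (i : ℕ) * (w * x * w⁻¹) * (g ^ (i : ℕ))⁻¹ := by
          group
      _ = y := by rw [hwx]; exact congrArg Subtype.val he
  obtain ⟨o, ho, -, hou⟩ := f.toCtx.odd_trans (f.hs.sq u hu) (fun h => huE (f.hs.invol u hu h))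
  obtain ⟨o', ho', -, hov⟩ := f.toCtx.odd_trans (f.hs.sq v hv) (fun h => hvE (f.hs.invol v hv h))
  obtain ⟨w, hw⟩ := key _ ((Subgroup.mem_normalizer_iff.1 ho u).1 hu) (by rw [← hou]; group)
    _ ((Subgroup.mem_normalizer_iff.1 ho' v).1 hv) (by rw [← hov]; group)
  refine ⟨o'⁻¹ * w * o, ?_⟩
  calc o'⁻¹ * w * o * u * (o'⁻¹ * w * o)⁻¹ = o'⁻¹ * (w * (o * u * o⁻¹) * w⁻¹) * o' := by group
    _ = v := by rw [hw]; group

variable {M : Ideal AlgInt} (hM : IsPModular 2 M)
include hM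

/-- The value at elements with 2-part of order four. -/
theorem value_four {χ : IrrCharacter G} (hχ : χ ∈ principalBlock M G) :
    ∃ a : ℤ, classInner f.alphaF (χ : G → ℂ) = a ∧
      ∀ x : G, orderOf (pPt 2 x) = 4 → (χ : G → ℂ) x = a := by
  obtain ⟨a, ha⟩ := (Char.isGeneralizedCharacter_iff.1 f.alphaF_virtual).2 _ χ.2
  refine ⟨a, ha, ?_⟩
  obtain ⟨x0, hx0, hx0E⟩ := f.exists_outside
  have hsame : ∀ u ∈ (S : Subgroup G), u ∉ E → (χ : G → ℂ) u = (χ : G → ℂ) x0 := by
    intro u hu huE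
    obtain ⟨w, hw⟩ := f.conj_four hx0 hx0E hu huE
    rw [← hw, χ.2.isClassFunction]
  have hval : ∀ x : G, orderOf (pPt 2 x) = 4 → (χ : G → ℂ) x = (χ : G → ℂ) x0 := by
    intro x hx
    obtain ⟨y, hy⟩ := f.toCtx.exists_conj_mem (exists_orderOf_pPt (p := 2) x)
    rw [f.toCtx.principal_four hM f.hls hχ hx hy]
    exact hsame _ hy ((f.toCtx.order_four_iff hy).1 (by rw [orderOf_conj', hx]))
  have h := f.inner_five (a := 16) (f2 := fun _ => 0) (F' := (χ : G → ℂ))
    (b := conj ((χ : G → ℂ) x0)) (h2 := fun _ => 0) χ.2.isClassFunction (fun l hl s hs hsE _ => by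
      obtain ⟨⟨k, -, hw⟩, -⟩ := f.toCtx.pPt_ls hl hs
      rw [hval _ (by rw [hw, orderOf_conj', f.toCtx.orderOf_four hs hsE])])
    (fun l _ => by simp) (fun l _ s _ k _ _ => by simp)
  rw [show theta Kc S t g (fun _ => (16 : ℂ)) (fun _ => 0) = f.alphaF from rfl, ha] at h
  intro x hx
  rw [hval x hx, ← Complex.conj_conj ((χ : G → ℂ) x0)]
  have h' : conj ((χ : G → ℂ) x0) = a := by
    rw [h]; simp only [mul_zero, Finset.sum_const_zero, add_zero]; ring
  rw [h', map_intCast]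

/-- The value at `t`. -/
theorem value_t {χ : IrrCharacter G} (hχ : χ ∈ principalBlock M G) {a : ℤ} {b : ZMod 5 → ℤ}
    (ha : classInner f.alphaF (χ : G → ℂ) = a) (hb : ∀ j, classInner (f.betaF j) (χ : G → ℂ) = b j) :
    (χ : G → ℂ) t = ((5 * a - 4 * ∑ j, b j : ℤ) : ℂ) := by
  set F : G → ℂ := (5 : ℂ) • f.alphaF - (4 : ℂ) • ∑ j, f.betaF j with hF
  have hFv : F = theta Kc S t g (fun _ => 0) (fun k => if k = 0 then 320 else 0) := by
    funext x
    simp only [hF, Pi.sub_apply, Pi.smul_apply, Finset.sum_apply, smul_eq_mul, alphaF, betaF]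
    rcases f.toCtx.order_cases (exists_orderOf_pPt (p := 2) x) with h | h | h
    · simp [f.toCtx.theta_one h]
    · obtain ⟨y, hy⟩ := f.toCtx.exists_conj_t h
      simp only [f.toCtx.theta_two (f.inv_const _ _) hy]
      generalize kidx Kc S t g (y * pReg 2 x * y⁻¹) = k
      rw [← Finset.mul_sum, Finset.sum_sub_distrib, Finset.sum_const, Finset.card_univ, ZMod.card,
        psi_sum]
      split_ifs <;> norm_num
    · obtain ⟨y, hy⟩ := f.toCtx.exists_conj_mem (exists_orderOf_pPt (p := 2) x)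
      simp only [f.toCtx.theta_four (f.inv_const _ _) h hy, Finset.sum_const, Finset.card_univ, ZMod.card]
      norm_num
  have h1 : classInner F (χ : G → ℂ) = ((5 * a - 4 * ∑ j, b j : ℤ) : ℂ) := by
    rw [hF, Char.classInner_sub_left, Char.classInner_smul_left, Char.classInner_smul_left,
      Char.classInner_sum_left, ha, Finset.sum_congr rfl fun j _ => hb j]
    push_cast; ring
  have h2 := f.inner_five (a := 0) (f2 := fun k => if k = 0 then 320 else 0) (F' := (χ : G → ℂ))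
    (b := 0) (h2 := fun _ => conj ((χ : G → ℂ) t)) χ.2.isClassFunction
    (fun l _ s _ _ _ => by simp)
    (fun l hl => by
      rw [(mem_Ct.1 (f.toCtx.lsub_le hl)).eq, f.toCtx.principal_t hM hχ hl])
    (fun l _ s _ k hk _ => by
      rw [if_neg fun h => hk ((ZMod.natCast_eq_zero_iff k 5).1 h)]; simp)
  rw [← hFv, h1] at h2
  simp only [if_pos, mul_zero, zero_add] at h2
  rw [Finset.sum_eq_zero (s := (Finset.univ : Finset (Fin 4))) (fun i _ => by rw [if_neg (by revert i; decide), zero_mul]), mul_zero, add_zero,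
    mul_div_assoc] at h2
  have : conj ((χ : G → ℂ) t) = ((5 * a - 4 * ∑ j, b j : ℤ) : ℂ) := by
    rw [h2]; ring
  rw [← Complex.conj_conj ((χ : G → ℂ) t), this, map_intCast]

theorem row_zero {χ : IrrCharacter G} (hχ : χ ∉ principalBlock M G) :
    classInner f.alphaF (χ : G → ℂ) = 0 ∧ ∀ j, classInner (f.betaF j) (χ : G → ℂ) = 0 :=
  ⟨f.toCtx.classInner_theta_zero hM (f.inv_const 16 _) f.hls hχ (f.nonprincipal_two hM hχ (fun _ => 0)),
    fun j => f.toCtx.classInner_theta_zero hM (f.inv_const 4 _) f.hls hχ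
      (f.nonprincipal_two hM hχ (fun k => 4 * (psi j k - ∑ i, psi i k)))⟩

end Five

end Cfsg.Lib.PiHom.U34
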