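import Cfsg.Agent.Lib.PiHom.U34.Cosets
import Cfsg.Agent.Lib.Char.Orthogonality
import Mathlib.Algebra.BigOperators.Fin

/-!
# Inner products of class functions on the singular elements

They reduce to sums over the representatives in `S` of the cosets of `L`.
-/

set_option autoImplicit false
set_option linter.unusedSectionVars false
set_option linter.style.haveILetI false

namespace Cfsg.Lib.PiHom.U34

open Cfsg Cfsg.Lib Cfsg.Lib.Block
open scoped ComplexConjugate Classical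

universe u

variable {G : Type u} [Group G] [Fintype G] {Kc : Subgroup G}

namespace Ctx

variable {S : Sylow 2 G} {E : Subgroup G} {t : G} (c : Ctx Kc S E t)
include c

/-- A class function on the singular elements against any class function. -/
theorem classInner_local {F F' : G → ℂ} (hF : IsClassFunction G F) (hF' : IsClassFunction G F')
    (h0 : ∀ x, pPt 2 x = 1 → F x = 0) {v : ℂ} {n : ℕ}
    (hn : Nat.card (Ct t) = n) (hv : ∑ x ∈ Finset.univ.filter (fun x => tinv x = t), F x * conj (F' x) = v) :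
    classInner F F' = v / n := by
  have h := c.sum_local (F := fun x => F x * conj (F' x))
    (fun g k => by simp only [hF g k, hF' g k]) (fun x hx => by simp [h0 x hx])
  rw [hv, hn] at h
  have hnz : (n : ℂ) ≠ 0 := by
    rw [← hn]; exact Char.card_cast_ne_zero
  rw [classInner, eq_div_iff hnz]
  calc (Nat.card G : ℂ)⁻¹ * (∑ g, F g * conj (F' g)) * n =
      (Nat.card G : ℂ)⁻¹ * ((n : ℂ) * ∑ g, F g * conj (F' g)) := by ring
    _ = v := by rw [h, ← mul_assoc, inv_mul_cancel₀ Char.card_cast_ne_zero, one_mul]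

/-- The decomposition map in case three. -/
def mapThree (_c : Ctx Kc S E t) (p : lsub Kc S t × (S : Subgroup G)) : Ct t :=
  ⟨(p.1 : G) * p.2, mul_mem (_c.lsub_le p.1.2) (_c.sylow_le_Ct p.2.2)⟩

theorem mapThree_bij
    (h3 : ∀ o, Odd (orderOf o) → o ∈ Subgroup.normalizer ((S : Subgroup G) : Set G) → o ∈ Ct t →
      ∀ x ∈ (S : Subgroup G), Commute o x) :
    Function.Bijective c.mapThree := by
  refine ⟨fun p q h => ?_, fun x => ?_⟩
  · obtain ⟨h1, h2⟩ := c.ls_unique p.1.2 q.1.2 p.2.2 q.2.2 (congrArg Subtype.val h)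
    exact Prod.ext (Subtype.ext h1) (Subtype.ext h2)
  · obtain ⟨l, s, hl, hs, he⟩ := c.decomp_three h3 x.2
    exact ⟨(⟨l, hl⟩, ⟨s, hs⟩), Subtype.ext he.symm⟩

theorem card_Ct_three
    (h3 : ∀ o, Odd (orderOf o) → o ∈ Subgroup.normalizer ((S : Subgroup G) : Set G) → o ∈ Ct t →
      ∀ x ∈ (S : Subgroup G), Commute o x) :
    Nat.card (Ct t) = Nat.card (lsub Kc S t) * 64 := by
  rw [← Nat.card_congr (Equiv.ofBijective _ (c.mapThree_bij h3)), Nat.card_prod, c.hs.cardS]

theorem sum_ls {H : G → ℂ} {v4 : G → ℂ} {v0 : ℂ}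
    (h4 : ∀ l ∈ lsub Kc S t, ∀ s ∈ (S : Subgroup G), s ∉ E → s * s = t → H (l * s) = v4 s)
    (h0 : ∀ l ∈ lsub Kc S t, H (l * t) = v0) :
    ∑ p : lsub Kc S t × (S : Subgroup G), (if tinv ((p.1 : G) * p.2) = t then H ((p.1 : G) * p.2) else 0) =
      (Nat.card (lsub Kc S t) : ℂ) *
        (∑ s ∈ Finset.univ.filter (fun s => s ∈ Fib (S : Subgroup G) t), v4 s + v0) := by
  classical
  have hval : ∀ (l : lsub Kc S t) (s : (S : Subgroup G)),
      (if tinv ((l : G) * s) = t then H ((l : G) * s) else 0) =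
      (if (s : G) * s = t then v4 s else 0) + (if (s : G) = t then v0 else 0) := by
    intro l s
    by_cases hst : (s : G) = t
    · rw [if_pos ((c.tinv_ls l.2 s.2).2 (Or.inl hst)), if_neg (show ¬ (s : G) * s = t from by
        rw [hst, c.t_sq]; exact Ne.symm c.ht1), if_pos hst, zero_add, hst]
      exact h0 _ l.2
    · rw [if_neg hst, add_zero]
      by_cases hss : (s : G) * s = t
      · have hsE : (s : G) ∉ E := fun h => c.ht1 (by rw [← hss, c.hs.esq _ h])
        rw [if_pos ((c.tinv_ls l.2 s.2).2 (Or.inr ⟨hsE, hss⟩)), if_pos hss, h4 _ l.2 _ s.2 hsE hss]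
      · rw [if_neg hss, if_neg fun h => ((c.tinv_ls l.2 s.2).1 h).elim hst fun h' => hss h'.2]
  rw [Fintype.sum_prod_type, Finset.sum_congr rfl fun l _ => Finset.sum_congr rfl fun s _ => hval l s]
  rw [Finset.sum_const, Finset.card_univ, nsmul_eq_mul, Nat.card_eq_fintype_card, Finset.sum_add_distrib]
  congr 2
  · rw [← Finset.sum_filter]
    refine Finset.sum_bij' (fun s _ => (s : G)) (fun x hx => ⟨x, ?_⟩) ?_ ?_ ?_ ?_ ?_
    · exact ((Finset.mem_filter.1 hx).2).1
    · intro s hs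
      exact Finset.mem_filter.2 ⟨Finset.mem_univ _, s.2, (Finset.mem_filter.1 hs).2⟩
    · intro x hx
      exact Finset.mem_filter.2 ⟨Finset.mem_univ _, (Finset.mem_filter.1 hx).2.2⟩
    · intro s _; rfl
    · intro x _; rfl
    · intro s _; rfl
  · rw [Finset.sum_eq_single (⟨t, c.t_mem⟩ : (S : Subgroup G))]
    · rw [if_pos rfl]
    · intro s _ hs; rw [if_neg fun h => hs (Subtype.ext h)]
    · intro h; exact absurd (Finset.mem_univ _) h

theorem sum_three
    (h3 : ∀ o, Odd (orderOf o) → o ∈ Subgroup.normalizer ((S : Subgroup G) : Set G) → o ∈ Ct t →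
      ∀ x ∈ (S : Subgroup G), Commute o x)
    {H : G → ℂ} {v4 : G → ℂ} {v0 : ℂ}
    (h4 : ∀ l ∈ lsub Kc S t, ∀ s ∈ (S : Subgroup G), s ∉ E → s * s = t → H (l * s) = v4 s)
    (h0 : ∀ l ∈ lsub Kc S t, H (l * t) = v0) :
    ∑ x ∈ Finset.univ.filter (fun x => tinv x = t), H x =
      (Nat.card (lsub Kc S t) : ℂ) *
        (∑ s ∈ Finset.univ.filter (fun s => s ∈ Fib (S : Subgroup G) t), v4 s + v0) := by
  classical
  rw [← c.sum_ls h4 h0]
  refine Eq.trans ?_ (Fintype.sum_equiv (Equiv.ofBijective _ (c.mapThree_bij h3))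
    _ (fun x : Ct t => if tinv (x : G) = t then H x else 0) fun p => rfl).symm
  rw [← Finset.sum_filter]
  refine Finset.sum_bij' (fun x hx => (⟨x, c.mem_Ct_of_tinv (Finset.mem_filter.1 hx).2⟩ : Ct t))
    (fun x _ => (x : G)) ?_ ?_ ?_ ?_ ?_
  · intro x hx
    exact Finset.mem_filter.2 ⟨Finset.mem_univ _, (Finset.mem_filter.1 hx).2⟩
  · intro x hx
    exact Finset.mem_filter.2 ⟨Finset.mem_univ _, (Finset.mem_filter.1 hx).2⟩
  · intro x _; rfl
  · intro x _; rfl
  · intro x _; rfl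

end Ctx

namespace Five

variable {S : Sylow 2 G} {E : Subgroup G} {t g : G} (f : Five Kc S E t g)
include f

/-- The decomposition map in case five. -/
def mapFive (_f : Five Kc S E t g) (p : Fin 5 × (lsub Kc S t × (S : Subgroup G))) : Ct t :=
  ⟨(p.2.1 : G) * p.2.2 * g ^ (p.1 : ℕ),
    mul_mem (mul_mem (_f.toCtx.lsub_le p.2.1.2) (_f.toCtx.sylow_le_Ct p.2.2.2))
      (pow_mem _f.g_cent _)⟩

theorem mapFive_bij : Function.Bijective f.mapFive := by
  refine ⟨fun p q h => ?_, fun x => ?_⟩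
  · obtain ⟨i, l, s⟩ := p
    obtain ⟨j, l', s'⟩ := q
    have h' : (l : G) * s * g ^ (i : ℕ) = (l' : G) * s' * g ^ (j : ℕ) := congrArg Subtype.val h
    have hij : i = j := by
      have h5 := f.unique l.2 l'.2 s.2 s'.2 h'
      rw [ZMod.natCast_eq_natCast_iff', Nat.mod_eq_of_lt i.2, Nat.mod_eq_of_lt j.2] at h5
      exact Fin.ext h5
    subst hij
    obtain ⟨h1, h2⟩ := f.toCtx.ls_unique l.2 l'.2 s.2 s'.2 (mul_right_cancel h')
    rw [Subtype.ext h1, Subtype.ext h2]
  · obtain ⟨l, s, k, hl, hs, he⟩ := f.decomp_five x.2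
    set q := k / 5
    have hd : g ^ (5 * q) ∈ dsub S := by rw [pow_mul]; exact pow_mem f.g5 q
    refine ⟨(⟨k % 5, Nat.mod_lt _ (by norm_num)⟩,
      ⟨l * g ^ (5 * q), mul_mem hl (le_sup_right (a := Kc) hd)⟩, ⟨s, hs⟩), Subtype.ext ?_⟩
    show l * g ^ (5 * q) * s * g ^ (k % 5) = x
    rw [he, mul_assoc l (g ^ (5 * q)) s, ((f.toCtx.mem_dsub.1 hd).2 s hs).eq, ← mul_assoc, mul_assoc,
      ← pow_add, Nat.div_add_mod]

theorem card_Ct_five : Nat.card (Ct t) = Nat.card (lsub Kc S t) * 320 := by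
  rw [← Nat.card_congr (Equiv.ofBijective _ f.mapFive_bij), Nat.card_prod, Nat.card_prod, f.hs.cardS,
    Nat.card_fin]
  ring

theorem sum_five {H : G → ℂ} {v4 : G → ℂ} {v2 : ZMod 5 → ℂ}
    (h4 : ∀ l ∈ lsub Kc S t, ∀ s ∈ (S : Subgroup G), s ∉ E → s * s = t → H (l * s) = v4 s)
    (h0 : ∀ l ∈ lsub Kc S t, H (l * t) = v2 0)
    (hk : ∀ l ∈ lsub Kc S t, ∀ s ∈ (S : Subgroup G), ∀ k : ℕ, ¬ 5 ∣ k → f.eps k s = t →
      H (l * s * g ^ k) = v2 k) :
    ∑ x ∈ Finset.univ.filter (fun x => tinv x = t), H x =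
      (Nat.card (lsub Kc S t) : ℂ) *
        (∑ s ∈ Finset.univ.filter (fun s => s ∈ Fib (S : Subgroup G) t), v4 s + v2 0 +
          16 * ∑ i : Fin 4, v2 ((i : ℕ) + 1 : ℕ)) := by
  classical
  have hfull : ∑ x ∈ Finset.univ.filter (fun x => tinv x = t), H x =
      ∑ x : Ct t, (if tinv (x : G) = t then H x else 0) := by
    rw [← Finset.sum_filter]
    refine Finset.sum_bij' (fun x hx => (⟨x, f.toCtx.mem_Ct_of_tinv (Finset.mem_filter.1 hx).2⟩ : Ct t))
      (fun x _ => (x : G)) ?_ ?_ ?_ ?_ ?_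
    · intro x hx
      exact Finset.mem_filter.2 ⟨Finset.mem_univ _, (Finset.mem_filter.1 hx).2⟩
    · intro x hx
      exact Finset.mem_filter.2 ⟨Finset.mem_univ _, (Finset.mem_filter.1 hx).2⟩
    · intro x _; rfl
    · intro x _; rfl
    · intro x _; rfl
  rw [hfull, ← Fintype.sum_equiv (Equiv.ofBijective _ f.mapFive_bij) _
    (fun x : Ct t => if tinv (x : G) = t then H x else 0) fun p => rfl, Fintype.sum_prod_type,
    Fin.sum_univ_succ, mul_add (Nat.card (lsub Kc S t) : ℂ)]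
  congr 1
  · rw [← f.toCtx.sum_ls h4 h0]
    refine Finset.sum_congr rfl fun p _ => ?_
    simp [mapFive]
  · rw [Finset.mul_sum, Finset.mul_sum]
    refine Finset.sum_congr rfl fun i _ => ?_
    have hk5 : ¬ 5 ∣ (i : ℕ) + 1 := fun h => by have := Nat.le_of_dvd (by omega) h; omega
    have hval : ∀ (l : lsub Kc S t) (s : (S : Subgroup G)),
        (if tinv ((f.mapFive (i.succ, (l, s)) : G)) = t then H (f.mapFive (i.succ, (l, s))) else 0) =
        (if f.eps ((i : ℕ) + 1) s = t then v2 ((i : ℕ) + 1 : ℕ) else 0) := by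
      intro l s
      show (if tinv ((l : G) * s * g ^ ((i.succ : Fin 5) : ℕ)) = t then
        H ((l : G) * s * g ^ ((i.succ : Fin 5) : ℕ)) else 0) = _
      rw [Fin.val_succ]
      by_cases he : f.eps ((i : ℕ) + 1) s = t
      · rw [if_pos ((f.tinv_five l.2 s.2 hk5).2 he), if_pos he, hk _ l.2 _ s.2 _ hk5 he]
      · rw [if_neg fun h => he ((f.tinv_five l.2 s.2 hk5).1 h), if_neg he]
    rw [Fintype.sum_prod_type]
    refine Eq.trans (Finset.sum_congr rfl fun l _ => Finset.sum_congr rfl fun s _ => hval l s) ?_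
    rw [Finset.sum_const, Finset.card_univ, nsmul_eq_mul, Nat.card_eq_fintype_card, ← Finset.sum_filter,
      Finset.sum_const, nsmul_eq_mul, ← Fintype.card_subtype, ← Nat.card_eq_fintype_card (α := {s : (S : Subgroup G) // f.eps ((i : ℕ) + 1) s = t}),
      f.card_eps hk5]
    push_cast
    ring

end Five

end Cfsg.Lib.PiHom.U34
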