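import Cfsg.Agent.Lib.PiHom.Min
import Cfsg.Agent.S1248

/-!
# The Sylow 2-subgroup of order 64

`S` has order 64, all commutators and squares lie in the four-group `E` of its involutions, and an
element outside `E` has commutators outside each subgroup of order two of `E`.
-/

set_option autoImplicit false
set_option linter.unusedSectionVars false
set_option linter.style.haveILetI false

namespace Cfsg.Lib.PiHom.U34

open Cfsg

universe u

variable {π : Set ℕ} {G : Type u} [Group G] [Finite G]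

/-- The shape of a Sylow 2-subgroup of `U₃(4)`, inside an ambient group. -/
structure Shape (S E : Subgroup G) : Prop where
  le : E ≤ S
  cardS : Nat.card S = 64
  cardE : Nat.card E = 4
  esq : ∀ e ∈ E, e * e = 1
  invol : ∀ x ∈ S, x * x = 1 → x ∈ E
  central : ∀ e ∈ E, ∀ x ∈ S, Commute e x
  sq : ∀ x ∈ S, x * x ∈ E
  comm : ∀ x ∈ S, ∀ y ∈ S, x * y * x⁻¹ * y⁻¹ ∈ E
  coset : ∀ x ∈ S, x ∉ E → ∀ z ∈ E, ∃ y ∈ S, y * x * y⁻¹ = x * z
  trans : ∀ a ∈ E, ∀ b ∈ E, a ≠ 1 → b ≠ 1 →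
    ∃ n ∈ Subgroup.normalizer (S : Set G), n * a * n⁻¹ = b

theorem shape_of_iso {S : Sylow 2 G} {E : Subgroup G} (hE : Three π S E) {F : Type} [Field F]
    [Fintype F] (hF : Fintype.card F = 16) (P : Sylow 2 (Cfsg.PSU 3 F 4))
    (e : (S : Subgroup G) ≃* (P : Subgroup (Cfsg.PSU 3 F 4))) :
    Shape (S : Subgroup G) E := by
  obtain ⟨hc, -⟩ := Cfsg.Agent.S1248.result hF P
  obtain ⟨U, u, ⟨i⟩, hu, hmul⟩ := Cfsg.Agent.S1248.struct hF P
  have h2 := Cfsg.Lib.U34.two_eq_zero hF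
  set f : Cfsg.Agent.S1248.Par F → (S : Subgroup G) := fun p => e.symm (i (u p)) with hf
  have hfb : Function.Bijective f := (e.symm.bijective.comp i.bijective).comp hu
  have hfm : ∀ p r, f p * f r =
      f ⟨(p.1.1 + r.1.1, p.1.2 + r.1.2 + p.1.1 ^ 4 * r.1.1), Cfsg.Agent.S1248.par_mul hF p r⟩ :=
    fun p r => by simp only [hf]; rw [← map_mul, ← map_mul, hmul]
  set o : Cfsg.Agent.S1248.Par F := ⟨(0, 0), by simp⟩ with ho
  have hf1 : f o = 1 := by
    have h1 := hfm o o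
    refine mul_left_cancel (a := f o) ?_
    rw [h1, mul_one]
    exact congrArg f (Subtype.ext (Prod.ext (by simp [ho]) (by simp [ho])))
  have hE' : ∀ p : Cfsg.Agent.S1248.Par F, (f p : G) ∈ E ↔ p.1.1 = 0 := by
    intro p
    have hsq : f p * f p = 1 ↔ p.1.1 = 0 := by
      rw [hfm, ← hf1, hfb.1.eq_iff, Subtype.ext_iff, Prod.ext_iff]
      simp only [ho]
      constructor
      · rintro ⟨-, h⟩
        by_contra hy
        exact pow_ne_zero 5 hy (by linear_combination h - p.1.2 * h2)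
      · intro hy
        exact ⟨by rw [hy]; ring, by rw [hy]; linear_combination p.1.2 * h2⟩
    constructor
    · exact fun h => hsq.1 (Subtype.ext (hE.sq _ h))
    · exact fun h => hE.invol _ (f p).2 (congrArg Subtype.val (hsq.2 h))
  refine ⟨hE.le, (Nat.card_congr e.toEquiv).trans hc, hE.card, hE.sq, hE.invol, hE.central,
    fun x hx => ?_, fun x hx y hy => ?_, fun x hx hxE z hz => ?_, hE.trans⟩
  · obtain ⟨p, hp⟩ := hfb.2 ⟨x, hx⟩
    have := congrArg Subtype.val (hfm p p)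
    rw [hp, Subgroup.coe_mul] at this
    rw [this, hE']
    exact (show p.1.1 + p.1.1 = 0 by linear_combination p.1.1 * h2)
  · obtain ⟨p, hp⟩ := hfb.2 ⟨x, hx⟩
    obtain ⟨r, hr⟩ := hfb.2 ⟨y, hy⟩
    obtain ⟨q, hq⟩ := hfb.2 (f p * f r * (f p)⁻¹ * (f r)⁻¹)
    have hxy : (f q : G) = x * y * x⁻¹ * y⁻¹ := by rw [hq, hp, hr]; rfl
    rw [← hxy, hE']
    have h1 : f p * f r = f q * (f r * f p) := by rw [hq]; group
    rw [hfm, hfm, hfm, hfb.1.eq_iff, Subtype.ext_iff, Prod.ext_iff] at h1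
    have h1' : p.1.1 + r.1.1 = q.1.1 + (r.1.1 + p.1.1) := h1.1
    linear_combination -h1'
  · obtain ⟨p, hp⟩ := hfb.2 ⟨x, hx⟩
    obtain ⟨r, hr⟩ := hfb.2 ⟨z, hE.le hz⟩
    have hp0 : p.1.1 ≠ 0 := fun h => hxE (by have := (hE' p).2 h; rwa [hp] at this)
    have hr0 : r.1.1 = 0 := (hE' r).1 (by rw [hr]; exact hz)
    have hrb : r.1.2 ^ 4 = r.1.2 := by
      have := r.2
      rw [hr0] at this
      linear_combination this - r.1.2 * h2
    obtain ⟨w, hw⟩ := Cfsg.Agent.S1248.exists_trace_eq hF r.1.2 hrb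
    obtain ⟨v, hv⟩ : ∃ v, p.1.1 ^ 4 * v = w :=
      ⟨(p.1.1 ^ 4)⁻¹ * w, by rw [mul_inv_cancel_left₀ (pow_ne_zero 4 hp0)]⟩
    have hv5 : (v ^ 5) ^ 4 = v ^ 5 := by
      rw [← pow_mul, show 5 * 4 = 16 + 4 from rfl, pow_add, Cfsg.Agent.S1248.pow16 hF, ← pow_succ']
    obtain ⟨b, hb⟩ := Cfsg.Agent.S1248.exists_trace_eq hF _ hv5
    refine ⟨f ⟨(v, b), hb⟩, (f _).2, ?_⟩
    have key : f ⟨(v, b), hb⟩ * f p = (f p * f r) * f ⟨(v, b), hb⟩ := by
      rw [hfm, hfm, hfm]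
      refine congrArg f (Subtype.ext (Prod.ext ?_ ?_))
      · show v + p.1.1 = p.1.1 + r.1.1 + v
        rw [hr0]; ring
      · show b + p.1.2 + v ^ 4 * p.1.1 =
          p.1.2 + r.1.2 + p.1.1 ^ 4 * r.1.1 + b + (p.1.1 + r.1.1) ^ 4 * v
        have hw4 : v ^ 4 * p.1.1 = w ^ 4 := by
          rw [← hv, mul_pow, ← pow_mul, Cfsg.Agent.S1248.pow16 hF, mul_comm]
        rw [hr0, add_zero, mul_zero, add_zero, hv, hw4]
        linear_combination hw - w * h2
    have := congrArg Subtype.val key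
    rw [hp, hr] at this
    simp only [Subgroup.coe_mul] at this
    rw [mul_inv_eq_iff_eq_mul]
    exact this

namespace Shape

variable {S E : Subgroup G} (hs : Shape S E)
include hs

theorem inv_eq {e : G} (he : e ∈ E) : e⁻¹ = e :=
  inv_eq_of_mul_eq_one_right (hs.esq e he)

end Shape

end Cfsg.Lib.PiHom.U34
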