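import Cfsg.Agent.Lib.PiHom.U34.FiveValues
import Cfsg.Agent.Lib.Char.InvolutionSetSum
import Cfsg.Agent.Lib.Block.RegInt

/-!
# Case three is impossible

No odd element of the normalizer of `S` fixing `t` moves `S`; a generalized character of norm four
contradicts the class multiplication of the involutions.
-/

set_option autoImplicit false
set_option linter.unusedSectionVars false
set_option linter.style.haveILetI false

namespace Cfsg.Lib.PiHom.U34

open Cfsg Cfsg.Lib Cfsg.Lib.Block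
open scoped ComplexConjugate Classical

universe u

variable {G : Type u} [Group G] [Fintype G] {Kc : Subgroup G}

/-- The data of case three, with an element permuting the involutions of `S` cyclically. -/
structure Cyc (Kc : Subgroup G) (S : Sylow 2 G) (E : Subgroup G) (t o : G) : Prop extends Ctx Kc S E t where
  h3 : ∀ x, Odd (orderOf x) → x ∈ Subgroup.normalizer ((S : Subgroup G) : Set G) → x ∈ Ct t →
    ∀ y ∈ (S : Subgroup G), Commute x y
  o_norm : o ∈ Subgroup.normalizer ((S : Subgroup G) : Set G)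
  o_odd : Odd (orderOf o)
  o_move : o * t * o⁻¹ ≠ t

namespace Ctx

variable {S : Sylow 2 G} {E : Subgroup G} {t : G} (c : Ctx Kc S E t)
include c

theorem exists_cyc
    (h3 : ∀ x, Odd (orderOf x) → x ∈ Subgroup.normalizer ((S : Subgroup G) : Set G) → x ∈ Ct t →
      ∀ y ∈ (S : Subgroup G), Commute x y) : ∃ o, Cyc Kc S E t o := by
  obtain ⟨a, b, d, ha, hb, -, ha1, hb1, -, hab, -, -, -⟩ := c.hs.exists_three
  obtain ⟨s, hs, hs1, hst⟩ : ∃ s ∈ E, s ≠ 1 ∧ s ≠ t := by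
    by_cases h : a = t
    · exact ⟨b, hb, hb1, fun e => hab (h.trans e.symm)⟩
    · exact ⟨a, ha, ha1, h⟩
  obtain ⟨o, hon, hoo, hot⟩ := c.odd_trans hs hs1
  exact ⟨o, ⟨c, h3, hon, hoo, fun h => hst (mul_left_cancel (mul_right_cancel (hot.trans h.symm)))⟩⟩

end Ctx

namespace Cyc

variable {S : Sylow 2 G} {E : Subgroup G} {t o : G} (C : Cyc Kc S E t o)
include C

theorem o_pow_norm (k : ℕ) : o ^ k ∈ Subgroup.normalizer ((S : Subgroup G) : Set G) :=
  pow_mem C.o_norm k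

theorem o_mem {u : G} (hu : u ∈ (S : Subgroup G)) (k : ℕ) :
    o ^ k * u * (o ^ k)⁻¹ ∈ (S : Subgroup G) :=
  (Subgroup.mem_normalizer_iff.1 (C.o_pow_norm k) u).1 hu

theorem o_cyc : (∀ z ∈ E, z ≠ 1 → z = t ∨ z = o * t * o⁻¹ ∨ z = o ^ 2 * t * (o ^ 2)⁻¹) ∧
    o ^ 3 * t * (o ^ 3)⁻¹ = t := by
  have h2 : o ^ 2 * t * (o ^ 2)⁻¹ ≠ t := fun h => C.o_move (by
    have hc : Commute (o ^ 2) t := mul_inv_eq_iff_eq_mul.1 h
    obtain ⟨j, hj⟩ := C.o_odd
    have : o = (o ^ 2) ^ (j + 1) := by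
      rw [← pow_mul, show 2 * (j + 1) = orderOf o + 1 by omega, pow_succ, pow_orderOf_eq_one, one_mul]
    rw [this, (hc.pow_left _).eq, mul_inv_cancel_right])
  set z1 := o * t * o⁻¹ with hz1
  set z2 := o ^ 2 * t * (o ^ 2)⁻¹ with hz2
  have h1E : z1 ∈ E := C.toCtx.E_normalized C.o_norm C.ht
  have h2E : z2 ∈ E := C.toCtx.E_normalized (C.o_pow_norm 2) C.ht
  have h12 : z1 ≠ z2 := fun h => C.o_move (by
    have h' : o * (o * t * o⁻¹) * o⁻¹ = o * t * o⁻¹ := by
      rw [show o * (o * t * o⁻¹) * o⁻¹ = z2 by rw [hz2, pow_two]; group]; exact h.symm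
    exact mul_left_cancel (mul_right_cancel h'))
  have hn1 : ∀ {w : G}, w * t * w⁻¹ ≠ 1 := fun h => C.ht1 (conj_eq_one_iff.1 h)
  have hall : ∀ z ∈ E, z ≠ 1 → z = t ∨ z = z1 ∨ z = z2 := by
    intro z hz hz0
    by_contra hcon
    push Not at hcon
    have hc5 : ({1, t, z1, z2, z} : Finset G).card = 5 := by
      rw [Finset.card_insert_of_notMem, Finset.card_insert_of_notMem, Finset.card_insert_of_notMem,
        Finset.card_insert_of_notMem, Finset.card_singleton]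
      · simpa using Ne.symm hcon.2.2
      · simp [h12, Ne.symm hcon.2.1]
      · simp only [Finset.mem_insert, Finset.mem_singleton, not_or]
        exact ⟨fun h => C.o_move h.symm, fun h => h2 h.symm, fun h => hcon.1 h.symm⟩
      · simp only [Finset.mem_insert, Finset.mem_singleton, not_or]
        exact ⟨fun h => C.ht1 h.symm, fun h => hn1 h.symm, fun h => hn1 h.symm, fun h => hz0 h.symm⟩
    have hle : ({1, t, z1, z2, z} : Finset G).card ≤ (Finset.univ.filter (fun x => x ∈ E)).card := by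
      refine Finset.card_le_card fun x hx => Finset.mem_filter.2 ⟨Finset.mem_univ _, ?_⟩
      simp only [Finset.mem_insert, Finset.mem_singleton] at hx
      rcases hx with rfl | rfl | rfl | rfl | rfl
      exacts [one_mem _, C.ht, h1E, h2E, hz]
    rw [hc5, ← Fintype.card_subtype, ← Nat.card_eq_fintype_card, C.hs.cardE] at hle
    omega
  refine ⟨hall, ?_⟩
  rcases hall _ (C.toCtx.E_normalized (C.o_pow_norm 3) C.ht) hn1 with h | h | h
  · exact h
  · exfalso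
    refine h2 ((MulAut.conj o).injective ?_)
    show o * (o ^ 2 * t * (o ^ 2)⁻¹) * o⁻¹ = o * t * o⁻¹
    rw [← hz1, ← h, pow_succ' o 2]; group
  · exfalso
    refine C.o_move ((MulAut.conj (o ^ 2)).injective ?_)
    show o ^ 2 * (o * t * o⁻¹) * (o ^ 2)⁻¹ = o ^ 2 * t * (o ^ 2)⁻¹
    rw [← hz2, ← h, pow_succ o 2]; group

theorem not_fixed {z : G} (hz : z ∈ E) (hz1 : z ≠ 1) : o * z * o⁻¹ ≠ z := by
  obtain ⟨hall, h3⟩ := C.o_cyc
  intro h
  refine C.o_move ?_
  rcases hall z hz hz1 with rfl | rfl | rfl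
  · exact h
  · exact mul_left_cancel (mul_right_cancel h)
  · rw [show o * (o ^ 2 * t * (o ^ 2)⁻¹) * o⁻¹ = o ^ 2 * (o * t * o⁻¹) * (o ^ 2)⁻¹ by group] at h
    exact mul_left_cancel (mul_right_cancel h)

theorem o3_cent : ∀ u ∈ (S : Subgroup G), Commute (o ^ 3) u :=
  C.h3 _ (C.o_odd.of_dvd_nat (orderOf_pow_dvd 3)) (C.o_pow_norm 3)
    (mem_Ct.2 (mul_inv_eq_iff_eq_mul.1 C.o_cyc.2))

theorem inner_trivial {u w : G} (hu : u ∈ (S : Subgroup G)) (hw : w ∈ (S : Subgroup G)) :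
    ∃ e ∈ E, u * w * u⁻¹ = w * e := by
  refine ⟨u * w * u⁻¹ * w⁻¹, C.hs.comm u hu w hw, ?_⟩
  rw [((C.hs.central _ (C.hs.comm u hu w hw)) w hw).symm.eq]; group

/-- The action of the normalizer on `S / E` is that of a power of `o`. -/
theorem norm_action {n : G} (hn : n ∈ Subgroup.normalizer ((S : Subgroup G) : Set G)) :
    ∃ j : ℕ, ∀ u ∈ (S : Subgroup G), ∃ e ∈ E, n * u * n⁻¹ = o ^ j * u * (o ^ j)⁻¹ * e := by
  obtain ⟨hall, h3⟩ := C.o_cyc
  obtain ⟨k, hk⟩ : ∃ k : ℕ, o ^ k * (n * t * n⁻¹) * (o ^ k)⁻¹ = t := by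
    rcases hall _ (C.toCtx.E_normalized hn C.ht) (fun h => C.ht1 (conj_eq_one_iff.1 h)) with h | h | h
    · exact ⟨0, by rw [h]; group⟩
    · refine ⟨2, ?_⟩
      rw [h, show o ^ 2 * (o * t * o⁻¹) * (o ^ 2)⁻¹ = o ^ 3 * t * (o ^ 3)⁻¹ by rw [pow_succ o 2]; group, h3]
    · refine ⟨1, ?_⟩
      rw [h, pow_one, show o * (o ^ 2 * t * (o ^ 2)⁻¹) * o⁻¹ = o ^ 3 * t * (o ^ 3)⁻¹ by
        rw [pow_succ' o 2]; group, h3]
  have hm : o ^ k * n ∈ Ct t := mem_Ct.2 (mul_inv_eq_iff_eq_mul.1 (by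
    rw [show o ^ k * n * t * (o ^ k * n)⁻¹ = o ^ k * (n * t * n⁻¹) * (o ^ k)⁻¹ by group, hk]))
  obtain ⟨s, d, hs, hd, hdn, hdt, hsd⟩ := C.toCtx.exists_two_odd (mul_mem (C.o_pow_norm k) hn) hm
  refine ⟨2 * k, fun u hu => ?_⟩
  have hn' : n = (o ^ k)⁻¹ * s * d := by
    rw [mul_assoc, ← hsd]; group
  have h1 : d * u * d⁻¹ = u := by rw [(C.h3 d hd hdn hdt u hu).eq, mul_inv_cancel_right]
  have ho2 : ∀ w ∈ (S : Subgroup G), (o ^ k)⁻¹ * w * o ^ k = o ^ (2 * k) * w * (o ^ (2 * k))⁻¹ := by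
    intro w hw
    have hc : Commute (o ^ (3 * k)) w := by rw [pow_mul]; exact (C.o3_cent w hw).pow_left k
    calc (o ^ k)⁻¹ * w * o ^ k = (o ^ k)⁻¹ * (o ^ (3 * k) * w * (o ^ (3 * k))⁻¹) * o ^ k := by
          rw [hc.eq, mul_inv_cancel_right]
      _ = _ := by rw [show 3 * k = k + 2 * k by ring, pow_add]; group
  obtain ⟨e, he, hee⟩ := C.inner_trivial hs hu
  refine ⟨(o ^ (2 * k)) * e * (o ^ (2 * k))⁻¹, C.toCtx.E_normalized (C.o_pow_norm _) he, ?_⟩
  calc n * u * n⁻¹ = (o ^ k)⁻¹ * (s * (d * u * d⁻¹) * s⁻¹) * o ^ k := by rw [hn']; group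
    _ = _ := by
      rw [h1, hee, ho2 _ (mul_mem hu (C.hs.le he))]; group

omit C in
/-- A linear character of `S` composed with conjugation by powers of `o`, extended by zero. -/
noncomputable def mu (μ : ↥(S : Subgroup G) →* ℂˣ) (o : G) (k : ℕ) (x : G) : ℂ :=
  if hx : o ^ k * x * (o ^ k)⁻¹ ∈ (S : Subgroup G) then (μ ⟨o ^ k * x * (o ^ k)⁻¹, hx⟩ : ℂ) else 0

variable {μ : ↥(S : Subgroup G) →* ℂˣ}

theorem mu_mul {x y : G} (hx : x ∈ (S : Subgroup G)) (hy : y ∈ (S : Subgroup G)) (k : ℕ) :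
    mu μ o k (x * y) = mu μ o k x * mu μ o k y := by
  rw [mu, mu, mu, dif_pos (C.o_mem (mul_mem hx hy) k), dif_pos (C.o_mem hx k), dif_pos (C.o_mem hy k),
    ← Units.val_mul, ← map_mul]
  congr 2
  exact Subtype.ext (by simp only [Subgroup.coe_mul]; group)

theorem mu_E (hμE : ∀ z : ↥(S : Subgroup G), (z : G) ∈ E → μ z = 1) {e : G} (he : e ∈ E) (k : ℕ) :
    mu μ o k e = 1 := by
  rw [mu, dif_pos (C.o_mem (C.hs.le he) k), hμE _ (C.toCtx.E_normalized (C.o_pow_norm k) he),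
    Units.val_one]

theorem mu_real (hμE : ∀ z : ↥(S : Subgroup G), (z : G) ∈ E → μ z = 1) {x : G}
    (hx : x ∈ (S : Subgroup G)) (k : ℕ) : conj (mu μ o k x) = mu μ o k x ∧ mu μ o k x * mu μ o k x = 1 := by
  have h2 : mu μ o k x * mu μ o k x = 1 := by
    rw [← C.mu_mul hx hx, C.mu_E hμE (C.hs.sq x hx)]
  refine ⟨?_, h2⟩
  rcases mul_self_eq_one_iff.1 h2 with h | h <;> rw [h] <;> simp

theorem mu_three {x : G} (hx : x ∈ (S : Subgroup G)) (k : ℕ) :
    mu μ o (k + 3) x = mu μ o k x := by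
  have : o ^ (k + 3) * x * (o ^ (k + 3))⁻¹ = o ^ k * x * (o ^ k)⁻¹ := by
    rw [pow_add, show o ^ k * o ^ 3 * x * (o ^ k * o ^ 3)⁻¹ = o ^ k * (o ^ 3 * x * (o ^ 3)⁻¹) * (o ^ k)⁻¹ by
      group, (C.o3_cent x hx).eq, mul_inv_cancel_right]
  simp only [mu, this]

omit C in
theorem mu_shift (μ : ↥(S : Subgroup G) →* ℂˣ) (o x : G) (k j : ℕ) :
    mu μ o k (o ^ j * x * (o ^ j)⁻¹) = mu μ o (k + j) x := by
  have : o ^ k * (o ^ j * x * (o ^ j)⁻¹) * (o ^ k)⁻¹ = o ^ (k + j) * x * (o ^ (k + j))⁻¹ := by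
    rw [pow_add]; group
  simp only [mu, this]

omit C in
/-- The sum of the three conjugate linear characters. -/
noncomputable def msum (μ : ↥(S : Subgroup G) →* ℂˣ) (o x : G) : ℂ :=
  mu μ o 0 x + mu μ o 1 x + mu μ o 2 x

theorem msum_shift {x : G} (hx : x ∈ (S : Subgroup G)) (j : ℕ) :
    msum μ o (o ^ j * x * (o ^ j)⁻¹) = msum μ o x := by
  induction j with
  | zero => simp
  | succ j ih =>
    rw [← ih, show o ^ (j + 1) * x * (o ^ (j + 1))⁻¹ = o ^ 1 * (o ^ j * x * (o ^ j)⁻¹) * (o ^ 1)⁻¹ by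
      rw [pow_succ']; group]
    simp only [msum, mu_shift μ o (o ^ j * x * (o ^ j)⁻¹) _ 1]
    rw [show 2 + 1 = 0 + 3 from rfl, C.mu_three (C.o_mem hx j)]
    ring

theorem msum_norm (hμE : ∀ z : ↥(S : Subgroup G), (z : G) ∈ E → μ z = 1) {n u : G}
    (hn : n ∈ Subgroup.normalizer ((S : Subgroup G) : Set G)) (hu : u ∈ (S : Subgroup G)) :
    msum μ o (n * u * n⁻¹) = msum μ o u := by
  obtain ⟨j, hj⟩ := C.norm_action hn
  obtain ⟨e, he, hee⟩ := hj u hu
  rw [hee, ← C.msum_shift hu j]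
  simp only [msum, C.mu_mul (C.o_mem hu j) (C.hs.le he), C.mu_E hμE he, mul_one]

theorem msum_E (hμE : ∀ z : ↥(S : Subgroup G), (z : G) ∈ E → μ z = 1) {e : G} (he : e ∈ E) :
    msum μ o e = 3 := by
  simp only [msum, C.mu_E hμE he]; norm_num

theorem exists_mu : ∃ μ : ↥(S : Subgroup G) →* ℂˣ,
    (∀ z : ↥(S : Subgroup G), (z : G) ∈ E → μ z = 1) ∧
      ∀ i j : ℕ, i < 3 → j < 3 → i ≠ j →
        ∑ s : ↥(S : Subgroup G), mu μ o i s * mu μ o j s = 0 := by
  set Z := E.subgroupOf (S : Subgroup G)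
  haveI : Z.Normal := ⟨fun z hz x => Subgroup.mem_subgroupOf.2 (by
    simp only [Subgroup.coe_mul, InvMemClass.coe_inv]
    rw [← (C.hs.central _ (Subgroup.mem_subgroupOf.1 hz) _ x.2).eq, mul_inv_cancel_right]
    exact Subgroup.mem_subgroupOf.1 hz)⟩
  have hidx : 2 ≤ Z.index := by
    have := Z.card_mul_index
    rw [Nat.card_congr (Subgroup.subgroupOfEquivOfLe C.hs.le).toEquiv, C.hs.cardE, C.hs.cardS] at this
    omega
  obtain ⟨μ, hμ, hμ1⟩ := exists_linear Z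
    (fun x y => Subgroup.mem_subgroupOf.2 (C.hs.comm _ x.2 _ y.2)) hidx
  have hμE : ∀ z : ↥(S : Subgroup G), (z : G) ∈ E → μ z = 1 :=
    fun z hz => hμ z (Subgroup.mem_subgroupOf.2 hz)
  refine ⟨μ, hμE, ?_⟩
  -- `μ` is moved by `o`
  have hmove : ¬ ∀ x : ↥(S : Subgroup G), mu μ o 1 x = mu μ o 0 x := by
    intro hfix
    set ψ : ↥(S : Subgroup G) → ↥(S : Subgroup G) ⧸ Z := fun x =>
      QuotientGroup.mk ⟨o ^ 1 * x * (o ^ 1)⁻¹ * (x : G)⁻¹, mul_mem (C.o_mem x.2 1) (inv_mem x.2)⟩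
    have hψ : ∀ x y : ↥(S : Subgroup G), ψ x = ψ y → (QuotientGroup.mk x : _ ⧸ Z) = QuotientGroup.mk y := by
      intro x y h
      rw [QuotientGroup.eq, Subgroup.mem_subgroupOf] at h
      rw [QuotientGroup.eq, Subgroup.mem_subgroupOf]
      simp only [Subgroup.coe_mul, InvMemClass.coe_inv] at h ⊢
      set v := (x : G)⁻¹ * (y : G) with hv
      have hvS : v ∈ (S : Subgroup G) := mul_mem (inv_mem x.2) y.2
      obtain ⟨e1, he1, h1⟩ := C.inner_trivial x.2 (mul_mem (C.o_mem hvS 1) (inv_mem hvS))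
      have hve : o ^ 1 * v * (o ^ 1)⁻¹ * v⁻¹ ∈ E := by
        have h2 : (x : G) * (o ^ 1 * v * (o ^ 1)⁻¹ * v⁻¹) * (x : G)⁻¹ ∈ E := by
          have h3 : ∀ w ∈ (S : Subgroup G), ∀ e ∈ E, w * e * w⁻¹ ∈ E := fun w hw e he => by
            rw [← (C.hs.central e he w hw).eq, mul_inv_cancel_right]; exact he
          set A := o ^ 1 * (x : G) * (o ^ 1)⁻¹ * (x : G)⁻¹
          have hA : A ∈ (S : Subgroup G) := mul_mem (C.o_mem x.2 1) (inv_mem x.2)
          have hB : o ^ 1 * v * (o ^ 1)⁻¹ * v⁻¹ ∈ (S : Subgroup G) :=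
            mul_mem (C.o_mem hvS 1) (inv_mem hvS)
          have e2 : A⁻¹ * (o ^ 1 * (y : G) * (o ^ 1)⁻¹ * (y : G)⁻¹) =
              (x : G) * (o ^ 1 * v * (o ^ 1)⁻¹ * v⁻¹) * (x : G)⁻¹ := by
            simp only [A, hv]; group
          rw [← e2]; exact h
        have := (Subgroup.mem_normalizer_iff.1 (Subgroup.le_normalizer x.2) (o ^ 1 * v * (o ^ 1)⁻¹ * v⁻¹)).2
        rw [h1] at h2
        have h4 := mul_mem h2 (inv_mem he1)
        rwa [mul_inv_cancel_right] at h4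
      rw [pow_one] at hve
      by_contra hvE
      have hsq : o * (v * v) * o⁻¹ = v * v := by
        set e := o * v * o⁻¹ * v⁻¹
        calc o * (v * v) * o⁻¹ = (e * v) * (e * v) := by simp only [e]; group
          _ = e * (v * e) * v := by group
          _ = (e * e) * (v * v) := by rw [← (C.hs.central e hve v hvS).eq]; group
          _ = v * v := by rw [C.hs.esq e hve, one_mul]
      exact C.not_fixed (C.hs.sq v hvS) (fun h => hvE (C.hs.invol v hvS h)) hsq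
    let Ψ : ↥(S : Subgroup G) ⧸ Z → ↥(S : Subgroup G) ⧸ Z := fun q => ψ q.out
    have hinj : Function.Injective Ψ := fun p q h => by
      have := hψ _ _ h
      rwa [QuotientGroup.out_eq', QuotientGroup.out_eq'] at this
    apply hμ1
    refine MonoidHom.ext fun y => ?_
    obtain ⟨q, hq⟩ := (Finite.injective_iff_surjective.1 hinj) (QuotientGroup.mk y)
    have hm := (QuotientGroup.eq.1 hq)
    have h5 := hμ _ hm
    rw [map_mul, map_inv, inv_mul_eq_one] at h5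
    rw [MonoidHom.one_apply, ← h5]
    refine Units.ext ?_
    have h6 := hfix q.out
    rw [mu, mu, dif_pos (C.o_mem q.out.2 1), dif_pos (C.o_mem q.out.2 0), Units.val_inj] at h6
    have e7 : (⟨o ^ 1 * q.out * (o ^ 1)⁻¹ * (q.out : G)⁻¹, mul_mem (C.o_mem q.out.2 1) (inv_mem q.out.2)⟩ :
        ↥(S : Subgroup G)) = ⟨o ^ 1 * q.out * (o ^ 1)⁻¹, C.o_mem q.out.2 1⟩ * q.out⁻¹ := Subtype.ext rfl
    rw [e7, map_mul, h6, map_inv]
    have e8 : (⟨o ^ 0 * q.out * (o ^ 0)⁻¹, C.o_mem q.out.2 0⟩ : ↥(S : Subgroup G)) = q.out :=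
      Subtype.ext (by simp)
    rw [e8, mul_inv_cancel]
  intro i j hi hj hij
  let ν : ↥(S : Subgroup G) →* ℂ :=
    { toFun := fun s => mu μ o i s * mu μ o j s
      map_one' := by rw [OneMemClass.coe_one, C.mu_E hμE (one_mem _), C.mu_E hμE (one_mem _), one_mul]
      map_mul' := fun a b => by
        rw [Subgroup.coe_mul, C.mu_mul a.2 b.2, C.mu_mul a.2 b.2]; ring }
  have hν1 : ν.toHomUnits ≠ 1 := by
    intro h
    have heq : ∀ x ∈ (S : Subgroup G), mu μ o i x = mu μ o j x := by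
      intro x hx
      have h1 : mu μ o i x * mu μ o j x = 1 :=
        congrArg (fun f : ↥(S : Subgroup G) →* ℂˣ => (f ⟨x, hx⟩ : ℂ)) h
      have h2 := (C.mu_real hμE hx j).2
      calc mu μ o i x = mu μ o i x * (mu μ o j x * mu μ o j x) := by rw [h2, mul_one]
        _ = _ := by rw [← mul_assoc, h1, one_mul]
    refine hmove fun x => ?_
    -- shift so that the exponents become `0` and `1`
    have hshift : ∀ m : ℕ, mu μ o (i + m) x = mu μ o (j + m) x := fun m => by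
      have := heq _ (C.o_mem x.2 m)
      rwa [mu_shift, mu_shift] at this
    have h0 : ∀ k : ℕ, mu μ o (k + 3) x = mu μ o k x := fun k => C.mu_three x.2 k
    interval_cases i <;> interval_cases j <;> first
      | exact absurd rfl hij
      | exact (hshift 0).symm
      | exact hshift 0
      | exact (h0 1).symm.trans ((hshift 2).trans (h0 0)) | exact (h0 1).symm.trans ((hshift 2).symm.trans (h0 0))
      | exact (h0 1).symm.trans ((hshift 4).trans (h0 0)) | exact (h0 1).symm.trans ((hshift 4).symm.trans (h0 0))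
      | (have a1 := hshift 1; have a2 := hshift 2; have b0 := h0 0; have b1 := h0 1
         simp only [Nat.reduceAdd] at a1 a2 b0 b1 ⊢
         first
           | exact (a1.trans b0).symm.symm
           | exact (b0.symm.trans a1).symm)
  have h := sum_conj_hom ν.toHomUnits hν1
  rw [← map_sum, map_eq_zero] at h
  exact h

end Cyc

end Cfsg.Lib.PiHom.U34
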